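import Mathlib
import Groth.Agent.UnivOpenAtLib.Immediate

/-!
# Constructible sets containing all generizations of a point are neighbourhoods
-/

set_option autoImplicit false
set_option linter.style.haveILetI false

open CategoryTheory AlgebraicGeometry Topology TopologicalSpace

universe u

namespace Groth.Agent.OpenDim

theorem exists_specializes_of_mem_closure {X : Type*} [TopologicalSpace X] [NoetherianSpace X] [QuasiSober X]
    {D : Set X} (hD : IsConstructible D) {y : X} (hy : y ∈ closure D) : ∃ d ∈ D, d ⤳ y := by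
  classical
  obtain ⟨S, hSfin, hScl, hSirr, hSeq⟩ :=
    NoetherianSpace.exists_finite_set_isClosed_irreducible (s := closure D) isClosed_closure
  -- pick an inclusion-maximal member through `y`
  obtain ⟨Z₀, hZ₀S, hyZ₀⟩ : ∃ Z ∈ S, y ∈ Z := by rw [hSeq] at hy; exact hy
  obtain ⟨Z, hZ₀Z, hZmax⟩ := hSfin.exists_le_maximal hZ₀S
  obtain ⟨g, hg⟩ := QuasiSober.sober (hSirr Z hZmax.1) (hScl Z hZmax.1)
  refine ⟨g, ?_, hg.specializes (hZ₀Z hyZ₀)⟩
  by_contra hgD
  obtain ⟨O, hO, hgO, hOsub⟩ := UnivOpenAtLib.exists_open_closure_inter_subset g Dᶜ hD.compl hgD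
  let T : Set X := ⋃ W ∈ S \ {Z}, W
  have hT : IsClosed T := hSfin.sdiff.isClosed_biUnion fun W hW => hScl W hW.1
  have hgT : g ∉ T := fun h => by
    obtain ⟨W, ⟨hW, hne⟩, hgW⟩ := Set.mem_iUnion₂.1 h
    have hsub : Z ⊆ W := hg.def ▸ closure_minimal (Set.singleton_subset_iff.2 hgW) (hScl W hW)
    exact hne ((hZmax.2 hW hsub).antisymm hsub)
  have hgcl : g ∈ closure D := by rw [hSeq]; exact ⟨Z, hZmax.1, hg.mem⟩
  obtain ⟨d, ⟨hdO, hdT⟩, hdD⟩ := mem_closure_iff.1 hgcl (O ∩ Tᶜ) (hO.inter hT.isOpen_compl) ⟨hgO, hgT⟩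
  have hdZ : d ∈ closure ({g} : Set X) := by
    rw [hg.def]
    obtain ⟨W, hW, hdW⟩ : ∃ W ∈ S, d ∈ W := by
      have : d ∈ closure D := subset_closure hdD
      rw [hSeq] at this; exact this
    by_cases h : W = Z
    · exact h ▸ hdW
    · exact absurd (Set.mem_iUnion₂.2 ⟨W, ⟨hW, h⟩, hdW⟩) hdT
  exact hOsub ⟨hdO, hdZ⟩ hdD

/-- A locally constructible set with all generizations of `y` is a neighbourhood of `y`. -/
theorem mem_nhds_of_generizations {Y : Scheme.{u}} [IsLocallyNoetherian Y] {E : Set Y}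
    (hE : IsLocallyConstructible E) (y : Y) (h : ∀ z, z ⤳ y → z ∈ E) : E ∈ nhds y := by
  obtain ⟨W, hW, hyW, -⟩ := exists_isAffineOpen_mem_and_subset (show y ∈ (⊤ : Y.Opens) from trivial)
  haveI : IsAffine W.toScheme := hW
  haveI : IsLocallyNoetherian W.toScheme := isLocallyNoetherian_of_isOpenImmersion W.ι
  haveI : IsNoetherian W.toScheme := ⟨⟩
  have hc : IsConstructible (W.ι.base ⁻¹' E) :=
    (hE.preimage_of_isOpenEmbedding W.ι.isOpenEmbedding).isConstructible
  have hnot : (⟨y, hyW⟩ : W.toScheme) ∉ closure (W.ι.base ⁻¹' E)ᶜ := fun hcl => by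
    obtain ⟨d, hd, hdy⟩ := exists_specializes_of_mem_closure hc.compl hcl
    exact hd (h _ (hdy.map W.ι.continuous))
  have h2 : W.ι.base ⁻¹' E ∈ nhds (⟨y, hyW⟩ : W.toScheme) := by
    rw [← compl_compl (W.ι.base ⁻¹' E)]
    exact Filter.mem_of_superset (isClosed_closure.isOpen_compl.mem_nhds hnot)
      (Set.compl_subset_compl.2 subset_closure)
  exact Filter.mem_of_superset (W.ι.isOpenEmbedding.isOpenMap.image_mem_nhds h2)
    (Set.image_preimage_subset _ _)

end Groth.Agent.OpenDim
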