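import Mathlib
import Groth.Agent.DimFormulaLib.Equidim
import Groth.Agent.DimFormulaLib.Misc
import Groth.Prelude.Def_EGA43

/-!
# Openness at a point and dimensions of fibres, affine form (EGA IV 14.2)

If every generization of `p = P ∩ A` lifts to a generization of `P`, and `P` is a generic point of
its fibre of transcendence degree `e`, then over every generization `p₀` of `p` some generization
of `P` is generic in its fibre with transcendence degree exactly `e`.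
-/

set_option autoImplicit false
set_option linter.style.haveILetI false

universe u

open PrimeSpectrum

namespace Groth.Agent.OpenDim

open Groth.Agent.DimFormulaLib

variable {A B : Type u} [CommRing A] [CommRing B] [Algebra A B]

local notation "π*" => PrimeSpectrum.comap (algebraMap A B)

/-- Generizations of the image lift. -/
def Lifts (P : PrimeSpectrum B) : Prop :=
  ∀ p₀ ≤ π* P, ∃ P' ≤ P, π* P' = p₀

theorem lifts_of_isOpenAt [IsNoetherianRing B] (P : PrimeSpectrum B) (h : EGA43.IsOpenAt (π*) P) : Lifts (A := A) P := by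
  classical
  intro p₀ hp₀
  have hfin := (p₀.asIdeal.map (algebraMap A B)).finite_minimalPrimes_of_isNoetherianRing
  have hex : ∀ R : Ideal B, ∃ g ∉ P.asIdeal, ¬ R ≤ P.asIdeal → g ∈ R := fun R => by
    by_cases hR : R ≤ P.asIdeal
    · exact ⟨1, fun h1 => P.isPrime.ne_top ((Ideal.eq_top_iff_one _).2 h1), fun h1 => absurd hR h1⟩
    · obtain ⟨g, hg, hgP⟩ := SetLike.not_le_iff_exists.1 hR
      exact ⟨g, hgP, fun _ => hg⟩
  choose g hgP hg using hex
  let G : B := ∏ R ∈ hfin.toFinset, g R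
  have hG : G ∉ P.asIdeal := fun hG => by
    obtain ⟨R, -, hR⟩ := P.isPrime.prod_mem_iff.1 hG
    exact hgP R hR
  have hU : π* '' (PrimeSpectrum.basicOpen G : Set (PrimeSpectrum B)) ∈ nhds (π* P) :=
    h _ ((PrimeSpectrum.basicOpen G).isOpen.mem_nhds hG)
  obtain ⟨P', hP', hP'p⟩ := mem_of_mem_nhds
    (((PrimeSpectrum.le_iff_specializes _ _).1 hp₀).nhds_le_nhds hU)
  obtain ⟨R, hR, hRP'⟩ := Ideal.exists_minimalPrimes_le
    (I := p₀.asIdeal.map (algebraMap A B)) (J := P'.asIdeal)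
    (Ideal.map_le_iff_le_comap.2 (congrArg PrimeSpectrum.asIdeal hP'p).ge)
  have hRP : R ≤ P.asIdeal := by
    by_contra hR'
    exact hP' (hRP' (R.mem_of_dvd (Finset.dvd_prod_of_mem g (hfin.mem_toFinset.2 hR)) (hg R hR')))
  refine ⟨⟨R, hR.1.1⟩, hRP, PrimeSpectrum.ext (le_antisymm ?_ (Ideal.map_le_iff_le_comap.1 hR.1.2))⟩
  exact (Ideal.comap_mono hRP').trans (congrArg PrimeSpectrum.asIdeal hP'p).le

variable [IsNoetherianRing A] [Algebra.FiniteType A B]

theorem exists_over_trdeg_ge_of_lifts (P : PrimeSpectrum B) (e : ℕ)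
    (he : Algebra.trdeg (A ⧸ (π* P).asIdeal) (B ⧸ P.asIdeal) = e) (hlift : Lifts (A := A) P) :
    ∀ p₀ ≤ π* P, ∃ (R : PrimeSpectrum B) (t : ℕ), R ≤ P ∧ π* R = p₀ ∧ e ≤ t ∧
      Algebra.trdeg (A ⧸ (π* R).asIdeal) (B ⧸ R.asIdeal) = t := by
  classical
  haveI : IsNoetherianRing B := Algebra.FiniteType.isNoetherianRing A B
  suffices ∀ (I : Ideal A) (p₀ : PrimeSpectrum A), p₀.asIdeal = I → p₀ ≤ π* P →
      ∃ (R : PrimeSpectrum B) (t : ℕ), R ≤ P ∧ π* R = p₀ ∧ e ≤ t ∧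
        Algebra.trdeg (A ⧸ (π* R).asIdeal) (B ⧸ R.asIdeal) = t from
    fun p₀ h => this _ p₀ rfl h
  intro I
  induction I using WellFoundedGT.induction with
  | _ I ih =>
  rintro p₀ rfl hp₀
  rcases eq_or_lt_of_le hp₀ with heq | hlt
  · exact ⟨P, e, le_rfl, heq.symm, le_rfl, he⟩
  have hfin := (p₀.asIdeal.map (algebraMap A B)).finite_minimalPrimes_of_isNoetherianRing
  let Ex : Finset (Ideal A) := insert p₀.asIdeal
    ((hfin.toFinset.filter fun R => R ≤ P.asIdeal ∧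
      R.comap (algebraMap A B) ≠ (π* P).asIdeal).image fun R => R.comap (algebraMap A B))
  have hEx : ∀ J ∈ Ex, J.IsPrime ∧ p₀.asIdeal ≤ J ∧ J < (π* P).asIdeal := by
    intro J hJ
    rcases Finset.mem_insert.1 hJ with rfl | hJ
    · exact ⟨p₀.isPrime, le_rfl, lt_of_le_of_ne hp₀ fun h => hlt.ne (PrimeSpectrum.ext h)⟩
    · obtain ⟨R, hR, rfl⟩ := Finset.mem_image.1 hJ
      obtain ⟨hRmem, hRP, hne⟩ := Finset.mem_filter.1 hR
      have hRmin := hfin.mem_toFinset.1 hRmem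
      haveI := hRmin.1.1
      exact ⟨inferInstance, Ideal.map_le_iff_le_comap.1 hRmin.1.2,
        lt_of_le_of_ne (Ideal.comap_mono hRP) hne⟩
  obtain ⟨x, hxp, hx⟩ : ∃ x ∈ (π* P).asIdeal, ∀ J ∈ Ex, x ∉ J := by
    by_contra! hcon
    obtain ⟨J, hJ, hle⟩ := (Ideal.subset_union_prime (s := Ex) (f := id) ⊥ ⊥
      fun J hJ _ _ => (hEx J hJ).1).1 (fun x hx => by
        obtain ⟨J, hJ, hxJ⟩ := hcon x hx
        exact Set.mem_biUnion (x := J) hJ hxJ)
    exact (hEx J hJ).2.2.not_ge hle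
  obtain ⟨Q, hQ, hQP⟩ := Ideal.exists_minimalPrimes_le (I := p₀.asIdeal ⊔ Ideal.span {x})
    (J := (π* P).asIdeal) (sup_le hp₀ (by rwa [Ideal.span_singleton_le_iff_mem]))
  haveI := hQ.1.1
  let p' : PrimeSpectrum A := ⟨Q, inferInstance⟩
  have hxQ : x ∈ Q := hQ.1.2 (Ideal.mem_sup_right (Ideal.mem_span_singleton_self x))
  have hp₀Q : p₀.asIdeal ≤ Q := le_sup_left.trans hQ.1.2
  have hlt' : p₀.asIdeal < Q := lt_of_le_of_ne hp₀Q fun h =>
    hx _ (Finset.mem_insert_self _ _) (h.symm ▸ hxQ)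
  have hb1 : relHeight p₀ p' ≤ 1 := by
    rw [relHeight]
    refine Ideal.height_le_one_of_isPrincipal_of_mem_minimalPrimes
      (Ideal.span {Ideal.Quotient.mk p₀.asIdeal x}) _ ⟨⟨Ideal.map_isPrime_of_surjective
        Ideal.Quotient.mk_surjective (by rw [Ideal.mk_ker]; exact hp₀Q), ?_⟩, fun J hJ hJQ => ?_⟩
    · rw [Ideal.span_singleton_le_iff_mem]
      exact Ideal.mem_map_of_mem _ hxQ
    · haveI := hJ.1
      refine Ideal.map_le_iff_le_comap.2 (hQ.2 ⟨inferInstance, sup_le ?_ ?_⟩ ?_)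
      · intro a ha
        rw [Ideal.mem_comap, Ideal.Quotient.eq_zero_iff_mem.2 ha]
        exact J.zero_mem
      · rw [Ideal.span_singleton_le_iff_mem]
        exact hJ.2 (Ideal.mem_span_singleton_self _)
      · refine (Ideal.comap_mono hJQ).trans (le_of_eq ?_)
        rw [Ideal.comap_map_of_surjective' _ Ideal.Quotient.mk_surjective, Ideal.mk_ker,
          sup_eq_left.2 hp₀Q]
  obtain ⟨R₀, R', t', hR₀R', hR'P, h4, hR'p, het', ht'⟩ : ∃ (R₀ R' : PrimeSpectrum B) (t' : ℕ),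
      R₀ ≤ R' ∧ R' ≤ P ∧ π* R₀ = p₀ ∧ π* R' = p' ∧ e ≤ t' ∧
        Algebra.trdeg (A ⧸ (π* R').asIdeal) (B ⧸ R'.asIdeal) = t' := by
    by_cases hpe : p' = π* P
    · obtain ⟨P', hP', hP'p⟩ := hlift p₀ hp₀
      exact ⟨P', P, e, hP', le_rfl, hP'p, hpe.symm, le_rfl, he⟩
    obtain ⟨R', t', hR'P, hR'p, het', ht'⟩ := ih Q hlt' p' rfl hQP
    obtain ⟨R, hR, hRR'⟩ := Ideal.exists_minimalPrimes_le (I := p₀.asIdeal.map (algebraMap A B))
      (J := R'.asIdeal) (Ideal.map_le_iff_le_comap.2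
        (hp₀Q.trans (congrArg PrimeSpectrum.asIdeal hR'p).ge))
    haveI := hR.1.1
    let R₀ : PrimeSpectrum B := ⟨R, inferInstance⟩
    refine ⟨R₀, R', t', hRR', hR'P, ?_, hR'p, het', ht'⟩
    have h1 : p₀ ≤ π* R₀ := Ideal.map_le_iff_le_comap.1 hR.1.2
    have h2 : π* R₀ ≤ p' := (Ideal.comap_mono hRR').trans (congrArg PrimeSpectrum.asIdeal hR'p).le
    have hxR : x ∉ (π* R₀).asIdeal := hx _ (Finset.mem_insert_of_mem (Finset.mem_image.2
      ⟨R, Finset.mem_filter.2 ⟨hfin.mem_toFinset.2 hR, hRR'.trans hR'P, fun h =>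
        hpe (PrimeSpectrum.ext (le_antisymm hQP ((show (π* R₀).asIdeal = _ from h).ge.trans h2)))⟩,
        rfl⟩))
    have h3 : π* R₀ < p' := lt_of_le_of_ne h2 fun h => hxR (by rw [h]; exact hxQ)
    by_contra hne
    have a1 := one_add_relHeight_le (lt_of_le_of_ne h1 (Ne.symm hne)) h2
    have a2 := one_add_relHeight_le h3 (le_refl p')
    rw [relHeight_self, zero_add] at a2
    exact absurd ((add_le_add a2 le_rfl).trans (a1.trans hb1)) (by norm_num)
  obtain ⟨t, ht⟩ := exists_nat_trdeg_quotient_pair (A := A) R₀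
  refine ⟨R₀, t, hR₀R'.trans hR'P, h4, ?_, ht⟩
  obtain ⟨a, b, ha, hb, hle, -⟩ := formula_component hR₀R' t t' ht ht'
  rw [h4, hR'p] at hb
  have hb' : b ≤ 1 := by
    rw [hb] at hb1
    exact_mod_cast hb1
  have hRlt : R₀ < R' := lt_of_le_of_ne hR₀R' fun h =>
    hlt'.ne (congrArg PrimeSpectrum.asIdeal (h4.symm.trans ((congrArg π* h).trans hR'p)))
  have ha' := one_add_relHeight_le hRlt le_rfl
  rw [relHeight_self, zero_add, ha] at ha'
  have ha1 : 1 ≤ a := by exact_mod_cast ha'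
  omega

omit [IsNoetherianRing A] in
/-- A prime minimal in its fibre has as local fibre dimension its transcendence degree, and bounds
the degrees of all its generizations. -/
theorem trdeg_le_of_le_minimal (P : PrimeSpectrum B) (e : ℕ)
    (he : Algebra.trdeg (A ⧸ (π* P).asIdeal) (B ⧸ P.asIdeal) = e)
    (hmin : ∀ P' ≤ P, π* P' = π* P → P' = P) (R : PrimeSpectrum B) (hR : R ≤ P) (t : ℕ)
    (ht : Algebra.trdeg (A ⧸ (π* R).asIdeal) (B ⧸ R.asIdeal) = t) : t ≤ e := by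
  let p := π* P
  haveI : P.asIdeal.LiesOver p.asIdeal := ⟨rfl⟩
  let f := PrimeSpectrum.preimageEquivFiber A B p
  let Q := f ⟨P, rfl⟩
  have hQ : Q.asIdeal.comap (Algebra.TensorProduct.includeRight : B →ₐ[A] p.asIdeal.Fiber B).toRingHom =
      P.asIdeal := congrArg (fun z => z.1.asIdeal) (f.symm_apply_apply ⟨P, rfl⟩)
  obtain ⟨r, hr⟩ := exists_nat_trdeg_quotient p.asIdeal.ResidueField (p.asIdeal.Fiber B) Q.asIdeal
  obtain ⟨a, -, hn, -⟩ := localDim_eq_height_add p.asIdeal.ResidueField (p.asIdeal.Fiber B) Q r hr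
  obtain ⟨P', hP', hP'p, -, hP'n⟩ := exists_fibre_component P Q hQ _ hn
  rw [hmin P' hP' hP'p, he] at hP'n
  have h1 := trdeg_le_localDim_fibre R.asIdeal P.asIdeal hR p.asIdeal Q hQ _ hn
  have h2 : (t : Cardinal.{u}) ≤ (e : Cardinal.{u}) := by rw [hP'n, ← ht]; exact h1
  exact_mod_cast h2

/-- EGA IV 14.2.? : over each generization of the image some generization is generic in its fibre
with the same transcendence degree. -/
theorem exists_component_trdeg_eq (P : PrimeSpectrum B) (e : ℕ)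
    (he : Algebra.trdeg (A ⧸ (π* P).asIdeal) (B ⧸ P.asIdeal) = e)
    (hmin : ∀ P' ≤ P, π* P' = π* P → P' = P) (hlift : Lifts (A := A) P)
    (p₀ : PrimeSpectrum A) (hp₀ : p₀ ≤ π* P) :
    ∃ R : PrimeSpectrum B, R ≤ P ∧ π* R = p₀ ∧ (∀ R' ≤ R, π* R' = p₀ → R' = R) ∧
      Algebra.trdeg (A ⧸ (π* R).asIdeal) (B ⧸ R.asIdeal) = e := by
  obtain ⟨R, t, hRP, hRp, het, ht⟩ := exists_over_trdeg_ge_of_lifts P e he hlift p₀ hp₀
  have hte := le_antisymm (trdeg_le_of_le_minimal P e he hmin R hRP t ht) het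
  refine ⟨R, hRP, hRp, fun R' hR' hR'p => ?_, ht.trans (by rw [hte])⟩
  by_contra hne
  obtain ⟨t₁, ht₁⟩ := exists_nat_trdeg_quotient_pair (A := A) R'
  have h1 := trdeg_lt_of_lt_in_fibre (lt_of_le_of_ne hR' hne) (hR'p.trans hRp.symm) t₁ t ht₁ ht
  have h2 := trdeg_le_of_le_minimal P e he hmin R' (hR'.trans hRP) t₁ ht₁
  omega

end Groth.Agent.OpenDim
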