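import Mathlib
import Groth.Agent.ChevalleyOpen.Qf
import Groth.Prelude.Def_EGA43

/-!
# Universal openness at a point of a quasi-finite morphism over a geometrically unibranch point
-/

set_option autoImplicit false
set_option backward.isDefEq.respectTransparency false
set_option backward.defeqAttrib.useBackward true
set_option linter.style.haveILetI false

open CategoryTheory CategoryTheory.Limits AlgebraicGeometry Topology

universe u

namespace Groth.Agent.OpenDim

open Groth.Agent.Unibranch Groth.Agent.ChevalleyOpen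
open EtaleSplit (pt)

theorem univOpenAt_of_split {X Y : Scheme.{u}} (f : X ⟶ Y) [LocallyQuasiFinite f]
    [LocallyOfFiniteType f] (x : X)
    (H : ∀ (T : Scheme.{u}) (g : T ⟶ Y), Etale g → ∀ (V : (pullback f g).Opens),
      IsFinite (V.ι ≫ pullback.snd f g) → ∀ v, v ∈ V → pullback.fst f g v = x →
        (∀ w, w ∈ V → pullback.snd f g w = pullback.snd f g v → w = v) →
        pullback.snd f g '' (V : Set ↑(pullback f g)) ∈ 𝓝 (pullback.snd f g v)) :
    EGA43.IsUnivOpenAt f x := by
  intro Y' g₀ x' hx'x U hU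
  let h := pullback.fst f g₀
  let f' := pullback.snd f g₀
  have hc : IsPullback h f' f g₀ := IsPullback.of_hasPullback f g₀
  obtain ⟨O', hO'U, hO', hx'⟩ := mem_nhds_iff.1 hU
  refine Filter.mem_of_superset ?_ (Set.image_mono hO'U)
  show f' '' O' ∈ 𝓝 (f' x')
  let q' := EtaleSplit.geomPt (f' x')
  have hq' : f' x' = pt q' := by rw [EtaleSplit.pt_geomPt]
  obtain ⟨p', hp'⟩ := EtaleSplit.exists_gpt f' q' x' hq'
  let p : EtaleSplit.GPts f (q' ≫ g₀) := ⟨p'.1 ≫ h, by
    rw [Category.assoc, hc.w, ← Category.assoc, p'.2]⟩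
  obtain ⟨T, g, qT, hqT, V, hg, hV, -, hmem, huniq⟩ :=
    EtaleSplit.exists_split_one f (q' ≫ g₀) p ⊤ trivial (f.quasiFiniteAt _)
  obtain ⟨hv, hv₁, hvu, -⟩ := EtaleSplit.split_point_facts f g (q' ≫ g₀) qT hqT p V hmem huniq
  have himg := H T g hg V hV _ hmem (hv₁.trans (by rw [EtaleSplit.pt_comp, hp']; exact hx'x))
    fun w hw he => hvu w hw (he.trans hv)
  rw [hv] at himg
  let T' := pullback g₀ g
  let qT' : Spec (.of _) ⟶ T' := pullback.lift q' qT hqT.symm
  let g' : T' ⟶ Y' := pullback.fst g₀ g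
  haveI : Etale g' := inferInstanceAs (Etale (pullback.fst g₀ g))
  let π : pullback f' g' ⟶ pullback f g :=
    pullback.map f' g' f g h (pullback.snd g₀ g) g₀ hc.w.symm pullback.condition
  have hπ : IsPullback π (pullback.snd f' g') (pullback.snd f g) (pullback.snd g₀ g) := by
    have h₁ : IsPullback (pullback.fst f' g' ≫ h) (pullback.snd f' g') f (g' ≫ g₀) :=
      (IsPullback.of_hasPullback f' g').paste_horiz hc
    rw [show g' ≫ g₀ = pullback.snd g₀ g ≫ g from pullback.condition] at h₁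
    exact IsPullback.of_right (by rwa [show π ≫ pullback.fst f g = pullback.fst f' g' ≫ h from
      pullback.lift_fst _ _ _]) (pullback.lift_snd _ _ _) (IsPullback.of_hasPullback f g)
  haveI := hV
  haveI : IsFinite ((π ⁻¹ᵁ V).ι ≫ pullback.snd f' g') := EtaleSplit.isFinite_preimage hπ V
  have hfib : ∀ z, z ∈ π ⁻¹ᵁ V → pullback.snd f' g' z = pt qT' →
      pullback.fst f' g' z ∈ O' := by
    intro z hz hzt
    obtain ⟨r, hr⟩ := EtaleSplit.exists_gpt (pullback.snd f' g') qT' z hzt
    have h2 : (r.1 ≫ π) ≫ pullback.snd f g = qT := by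
      rw [Category.assoc, hπ.w, ← Category.assoc, r.2, pullback.lift_snd]
    have h3 : r.1 ≫ π = pullback.lift p.1 qT (p.2.trans hqT.symm) :=
      huniq ⟨r.1 ≫ π, h2⟩ (by rw [EtaleSplit.pt_comp, hr]; exact hz)
    have h4 : r.1 ≫ pullback.fst f' g' = p'.1 := by
      refine hc.hom_ext ?_ ?_
      · rw [Category.assoc, show pullback.fst f' g' ≫ h = π ≫ pullback.fst f g from
          (pullback.lift_fst _ _ _).symm, ← Category.assoc, h3, pullback.lift_fst]
      · rw [Category.assoc, pullback.condition, ← Category.assoc, r.2, pullback.lift_fst, p'.2]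
    rw [← hr, ← EtaleSplit.pt_comp, h4, hp']
    exact hx'
  have hev := EtaleSplit.eventually_forall_of_fibre (pullback.snd f' g') (π ⁻¹ᵁ V)
    (pullback.fst f' g' ⁻¹' O') (hO'.preimage (pullback.fst f' g').continuous) (pt qT') hfib
  have hpt : pullback.snd g₀ g (pt qT') = pt qT := by
    rw [← EtaleSplit.pt_comp, pullback.lift_snd]
  have hN : ∀ᶠ z in 𝓝 (pt qT'), pullback.snd g₀ g z ∈ pullback.snd f g '' (V : Set _) :=
    (pullback.snd g₀ g).continuous.continuousAt.preimage_mem_nhds (by rw [hpt]; exact himg)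
  have himage : g' '' {z | g' z ∈ f' '' O'} ∈ 𝓝 (f' x') := by
    rw [hq', show pt q' = g' (pt qT') by rw [← EtaleSplit.pt_comp, pullback.lift_fst]]
    refine g'.isOpenMap.image_mem_nhds ?_
    filter_upwards [hev, hN] with z hz ⟨a, ha, haz⟩
    obtain ⟨c, hc1, hc2⟩ := Scheme.exists_preimage_of_isPullback hπ a z haz
    refine ⟨pullback.fst f' g' c, hz c (by show π c ∈ V; rw [hc1]; exact ha) hc2, ?_⟩
    rw [← Scheme.Hom.comp_apply, pullback.condition, Scheme.Hom.comp_apply, hc2]
  exact Filter.mem_of_superset himage (by rintro _ ⟨z, hz, rfl⟩; exact hz)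

theorem univOpenAt_of_quasiFinite {X Y : Scheme.{u}} (f : X ⟶ Y) [LocallyQuasiFinite f]
    [LocallyOfFiniteType f] (x : X) (hfin : LocFinComp Y)
    (hY : CAlg2.IsGeomUnibranch (Y.presheaf.stalk (f x)))
    (hdom : ∀ ξ : X, ξ ⤳ x → (∀ ξ', ξ' ⤳ ξ → ξ' = ξ) → ∀ y, y ⤳ f ξ → y = f ξ) :
    EGA43.IsUnivOpenAt f x := by
  refine univOpenAt_of_split f x fun T g hg V hV v hv hvx hvu => ?_
  haveI := hV
  haveI := locallyQuasiFinite_of_etale g
  obtain ⟨ζ, hζv, hζ⟩ := exists_max_specializes v
  let η := pullback.snd f g ζ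
  have hfst : ∀ x', x' ⤳ pullback.fst f g ζ → x' = pullback.fst f g ζ := by
    intro x' hx'
    obtain ⟨ζ', hζ', rfl⟩ := Flat.generalizingMap (pullback.fst f g) hx'
    rw [hζ ζ' hζ']
  have hgη : f (pullback.fst f g ζ) = g η := by
    rw [← Scheme.Hom.comp_apply, pullback.condition, Scheme.Hom.comp_apply]
  have hηt : η ⤳ pullback.snd f g v := hζv.map (pullback.snd f g).continuous
  have hmax : ∀ η', η' ⤳ η → η' = η := by
    intro η' h'
    have hg' : g η' = g η := by
      rw [← hgη]
      exact hdom _ (hvx ▸ hζv.map (pullback.fst f g).continuous) hfst _ (hgη ▸ h'.map g.continuous)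
    haveI := isDiscrete_iff_discreteTopology.mp (g.isDiscrete_preimage_singleton (g η))
    exact congrArg Subtype.val (specializes_iff_eq.mp
      ((IsInducing.subtypeVal).specializes_iff (x := (⟨η', hg'⟩ : ↥(g ⁻¹' {g η})))
        (y := ⟨η, rfl⟩) |>.mp h'))
  have hYt : CAlg2.IsGeomUnibranch (Y.presheaf.stalk (g (pullback.snd f g v))) := by
    have e : g (pullback.snd f g v) = f x := by
      rw [← hvx, ← Scheme.Hom.comp_apply, ← Scheme.Hom.comp_apply, pullback.condition]
    rw [e]
    exact hY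
  refine Filter.mem_of_superset (eventually_specializes' g hfin _ hYt η hηt hmax) fun x hx => ?_
  have hcl : IsClosed (pullback.snd f g '' (V : Set ↑(pullback f g))) := by
    have h1 := (V.ι ≫ pullback.snd f g).isClosedMap.isClosed_range
    have h2 : Set.range (V.ι ≫ pullback.snd f g) = pullback.snd f g '' (V : Set _) := by
      rw [← V.range_ι, ← Set.range_comp]; rfl
    rwa [h2] at h1
  exact hx.mem_closed hcl ⟨ζ, hζv.mem_open V.2 hv, rfl⟩

end Groth.Agent.OpenDim
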