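import Mathlib
import Groth.Agent.OpenDim.Algebra
import Groth.Agent.OpenDim.Split
import Groth.Agent.ChevalleyOpen.Core
import Groth.Agent.UnivOpenAtLib.Dvr

/-!
# Universal openness at a generic point of a fibre over a geometrically unibranch point (EGA IV 14.4.1)
-/

set_option autoImplicit false
set_option linter.style.haveILetI false
set_option backward.isDefEq.respectTransparency false
set_option backward.defeqAttrib.useBackward true

open CategoryTheory AlgebraicGeometry MvPolynomial
open scoped TensorProduct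

universe u

namespace Groth.Agent.OpenDim

open Groth.Agent.ChevalleyOpen Groth.Agent.DimFormulaLib

/-- The residue extensions of a quotient are those of the algebra. -/
theorem trdeg_quotient_comap {A B : Type u} [CommRing A] [CommRing B] [Algebra A B] (I : Ideal B)
    (N : PrimeSpectrum (B ⧸ I)) :
    Algebra.trdeg (A ⧸ (PrimeSpectrum.comap (algebraMap A (B ⧸ I)) N).asIdeal) ((B ⧸ I) ⧸ N.asIdeal) =
      Algebra.trdeg
        (A ⧸ (PrimeSpectrum.comap (algebraMap A B) (PrimeSpectrum.comap (Ideal.Quotient.mk I) N)).asIdeal)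
        (B ⧸ (PrimeSpectrum.comap (Ideal.Quotient.mk I) N).asIdeal) := by
  refine (trdeg_eq_of_ringEquiv
    (Ideal.quotEquivOfEq (show
      (PrimeSpectrum.comap (algebraMap A B) (PrimeSpectrum.comap (Ideal.Quotient.mk I) N)).asIdeal =
      (PrimeSpectrum.comap (algebraMap A (B ⧸ I)) N).asIdeal from rfl))
    (RingEquiv.ofBijective (Ideal.quotientMap (I := (PrimeSpectrum.comap (Ideal.Quotient.mk I) N).asIdeal)
      N.asIdeal (Ideal.Quotient.mk I) le_rfl)
      ⟨Ideal.quotientMap_injective' le_rfl, Ideal.quotientMap_surjective Ideal.Quotient.mk_surjective⟩)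
    fun x => ?_).symm
  obtain ⟨x, rfl⟩ := Ideal.Quotient.mk_surjective x
  rfl

theorem univOpenAt_domain {A D : Type u} [CommRing A] [CommRing D] [IsDomain D] [Algebra A D]
    [Algebra.FiniteType A D] (e : ℕ) (hfin : (minimalPrimes A).Finite) (P : PrimeSpectrum D)
    (hgen : IsMin (PrimeSpectrum.comap (algebraMap A D) ⊥))
    (htr : Algebra.trdeg (A ⧸ (PrimeSpectrum.comap (algebraMap A D) ⊥).asIdeal)
      (D ⧸ (⊥ : PrimeSpectrum D).asIdeal) = e)
    (hu : ∃ (R : Type u) (_ : CommRing R) (_ : IsLocalRing R) (_ : Algebra A R),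
      IsLocalization.AtPrime R (PrimeSpectrum.comap (algebraMap A D) P).asIdeal ∧
        CAlg2.IsGeomUnibranch R)
    (p : Ideal A) [p.IsPrime] [P.asIdeal.LiesOver p]
    (Q : PrimeSpectrum (p.Fiber D))
    (hQ : Q.asIdeal.comap (Algebra.TensorProduct.includeRight : D →ₐ[A] p.Fiber D).toRingHom = P.asIdeal)
    (hn : FlatMor.localDim (PrimeSpectrum (p.Fiber D)) Q = e) :
    EGA43.IsUnivOpenAt (Spec.map (CommRingCat.ofHom (algebraMap A D))) P := by
  obtain ⟨g, hgP, φ, hqf⟩ := DimFormulaLib.exists_quasiFinite_nhd P.asIdeal p Q hQ e hn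
  let T := MvPolynomial (Fin e) A
  letI : Algebra T D := φ.toRingHom.toAlgebra
  haveI : IsScalarTower A T D := .of_algebraMap_eq fun a => (φ.commutes a).symm
  haveI : Algebra.FiniteType T D := Algebra.FiniteType.of_restrictScalars_finiteType A _ _
  haveI : Algebra.FiniteType D (Localization.Away g) :=
    IsLocalization.finiteType_of_monoid_fg (Submonoid.powers g) _
  haveI : Algebra.FiniteType T (Localization.Away g) :=
    Algebra.FiniteType.trans (inferInstance : Algebra.FiniteType T D) ‹_›
  haveI := quasiFinite_away (T := T) g hqf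
  let ψ := Spec.map (CommRingCat.ofHom (algebraMap T (Localization.Away g)))
  let α := Spec.map (CommRingCat.ofHom (C (σ := Fin e) (R := A)))
  let l := Spec.map (CommRingCat.ofHom (algebraMap D (Localization.Away g)))
  haveI : LocallyQuasiFinite ψ :=
    (HasRingHomProperty.Spec_iff (P := @LocallyQuasiFinite)).2
      (RingHom.quasiFinite_algebraMap.2 inferInstance)
  haveI : LocallyOfFiniteType ψ :=
    (HasRingHomProperty.Spec_iff (P := @LocallyOfFiniteType)).2
      (RingHom.finiteType_algebraMap.2 inferInstance)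
  haveI : Flat α :=
    (HasRingHomProperty.Spec_iff (P := @Flat)).2
      (RingHom.flat_algebraMap_iff.2 (inferInstance : Module.Flat A T))
  haveI : LocallyOfFinitePresentation α :=
    (HasRingHomProperty.Spec_iff (P := @LocallyOfFinitePresentation)).2
      (RingHom.finitePresentation_algebraMap.2 (inferInstance : Algebra.FinitePresentation A T))
  obtain ⟨ξ₀, hξ₀⟩ : P ∈ Set.range (PrimeSpectrum.comap (algebraMap D (Localization.Away g))) := by
    rw [PrimeSpectrum.localization_away_comap_range (Localization.Away g) g]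
    exact hgP
  have hψ : EGA43.IsUnivOpenAt ψ ξ₀ := by
    refine univOpenAt_of_quasiFinite ψ ξ₀
      (locFinComp_spec _ (finite_minimalPrimes_mvPolynomial hfin)) ?_ (fun ξ _ hξ => ?_)
    · letI : Algebra T ((Spec (.of T)).presheaf.stalk (ψ ξ₀)) := StructureSheaf.stalkAlgebra _ _
      haveI : IsLocalization.AtPrime ((Spec (.of T)).presheaf.stalk (ψ ξ₀))
          (PrimeSpectrum.asIdeal (ψ ξ₀)) := StructureSheaf.IsLocalization.to_stalk _ _
      obtain ⟨R, _, _, _, hR, hRu⟩ := hu
      refine GeomUniPoly.isGeomUnibranch_mvPolynomial_atPrime R (Fin e)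
        (PrimeSpectrum.comap (algebraMap A D) P).asIdeal hRu (PrimeSpectrum.asIdeal (ψ ξ₀)) ?_ _
      show ((PrimeSpectrum.asIdeal ξ₀).comap (algebraMap T (Localization.Away g))).comap C = _
      rw [← hξ₀, Ideal.comap_comap]
      show (PrimeSpectrum.asIdeal ξ₀).comap
          ((algebraMap T (Localization.Away g)).comp (algebraMap A T)) =
        ((PrimeSpectrum.asIdeal ξ₀).comap (algebraMap D (Localization.Away g))).comap (algebraMap A D)
      rw [Ideal.comap_comap, ← IsScalarTower.algebraMap_eq, ← IsScalarTower.algebraMap_eq]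
    · refine max_of_mem_minimalPrimes _ ?_
      let P' : PrimeSpectrum D := PrimeSpectrum.comap (algebraMap D (Localization.Away g)) ξ
      have hgP' : g ∉ P'.asIdeal := fun hg =>
        (PrimeSpectrum.isPrime ξ).ne_top (Ideal.eq_top_of_isUnit_mem _ hg
          (IsLocalization.Away.algebraMap_isUnit g))
      have hP' : P' = ⊥ := by
        obtain ⟨ξb, hξb⟩ : (⊥ : PrimeSpectrum D) ∈ Set.range
            (PrimeSpectrum.comap (algebraMap D (Localization.Away g))) := by
          rw [PrimeSpectrum.localization_away_comap_range (Localization.Away g) g]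
          exact fun hg => hgP' ((bot_le : (⊥ : PrimeSpectrum D) ≤ P') hg)
        have h1 : PrimeSpectrum.asIdeal ξb ≤ PrimeSpectrum.asIdeal ξ := by
          rw [← IsLocalization.map_under (Submonoid.powers g) (Localization.Away g)
              (PrimeSpectrum.asIdeal ξb),
            ← IsLocalization.map_under (Submonoid.powers g) (Localization.Away g)
              (PrimeSpectrum.asIdeal ξ)]
          refine Ideal.map_mono ?_
          show (PrimeSpectrum.comap (algebraMap D (Localization.Away g)) ξb) ≤ P'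
          rw [hξb]
          exact bot_le
        have h2 := hξ ξb ((PrimeSpectrum.le_iff_specializes _ _).1 h1)
        show PrimeSpectrum.comap (algebraMap D (Localization.Away g)) ξ = ⊥
        rw [← h2, hξb]
      let PT : Ideal T := P'.asIdeal.under T
      have hPT : PrimeSpectrum.asIdeal (ψ ξ) = PT := by
        show (PrimeSpectrum.asIdeal ξ).comap (algebraMap T (Localization.Away g)) = _
        rw [IsScalarTower.algebraMap_eq T D (Localization.Away g), ← Ideal.comap_comap]
        rfl
      rw [hPT]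
      let p₁ := (PrimeSpectrum.comap (algebraMap A D) P').asIdeal
      have htr₁ : Algebra.trdeg (A ⧸ p₁) (D ⧸ P'.asIdeal) = e := by
        revert htr
        rw [← hP']
        exact id
      haveI : P'.asIdeal.LiesOver PT := ⟨rfl⟩
      haveI : PT.LiesOver p₁ := ⟨(Ideal.under_under (A := A) (B := T) P'.asIdeal).symm⟩
      haveI : P'.asIdeal.LiesOver p₁ := ⟨rfl⟩
      haveI : Algebra.QuasiFiniteAt T P'.asIdeal := hqf P'.asIdeal hgP'
      letI : SMul (A ⧸ p₁) (T ⧸ PT) := (Ideal.Quotient.algebraOfLiesOver PT p₁).toSMul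
      letI : SMul (T ⧸ PT) (D ⧸ P'.asIdeal) :=
        (Ideal.Quotient.algebraOfLiesOver P'.asIdeal PT).toSMul
      haveI : FaithfulSMul (A ⧸ p₁) (T ⧸ PT) := Ideal.Quotient.instFaithfulSMul PT p₁
      haveI : FaithfulSMul (T ⧸ PT) (D ⧸ P'.asIdeal) := Ideal.Quotient.instFaithfulSMul P'.asIdeal PT
      haveI : IsScalarTower (A ⧸ p₁) (T ⧸ PT) (D ⧸ P'.asIdeal) :=
        IsScalarTower.of_algebraMap_eq fun a => by
          obtain ⟨a, rfl⟩ := Ideal.Quotient.mk_surjective a
          exact congrArg (Ideal.Quotient.mk P'.asIdeal) (φ.commutes a).symm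
      have htr' : Algebra.trdeg (A ⧸ p₁) (T ⧸ PT) = e := by
        rw [← trdeg_add_eq (A ⧸ p₁) (T ⧸ PT) (A := D ⧸ P'.asIdeal),
          DimFormulaLib.isAlgebraic_of_quasiFiniteAt (A := T) P'.asIdeal, add_zero] at htr₁
        exact htr₁
      rw [eq_polyExt p₁ PT htr']
      refine polyExt_mem_minimalPrimes (PrimeSpectrum.isMin_iff.1 ?_)
      rw [hP']
      exact hgen
  have hcomp : EGA43.IsUnivOpenAt (l ≫ Spec.map (CommRingCat.ofHom (algebraMap A D))) ξ₀ := by
    rw [show l ≫ Spec.map (CommRingCat.ofHom (algebraMap A D)) = ψ ≫ α by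
      rw [← Spec.map_comp, ← Spec.map_comp, ← CommRingCat.ofHom_comp, ← CommRingCat.ofHom_comp]
      congr 2
      rw [← IsScalarTower.algebraMap_eq]
      exact IsScalarTower.algebraMap_eq A T (Localization.Away g)]
    exact UnivOpenAtLib.univOpenAt_comp hψ
      (UnivOpenAtLib.universallyOpen_iff_forall.1 inferInstance _)
  have h := UnivOpenAtLib.univOpenAt_of_comp hcomp
  rwa [show l.base ξ₀ = P from hξ₀] at h

/-- EGA IV 14.4.1: a generic point of a fibre over a geometrically unibranch point through which a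
component dominating a component of the base passes with the same fibre dimension is a point of
universal openness. -/
theorem univOpenAt_of_component {A B : Type u} [CommRing A] [CommRing B] [Algebra A B]
    [Algebra.FiniteType A B] (e : ℕ) (hfin : (minimalPrimes A).Finite) (P : PrimeSpectrum B)
    (hP : Algebra.trdeg (A ⧸ (PrimeSpectrum.comap (algebraMap A B) P).asIdeal) (B ⧸ P.asIdeal) = e)
    (hmin : ∀ P' ≤ P, PrimeSpectrum.comap (algebraMap A B) P' =
      PrimeSpectrum.comap (algebraMap A B) P → P' = P)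
    (hu : ∃ (R : Type u) (_ : CommRing R) (_ : IsLocalRing R) (_ : Algebra A R),
      IsLocalization.AtPrime R (PrimeSpectrum.comap (algebraMap A B) P).asIdeal ∧
        CAlg2.IsGeomUnibranch R)
    (R : PrimeSpectrum B) (hR : R ≤ P) (hgen : IsMin (PrimeSpectrum.comap (algebraMap A B) R))
    (htr : Algebra.trdeg (A ⧸ (PrimeSpectrum.comap (algebraMap A B) R).asIdeal) (B ⧸ R.asIdeal) = e) :
    EGA43.IsUnivOpenAt (Spec.map (CommRingCat.ofHom (algebraMap A B))) P := by
  let D := B ⧸ R.asIdeal
  let π : B →+* D := Ideal.Quotient.mk R.asIdeal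
  haveI : (P.asIdeal.map π).IsPrime :=
    Ideal.map_isPrime_of_surjective Ideal.Quotient.mk_surjective (by rw [Ideal.mk_ker]; exact hR)
  let P' : PrimeSpectrum D := ⟨P.asIdeal.map π, inferInstance⟩
  have hP' : PrimeSpectrum.comap π P' = P := PrimeSpectrum.ext (by
    show (P.asIdeal.map π).comap π = P.asIdeal
    rw [Ideal.comap_map_of_surjective' _ Ideal.Quotient.mk_surjective, Ideal.mk_ker]
    exact sup_eq_left.2 hR)
  let p := PrimeSpectrum.comap (algebraMap A D) P'
  have hp : p = PrimeSpectrum.comap (algebraMap A B) P := by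
    rw [← hP', ← PrimeSpectrum.comap_comp_apply]
    rfl
  haveI : P'.asIdeal.LiesOver p.asIdeal := ⟨rfl⟩
  let f := PrimeSpectrum.preimageEquivFiber A D p
  let Q := f ⟨P', rfl⟩
  have hQ : Q.asIdeal.comap (Algebra.TensorProduct.includeRight : D →ₐ[A] p.asIdeal.Fiber D).toRingHom =
      P'.asIdeal := congrArg (fun z => z.1.asIdeal) (f.symm_apply_apply ⟨P', rfl⟩)
  obtain ⟨r, hr⟩ := exists_nat_trdeg_quotient p.asIdeal.ResidueField (p.asIdeal.Fiber D) Q.asIdeal
  obtain ⟨a, -, hn, -⟩ := localDim_eq_height_add p.asIdeal.ResidueField (p.asIdeal.Fiber D) Q r hr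
  obtain ⟨N, hN, hNp, -, hNn⟩ := exists_fibre_component P' Q hQ _ hn
  have hNP : PrimeSpectrum.comap π N = P := by
    refine hmin _ (hP' ▸ Ideal.comap_mono hN) ?_
    rw [← hp, ← PrimeSpectrum.comap_comp_apply]
    exact hNp
  rw [trdeg_quotient_comap, hNP, hP] at hNn
  have hne : a + r = e := by exact_mod_cast hNn.symm
  rw [hne] at hn
  have hbot : PrimeSpectrum.comap π ⊥ = R := PrimeSpectrum.ext (by
    show (⊥ : Ideal D).comap π = R.asIdeal
    rw [← RingHom.ker_eq_comap_bot, Ideal.mk_ker])
  have h := univOpenAt_domain e hfin P' (by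
      have e1 : PrimeSpectrum.comap (algebraMap A D) ⊥ = PrimeSpectrum.comap (algebraMap A B) R := by
        exact (PrimeSpectrum.comap_comp_apply (algebraMap A B) π ⊥).trans
          (congrArg (PrimeSpectrum.comap (algebraMap A B)) hbot)
      rw [e1]; exact hgen)
    (by rw [trdeg_quotient_comap, show PrimeSpectrum.comap (Ideal.Quotient.mk R.asIdeal) ⊥ = R from hbot]
        exact htr)
    (by rw [show PrimeSpectrum.comap (algebraMap A D) P' = _ from hp]; exact hu)
    p.asIdeal Q hQ hn
  rw [show Spec.map (CommRingCat.ofHom (algebraMap A D)) =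
      Spec.map (CommRingCat.ofHom π) ≫ Spec.map (CommRingCat.ofHom (algebraMap A B)) by
    rw [← Spec.map_comp, ← CommRingCat.ofHom_comp]; rfl] at h
  have h' := UnivOpenAtLib.univOpenAt_of_comp h
  rwa [show (Spec.map (CommRingCat.ofHom π)).base P' = P from hP'] at h'

end Groth.Agent.OpenDim
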