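import Mathlib
import Groth.Agent.OpenDim.Criterion
import Groth.Agent.GeomUniPoly.Scheme
import Groth.Agent.DimFormulaLib.Closed

/-!
# Openness at points of morphisms of schemes and dimensions of fibres (EGA IV 14.2, 14.4)
-/

set_option autoImplicit false
set_option linter.style.haveILetI false
set_option backward.isDefEq.respectTransparency false
set_option backward.defeqAttrib.useBackward true

open CategoryTheory CategoryTheory.Limits AlgebraicGeometry Topology

universe u

namespace Groth.Agent.OpenDim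

open Groth.Agent.DimFormulaLib

variable {X Y : Scheme.{u}}

/-- A generic point of a component of its fibre. -/
def MaxInFibre (f : X ⟶ Y) (x : X) : Prop :=
  ∀ x' : X, f x' = f x → x' ⤳ x → x' = x

/-- A generic point of a component. -/
def IsMaxPt (x : X) : Prop := ∀ x' : X, x' ⤳ x → x' = x

theorem exists_nat_trd (f : X ⟶ Y) [LocallyOfFiniteType f] (x : X) :
    ∃ t : ℕ, resTrdegAt f x = t := by
  obtain ⟨c⟩ := exists_chart f x
  obtain ⟨t, ht⟩ := exists_nat_trdeg_quotient_pair (A := c.A) c.q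
  exact ⟨t, c.resTrdegAt_self.trans ht⟩

theorem minInFibre_of_maxInFibre {f : X ⟶ Y} {x : X} (c : Chart f x) (h : MaxInFibre f x)
    (P : PrimeSpectrum c.B) (hP : P ≤ c.q)
    (hp : PrimeSpectrum.comap (algebraMap c.A c.B) P = PrimeSpectrum.comap (algebraMap c.A c.B) c.q) :
    P = c.q := by
  refine c.j.isOpenEmbedding.injective ((h _ ?_ (c.specializes hP)).trans c.hq.symm)
  rw [c.apply_j, hp]
  exact c.hp

theorem isOpenAt_chart {f : X ⟶ Y} {x : X} (c : Chart f x) (h : EGA43.IsOpenAt f.base x) :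
    EGA43.IsOpenAt (PrimeSpectrum.comap (algebraMap c.A c.B)) c.q := by
  intro U hU
  have h1 : c.j '' U ∈ 𝓝 x := by
    have := c.j.isOpenEmbedding.isOpenMap.image_mem_nhds hU
    rwa [c.hq] at this
  have h2 : f.base '' (c.j '' U) ∈ 𝓝 (c.i c.p) := by rw [c.hp]; exact h _ h1
  refine Filter.mem_of_superset (c.i.continuous.continuousAt.preimage_mem_nhds h2) ?_
  rintro z ⟨_, ⟨w, hw, rfl⟩, hz⟩
  exact ⟨w, hw, c.i.isOpenEmbedding.injective ((c.apply_j w).symm.trans hz)⟩

/-- EGA IV 14.2.2: openness at a generic point of a fibre propagates the fibre dimension to every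
generization of the image. -/
theorem exists_component_trd_eq [IsLocallyNoetherian Y] (f : X ⟶ Y) [LocallyOfFiniteType f] (ζ : X)
    (hmax : MaxInFibre f ζ) (h : EGA43.IsOpenAt f.base ζ) (y' : Y) (hy' : y' ⤳ f ζ) :
    ∃ z : X, z ⤳ ζ ∧ f z = y' ∧ MaxInFibre f z ∧ resTrdegAt f z = resTrdegAt f ζ := by
  obtain ⟨c⟩ := exists_chart f ζ
  haveI := c.isNoetherianRing
  obtain ⟨(p₀ : PrimeSpectrum c.A), hp₀⟩ : y' ∈ Set.range c.i := hy'.mem_open c.i.isOpenEmbedding.isOpen_range ⟨c.p, c.hp⟩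
  have hle : p₀ ≤ PrimeSpectrum.comap (algebraMap c.A c.B) c.q :=
    c.le_of_specializes_base (P' := c.p) (by rw [hp₀, c.hp]; exact hy')
  obtain ⟨e, he⟩ := exists_nat_trdeg_quotient_pair (A := c.A) c.q
  haveI : IsNoetherianRing c.B := Algebra.FiniteType.isNoetherianRing c.A c.B
  obtain ⟨R, hR, hRp, hRmin, hRe⟩ := exists_component_trdeg_eq c.q e he
    (fun P' h1 h2 => minInFibre_of_maxInFibre c hmax P' h1 h2)
    (lifts_of_isOpenAt c.q (isOpenAt_chart c h)) p₀ hle
  have hfz : f (c.j R) = y' := by rw [c.apply_j, hRp, hp₀]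
  refine ⟨c.j R, c.specializes hR, hfz, fun x' hx' hs => ?_, ?_⟩
  · obtain ⟨R', -, rfl⟩ := c.exists_le (hs.trans (c.specializes hR))
    refine congrArg c.j (hRmin R' (c.le_of_specializes hs) (c.i.isOpenEmbedding.injective ?_))
    rw [← c.apply_j, hx', hfz, hp₀]
  · rw [c.resTrdegAt_eq, hRe, c.resTrdegAt_self]
    exact he.symm

/-- EGA IV 14.4.1, sufficiency. -/
theorem univOpenAt_of_trd [IsLocallyNoetherian Y] (f : X ⟶ Y) [LocallyOfFiniteType f] (ζ : X)
    (hmax : MaxInFibre f ζ) (hu : CAlg2.IsGeomUnibranch (Y.presheaf.stalk (f ζ)))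
    (z : X) (hz : z ⤳ ζ) (hfz : IsMaxPt (f z)) (htr : resTrdegAt f z = resTrdegAt f ζ) :
    EGA43.IsUnivOpenAt f ζ := by
  obtain ⟨c⟩ := exists_chart f ζ
  haveI := c.isNoetherianRing
  obtain ⟨R, hR, rfl⟩ := c.exists_le hz
  obtain ⟨e, he⟩ := exists_nat_trdeg_quotient_pair (A := c.A) c.q
  have hgen : IsMin (PrimeSpectrum.comap (algebraMap c.A c.B) R) := fun p' hp' => by
    have h1 : c.i p' ⤳ f (c.j R) := by
      rw [c.apply_j]
      exact ((PrimeSpectrum.le_iff_specializes _ _).1 hp').map c.i.continuous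
    exact (show p' = _ from c.i.isOpenEmbedding.injective ((hfz _ h1).trans (c.apply_j R))).ge
  have hloc : ∃ (S : Type u) (_ : CommRing S) (_ : IsLocalRing S) (_ : Algebra c.A S),
      IsLocalization.AtPrime S c.p.asIdeal ∧ CAlg2.IsGeomUnibranch S := by
    obtain ⟨a, hloc⟩ := GeomUniPoly.exists_algebra_stalk (Γ := .of c.A) c.i c.p
    exact ⟨_, inferInstance, inferInstance, a, hloc, by rw [c.hp]; exact hu⟩
  have h := univOpenAt_of_component e (minimalPrimes.finite_of_isNoetherianRing c.A) c.q he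
    (fun P' h1 h2 => minInFibre_of_maxInFibre c hmax P' h1 h2) hloc R hR hgen
    (by rw [← c.resTrdegAt_eq, htr, c.resTrdegAt_self]; exact he)
  have h1 : EGA43.IsUnivOpenAt (c.j ≫ f) c.q := by
    rw [c.w]
    exact UnivOpenAtLib.univOpenAt_comp h
      (UnivOpenAtLib.universallyOpen_iff_forall.1 inferInstance _)
  have h2 := UnivOpenAtLib.univOpenAt_of_comp h1
  rwa [show c.j.base c.q = ζ from c.hq] at h2

theorem isOpenAt_of_univOpenAt {f : X ⟶ Y} {x : X} (h : EGA43.IsUnivOpenAt f x) :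
    EGA43.IsOpenAt f.base x :=
  UnivOpenAtLib.isOpenAt_of_isPullback h (IsPullback.of_horiz_isIso ⟨by simp⟩ :
    IsPullback (𝟙 X) f f (𝟙 Y)) x rfl

/-- Openness passes to specializations in the same fibre. -/
theorem isOpenAt_of_specializes {α β : Type*} [TopologicalSpace α] [TopologicalSpace β] {φ : α → β}
    {z x : α} (hz : z ⤳ x) (he : φ z = φ x) (h : EGA43.IsOpenAt φ z) : EGA43.IsOpenAt φ x :=
  fun U hU => he ▸ h U (hz.nhds_le_nhds hU)

theorem exists_max_in_fibre (f : X ⟶ Y) (x : X) :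
    ∃ ζ : X, f ζ = f x ∧ ζ ⤳ x ∧ MaxInFibre f ζ := by
  obtain ⟨w, hw, hwmax⟩ := exists_maximal_point ((f.fiberHomeo (f x)).symm ⟨x, rfl⟩)
  refine ⟨(f.fiberHomeo (f x) w).1, (f.fiberHomeo (f x) w).2, ?_, fun x' hx' hs => ?_⟩
  · have := hw.map (continuous_subtype_val.comp (f.fiberHomeo (f x)).continuous)
    rwa [Function.comp_apply, Function.comp_apply, Homeomorph.apply_symm_apply] at this
  · let w' := (f.fiberHomeo (f x)).symm ⟨x', hx'.trans (f.fiberHomeo (f x) w).2⟩
    have h1 : (f.fiberHomeo (f x) w').1 = x' := by rw [Homeomorph.apply_symm_apply]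
    have h2 : w' ⤳ w := ((IsEmbedding.subtypeVal.comp (f.fiberHomeo (f x)).isEmbedding).isInducing).specializes_iff.1
      (by show (f.fiberHomeo (f x) w').1 ⤳ _; rw [h1]; exact hs)
    rw [← h1, hwmax w' h2]

/-- Universal openness at the generic points of the fibre components through a point gives it at the
point. -/
theorem univOpenAt_of_forall_max (f : X ⟶ Y) (x : X)
    (h : ∀ ζ : X, f ζ = f x → ζ ⤳ x → MaxInFibre f ζ → EGA43.IsUnivOpenAt f ζ) :
    EGA43.IsUnivOpenAt f x := by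
  intro Y' g x' hx'
  let f' := pullback.snd f g
  let h₁ := pullback.fst f g
  obtain ⟨w, hw, hwmax⟩ := exists_maximal_point (f'.asFiber x')
  let y' := f' x'
  let y := g y'
  have hy : f x = y := by
    rw [← hx']
    show f (h₁ x') = g (f' x')
    rw [← Scheme.Hom.comp_apply, ← Scheme.Hom.comp_apply, pullback.condition]
  have sq₁ : IsPullback (f'.fiberι y' ≫ h₁) (f'.fiberToSpecResidueField y') f
      (Y'.fromSpecResidueField y' ≫ g) :=
    (IsPullback.of_hasPullback f' (Y'.fromSpecResidueField y')).paste_horiz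
      (IsPullback.of_hasPullback f g)
  have sq₂ : IsPullback (f.fiberι y) (f.fiberToSpecResidueField y) f (Y.fromSpecResidueField y) :=
    IsPullback.of_hasPullback f (Y.fromSpecResidueField y)
  have hq : Y'.fromSpecResidueField y' ≫ g =
      Spec.map (g.residueFieldMap y') ≫ Y.fromSpecResidueField y :=
    (g.SpecMap_residueFieldMap_fromSpecResidueField y').symm
  rw [hq] at sq₁
  let ρ : f'.fiber y' ⟶ f.fiber y := sq₂.lift (f'.fiberι y' ≫ h₁)
    (f'.fiberToSpecResidueField y' ≫ Spec.map (g.residueFieldMap y'))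
    (by rw [sq₁.w, Category.assoc])
  have sq₃ : IsPullback ρ (f'.fiberToSpecResidueField y') (f.fiberToSpecResidueField y)
      (Spec.map (g.residueFieldMap y')) :=
    IsPullback.of_right (by rw [sq₂.lift_fst]; exact sq₁) (sq₂.lift_snd _ _ _) sq₂
  haveI : Flat (Spec.map (g.residueFieldMap y')) := by
    refine (HasRingHomProperty.Spec_iff (P := @Flat)).2 ?_
    algebraize [(g.residueFieldMap y').hom]
    exact Module.Flat.of_free
  haveI : Flat ρ := MorphismProperty.of_isPullback sq₃.flip ‹_›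
  have hρ : ∀ v, f.fiberι y (ρ v) = h₁ (f'.fiberι y' v) := fun v => by
    rw [← Scheme.Hom.comp_apply, sq₂.lift_fst, Scheme.Hom.comp_apply]
  let z' := f'.fiberι y' w
  have hz'x' : z' ⤳ x' := by
    have := hw.map (f'.fiberι y').continuous
    rwa [f'.fiberι_asFiber] at this
  have hfz' : f' z' = y' := (f'.fiberHomeo y' w).2
  have hfz : f (h₁ z') = f x := by
    rw [hy, ← Scheme.Hom.comp_apply, pullback.condition, Scheme.Hom.comp_apply]
    exact congrArg g hfz'
  have hmax : MaxInFibre f (h₁ z') := fun x₁ hx₁ hs => by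
    obtain ⟨v, rfl⟩ : x₁ ∈ Set.range (f.fiberι y) := by
      rw [f.range_fiberι]
      exact hx₁.trans (hfz.trans hy)
    have h2 : v ⤳ ρ w := (f.fiberι y).isEmbedding.isInducing.specializes_iff.1 (by rw [hρ]; exact hs)
    obtain ⟨v', hv', rfl⟩ := Flat.generalizingMap ρ h2
    rw [hwmax v' hv', hρ]
  have hzx : h₁ z' ⤳ x := hx' ▸ hz'x'.map h₁.continuous
  exact isOpenAt_of_specializes hz'x' hfz' (h _ hfz hzx hmax Y' g z' rfl)

/-- A geometrically unibranch point lies on a single component. -/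
theorem exists_generic_of_geomUnibranch (y : Y) (h : CAlg2.IsGeomUnibranch (Y.presheaf.stalk y)) :
    ∃ η : Y, η ⤳ y ∧ IsMaxPt η ∧ ∀ y', y' ⤳ y → η ⤳ y' := by
  haveI : IsDomain (CAlg2.red (Y.presheaf.stalk y)) := h.1.1
  haveI : (nilradical (Y.presheaf.stalk y)).IsPrime :=
    Ideal.Quotient.isDomain_iff_prime (nilradical (Y.presheaf.stalk y)) |>.1 ‹_›
  let n : PrimeSpectrum (Y.presheaf.stalk y) := ⟨nilradical _, inferInstance⟩
  have hn : ∀ m, n ≤ m := fun m => nilradical_le_prime m.asIdeal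
  let φ := Y.fromSpecStalk y
  have hgen : ∀ y', y' ⤳ y → φ n ⤳ y' := fun y' hy' => by
    obtain ⟨m, rfl⟩ : y' ∈ Set.range φ := by rw [Scheme.range_fromSpecStalk]; exact hy'
    exact ((PrimeSpectrum.le_iff_specializes _ _).1 (hn m)).map φ.continuous
  have hny : φ n ⤳ y := by
    have := (Scheme.range_fromSpecStalk (X := Y) (x := y)).le ⟨n, rfl⟩
    exact this
  exact ⟨φ n, hny, fun y' hy' => (hy'.antisymm (hgen y' (hy'.trans hny))).eq, hgen⟩

/-- At a generic point of a fibre over a geometrically unibranch point openness is universal openness. -/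
theorem univOpenAt_of_isOpenAt_max [IsLocallyNoetherian Y] (f : X ⟶ Y) [LocallyOfFiniteType f]
    (ζ : X) (hmax : MaxInFibre f ζ) (hu : CAlg2.IsGeomUnibranch (Y.presheaf.stalk (f ζ)))
    (h : EGA43.IsOpenAt f.base ζ) : EGA43.IsUnivOpenAt f ζ := by
  obtain ⟨η, hη, hηmax, -⟩ := exists_generic_of_geomUnibranch _ hu
  obtain ⟨z, hz, hfz, -, htr⟩ := exists_component_trd_eq f ζ hmax h η hη
  exact univOpenAt_of_trd f ζ hmax hu z hz (hfz.symm ▸ hηmax) htr

/-- EGA IV 14.4.3: openness at the generic points of the fibre components through a point. -/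
theorem univOpenAt_of_isOpenAt_forall_max [IsLocallyNoetherian Y] (f : X ⟶ Y) [LocallyOfFiniteType f]
    (x : X) (hu : CAlg2.IsGeomUnibranch (Y.presheaf.stalk (f x)))
    (h : ∀ ζ : X, f ζ = f x → ζ ⤳ x → MaxInFibre f ζ → EGA43.IsOpenAt f.base ζ) :
    EGA43.IsUnivOpenAt f x :=
  univOpenAt_of_forall_max f x fun ζ h1 h2 h3 =>
    univOpenAt_of_isOpenAt_max f ζ h3 (h1.symm ▸ hu) (h ζ h1 h2 h3)

end Groth.Agent.OpenDim
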