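import Mathlib
import Groth.Agent.OpenDim.Scheme
import Groth.Agent.FibreDimEt.Top

/-!
# Dimensions of subsets of fibres through transcendence degrees
-/

set_option autoImplicit false
set_option linter.style.haveILetI false
set_option backward.isDefEq.respectTransparency false
set_option backward.defeqAttrib.useBackward true

open CategoryTheory AlgebraicGeometry Topology TopologicalSpace

universe u

namespace Groth.Agent.OpenDim

open Groth.Agent.DimFormulaLib

variable {X Y : Scheme.{u}} (f : X ⟶ Y)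

/-- The transcendence degree of the residue extension, as a natural number. -/
noncomputable def trd [LocallyOfFiniteType f] (x : X) : ℕ :=
  (exists_nat_trd f x).choose

theorem resTrdegAt_eq_trd [LocallyOfFiniteType f] (x : X) : resTrdegAt f x = trd f x :=
  (exists_nat_trd f x).choose_spec

theorem resTrdegAt_ι' [LocallyOfFiniteType f] {U : X.Opens} (w : U) :
    resTrdegAt (U.ι ≫ f) w = resTrdegAt f (U.ι w) := by
  obtain ⟨c⟩ := exists_chart (U.ι ≫ f) w
  rw [c.resTrdegAt_self, c.push.resTrdegAt_self]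
  rfl

theorem trd_lt [LocallyOfFiniteType f] {x x' : X} (h : x ⤳ x') (hne : x ≠ x') (hf : f x = f x') :
    trd f x' < trd f x := by
  have := trdeg_lt_of_specializes f x x' h hne hf
  rw [resTrdegAt_eq_trd, resTrdegAt_eq_trd] at this
  exact_mod_cast this

theorem trd_le [LocallyOfFiniteType f] {x x' : X} (h : x ⤳ x') (hf : f x = f x') :
    trd f x' ≤ trd f x := by
  rcases eq_or_ne x x' with rfl | hne
  · exact le_rfl
  · exact (trd_lt f h hne hf).le

theorem trd_eq_iff [LocallyOfFiniteType f] {x x' : X} :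
    resTrdegAt f x = resTrdegAt f x' ↔ trd f x = trd f x' := by
  rw [resTrdegAt_eq_trd, resTrdegAt_eq_trd, Nat.cast_inj]

/-- A generic point of a fibre component dominates the degrees of its generizations in the fibre. -/
theorem maxInFibre_iff {x : X} :
    MaxInFibre f x ↔ ∀ x' : X, f.base x' = f.base x → x ∈ closure ({x'} : Set X) → x' = x :=
  ⟨fun h x' h1 h2 => h x' h1 (specializes_iff_mem_closure.2 h2),
    fun h x' h1 h2 => h x' h1 (specializes_iff_mem_closure.1 h2)⟩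

variable [LocallyOfFiniteType f]

/-- Upper bound for the dimension of a sober subspace of a fibre. -/
theorem topologicalKrullDim_le_of_trd {T : Type u} [TopologicalSpace T] [QuasiSober T] {φ : T → X}
    (hφ : IsEmbedding φ) {y : Y} (hy : ∀ w, f (φ w) = y) {D : WithBot ℕ∞}
    (hD : ∀ w, (trd f (φ w) : WithBot ℕ∞) ≤ D) : topologicalKrullDim T ≤ D := by
  refine iSup_le fun s => ?_
  let g : Fin (s.length + 1) → T := fun i => (s i).2.genericPoint
  have hg : ∀ i, closure {g i} = (s i : Set T) := fun i =>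
    ((s i).2.isGenericPoint_genericPoint (s i).3).def
  have key : ∀ i : Fin (s.length + 1), (i : ℕ) ≤ trd f (φ (g i)) := by
    intro i
    induction i using Fin.induction with
    | zero => exact Nat.zero_le _
    | succ i ih =>
      have hlt : s (Fin.castSucc i) < s i.succ := s.step i
      have hsp : g i.succ ⤳ g (Fin.castSucc i) := by
        rw [specializes_iff_mem_closure, hg]
        exact hlt.le (hg (Fin.castSucc i) ▸ subset_closure rfl :
          g (Fin.castSucc i) ∈ (s (Fin.castSucc i) : Set T))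
      have hne : φ (g i.succ) ≠ φ (g (Fin.castSucc i)) := fun e => hlt.ne (IrreducibleCloseds.ext (by
        rw [← hg, ← hg, hφ.injective e]))
      have h2 := trd_lt f (hsp.map hφ.continuous) hne ((hy _).trans (hy _).symm)
      rw [Fin.val_succ]
      rw [Fin.val_castSucc] at ih
      omega
  refine le_trans ?_ (hD (g (Fin.last _)))
  exact_mod_cast key (Fin.last _)

/-- Lower bound for the dimension of a subspace of a fibre. -/
theorem trd_le_topologicalKrullDim {T : Type u} [TopologicalSpace T] {φ : T → X} (hφ : IsEmbedding φ)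
    (U : X.Opens) {z : X} (hz : z ∈ U)
    (hU : ∀ x ∈ U, z ⤳ x → f x = f z → x ∈ Set.range φ) :
    (trd f z : WithBot ℕ∞) ≤ topologicalKrullDim T := by
  obtain ⟨c⟩ := exists_chart (U.ι ≫ f) (⟨z, hz⟩ : U.toScheme)
  obtain ⟨m, hm⟩ := exists_nat_trdeg_quotient_pair (A := c.A) c.q
  obtain ⟨s, sh, sn, sp⟩ := exists_chain_of_trdeg c.q m hm
  have hjq : U.ι (c.j c.q) = z := by
    rw [c.hq]
    rfl
  have hm' : trd f z = m := by
    have h1 : resTrdegAt f z = m := by
      rw [← hjq, ← resTrdegAt_ι', c.hq]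
      exact c.resTrdegAt_self.trans hm
    rw [resTrdegAt_eq_trd] at h1
    exact_mod_cast h1
  let x : Fin (s.length + 1) → X := fun i => U.ι (c.j (s i))
  have hx : ∀ i, x i ∈ Set.range φ := fun i => by
    refine hU _ (c.j (s i)).2 ?_ ?_
    · rw [← hjq]
      refine (Specializes.map ?_ U.ι.continuous)
      refine ((PrimeSpectrum.le_iff_specializes c.q (s i)).1 ?_).map c.j.continuous
      rw [← sh]
      exact s.monotone (Fin.zero_le i)
    · show f (U.ι (c.j (s i))) = f z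
      refine Eq.trans ?_ (congrArg f hjq)
      show (U.ι ≫ f) (c.j (s i)) = (U.ι ≫ f) (c.j c.q)
      rw [c.apply_j, c.apply_j, sp i]
  choose w hw using hx
  let C : Fin (s.length + 1) → IrreducibleCloseds T := fun i =>
    ⟨closure {w i}, isIrreducible_singleton.closure, isClosed_closure⟩
  have hlt : ∀ i j, s i < s j → C j < C i := by
    intro i j hij
    have h1 : x i ⤳ x j :=
      (((PrimeSpectrum.le_iff_specializes _ _).1 hij.le).map c.j.continuous).map U.ι.continuous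
    have h2 : w i ⤳ w j := hφ.isInducing.specializes_iff.1 (by rw [hw, hw]; exact h1)
    refine lt_of_le_not_ge (show closure {w j} ⊆ closure {w i} from h2.closure_subset) fun hle => ?_
    have h3 : w j ⤳ w i := specializes_iff_mem_closure.2 (hle (subset_closure rfl))
    have h4 : x j ⤳ x i := by rw [← hw, ← hw]; exact h3.map hφ.continuous
    have h5 := U.ι.isOpenEmbedding.isInducing.specializes_iff.1 h4
    exact hij.not_ge (c.le_of_specializes h5)
  let t : LTSeries (IrreducibleCloseds T) := ⟨s.length, fun i => C (Fin.rev i), fun i =>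
    hlt _ _ (s.strictMono (Fin.rev_lt_rev.2 i.castSucc_lt_succ))⟩
  refine le_trans (le_of_eq ?_) (le_iSup _ t)
  show (trd f z : WithBot ℕ∞) = (s.length : WithBot ℕ∞)
  rw [hm', sn]

omit [LocallyOfFiniteType f] in
theorem quasiSober_inter (C : Set X) (hC : IsClosed C) (y : Y) : QuasiSober ↥(C ∩ f ⁻¹' {y}) := by
  haveI := FibreDimEt.quasiSober_fibre f y
  have he : IsClosedEmbedding (Set.inclusion (Set.inter_subset_right : C ∩ f ⁻¹' {y} ⊆ f ⁻¹' {y})) := by
    refine ⟨IsEmbedding.inclusion _, ?_⟩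
    rw [Set.range_inclusion]
    convert hC.preimage (continuous_subtype_val : Continuous (Subtype.val : ↥(f ⁻¹' {y}) → X)) using 1
    ext w
    exact ⟨fun h => h.1, fun h => ⟨h, w.2⟩⟩
  exact he.quasiSober

omit [LocallyOfFiniteType f] in
theorem quasiSober_inter_open (C : Set X) (hC : IsClosed C) (U : Set X) (hU : IsOpen U) (y : Y)
    (S : Set X) (hS : S = C ∩ U ∩ f ⁻¹' {y}) : QuasiSober ↥S := by
  haveI := quasiSober_inter f C hC y
  have hsub : S ⊆ C ∩ f ⁻¹' {y} := fun w hw => by rw [hS] at hw; exact ⟨hw.1.1, hw.2⟩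
  have he : IsOpenEmbedding (Set.inclusion hsub) := by
    refine ⟨IsEmbedding.inclusion _, ?_⟩
    rw [Set.range_inclusion]
    convert hU.preimage (continuous_subtype_val : Continuous (Subtype.val : ↥(C ∩ f ⁻¹' {y}) → X)) using 1
    ext w
    rw [hS]
    exact ⟨fun h => h.1.2, fun h => ⟨⟨w.2.1, h⟩, w.2.2⟩⟩
  exact he.quasiSober

/-- The dimension of `C ∩ U ∩ X_y`, upper bound. -/
theorem dim_inter_le (C : Set X) (hC : IsClosed C) (U : Set X) (hU : IsOpen U) (y : Y)
    (S : Set X) (hS : S = C ∩ U ∩ f ⁻¹' {y}) {D : WithBot ℕ∞}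
    (hD : ∀ w ∈ S, (trd f w : WithBot ℕ∞) ≤ D) : topologicalKrullDim ↥S ≤ D := by
  haveI := quasiSober_inter_open f C hC U hU y S hS
  exact topologicalKrullDim_le_of_trd f IsEmbedding.subtypeVal
    (fun w => (hS ▸ w.2 : w.1 ∈ C ∩ U ∩ f ⁻¹' {y}).2) fun w => hD _ w.2

/-- The dimension of `C ∩ U ∩ X_y`, lower bound. -/
theorem trd_le_dim_inter (C : Set X) (hC : IsClosed C) (U : Set X) (hU : IsOpen U) (y : Y)
    (S : Set X) (hS : S = C ∩ U ∩ f ⁻¹' {y}) {z : X} (hz : z ∈ S) :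
    (trd f z : WithBot ℕ∞) ≤ topologicalKrullDim ↥S := by
  rw [hS] at hz
  refine trd_le_topologicalKrullDim f IsEmbedding.subtypeVal ⟨U, hU⟩ hz.1.2 fun x hx hzx hfx => ?_
  rw [Subtype.range_coe, hS]
  exact ⟨⟨hzx.mem_closed hC hz.1.1, hx⟩, hfx.trans hz.2⟩

/-- Near `x` every point of a closed subset of the fibre generizes to one specializing to `x`. -/
theorem exists_fibre_nbhd (C : Set X) (hC : IsClosed C) (x : X) :
    ∃ U : Set X, IsOpen U ∧ x ∈ U ∧ ∀ w ∈ C ∩ U, f w = f x →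
      ∃ η ∈ C, f η = f x ∧ η ⤳ w ∧ η ⤳ x := by
  classical
  let y := f x
  haveI : LocallyOfFiniteType (f.fiberToSpecResidueField y) :=
    MorphismProperty.pullback_snd _ _ ‹LocallyOfFiniteType f›
  haveI : IsLocallyNoetherian (f.fiber y) :=
    LocallyOfFiniteType.isLocallyNoetherian (f.fiberToSpecResidueField y)
  obtain ⟨R, j, hj, ⟨(q : PrimeSpectrum R), hq⟩, -⟩ := Scheme.exists_affine_mem_range_and_range_subset
    (show f.asFiber x ∈ (⊤ : (f.fiber y).Opens) from trivial)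
  haveI := hj
  haveI : IsLocallyNoetherian (Spec R) := isLocallyNoetherian_of_isOpenImmersion j
  haveI : IsNoetherianRing R := by
    haveI : IsNoetherianRing Γ(Spec R, ⊤) :=
      IsLocallyNoetherian.component_noetherian ⟨⊤, isAffineOpen_top _⟩
    exact isNoetherianRing_of_ringEquiv _ (Scheme.ΓSpecIso R).commRingCatIsoToRingEquiv
  let k : Spec R → X := fun v => f.fiberι y (j v)
  have hk : Continuous k := (f.fiberι y).continuous.comp j.continuous
  obtain ⟨I, hI⟩ := (PrimeSpectrum.isClosed_iff_zeroLocus_ideal (k ⁻¹' C : Set (PrimeSpectrum R))).1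
    (hC.preimage hk)
  have hfin := I.finite_minimalPrimes_of_isNoetherianRing
  have hex : ∀ P : Ideal R, ∃ g ∉ q.asIdeal, ¬ P ≤ q.asIdeal → g ∈ P := fun P => by
    by_cases hP : P ≤ q.asIdeal
    · exact ⟨1, fun h1 => q.isPrime.ne_top ((Ideal.eq_top_iff_one _).2 h1), fun h1 => absurd hP h1⟩
    · obtain ⟨g, hg, hgq⟩ := SetLike.not_le_iff_exists.1 hP
      exact ⟨g, hgq, fun _ => hg⟩
  choose g hgq hg using hex
  let G : R := ∏ P ∈ hfin.toFinset, g P
  have hG : G ∉ q.asIdeal := fun hG => by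
    obtain ⟨P, -, hP⟩ := q.isPrime.prod_mem_iff.1 hG
    exact hgq P hP
  obtain ⟨U, hU, hUO⟩ := (f.fiberι y).isEmbedding.isInducing.isOpen_iff.1
    (j.isOpenEmbedding.isOpenMap _ (PrimeSpectrum.basicOpen G).isOpen)
  have hkq : k q = x := by
    show f.fiberι y (j q) = x
    rw [hq]
    exact f.fiberι_asFiber x
  have hxU : x ∈ U := by
    have : j q ∈ (f.fiberι y) ⁻¹' U := by rw [hUO]; exact ⟨q, hG, rfl⟩
    rwa [Set.mem_preimage, show f.fiberι y (j q) = x from hkq] at this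
  refine ⟨U, hU, hxU, fun w ⟨hwC, hwU⟩ hfw => ?_⟩
  obtain ⟨v₀, rfl⟩ : w ∈ Set.range (f.fiberι y) := by rw [f.range_fiberι]; exact hfw
  obtain ⟨(P : PrimeSpectrum R), hGP, rfl⟩ : v₀ ∈ j '' (PrimeSpectrum.basicOpen G : Set (PrimeSpectrum R)) := by
    rw [← hUO]; exact hwU
  have hPI : I ≤ P.asIdeal := by
    have : P ∈ PrimeSpectrum.zeroLocus (I : Set R) := hI ▸ hwC
    exact this
  obtain ⟨N, hN, hNP⟩ := Ideal.exists_minimalPrimes_le hPI
  haveI := hN.1.1
  let N₀ : PrimeSpectrum R := ⟨N, inferInstance⟩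
  have hNq : N ≤ q.asIdeal := by
    by_contra hle
    exact hGP (hNP (N.mem_of_dvd (Finset.dvd_prod_of_mem g (hfin.mem_toFinset.2 hN)) (hg N hle)))
  have hNC : N₀ ∈ (k ⁻¹' C : Set (PrimeSpectrum R)) := by
    rw [hI]
    exact hN.1.2
  refine ⟨k N₀, hNC, (f.range_fiberι y).le ⟨_, rfl⟩,
    ((PrimeSpectrum.le_iff_specializes N₀ P).1 hNP).map hk, ?_⟩
  rw [← hkq]
  exact ((PrimeSpectrum.le_iff_specializes N₀ q).1 hNq).map hk

/-- Local dimension of `C ∩ X_y`, lower bound. -/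
theorem trd_le_localDim_inter (C : Set X) (hC : IsClosed C) {y : Y} (x : ↥(C ∩ f ⁻¹' {y})) {z : X}
    (hz : z ∈ C ∩ f ⁻¹' {y}) (hzx : z ⤳ x.1) :
    (trd f z : WithBot ℕ∞) ≤ FlatMor.localDim ↥(C ∩ f ⁻¹' {y}) x := by
  refine le_iInf fun ⟨V, hxV⟩ => ?_
  obtain ⟨U, hU, hUV⟩ := IsInducing.subtypeVal.isOpen_iff.1 V.isOpen
  have hxU : x.1 ∈ U := by
    have : x ∈ Subtype.val ⁻¹' U := by rw [hUV]; exact hxV
    exact this
  refine trd_le_topologicalKrullDim f (φ := fun w : ↥(V : Set ↥(C ∩ f ⁻¹' {y})) => w.1.1)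
    (IsEmbedding.subtypeVal.comp IsEmbedding.subtypeVal) ⟨U, hU⟩ (hzx.mem_open hU hxU)
    fun w hw hzw hfw => ?_
  have hwS : w ∈ C ∩ f ⁻¹' {y} := ⟨hzw.mem_closed hC hz.1, hfw.trans hz.2⟩
  have hwV : (⟨w, hwS⟩ : ↥(C ∩ f ⁻¹' {y})) ∈ (V : Set _) := by rw [← hUV]; exact hw
  exact ⟨⟨⟨w, hwS⟩, hwV⟩, rfl⟩

/-- Local dimension of `C ∩ X_y`, upper bound. -/
theorem localDim_inter_le (C : Set X) (hC : IsClosed C) {y : Y} (x : ↥(C ∩ f ⁻¹' {y}))
    {D : WithBot ℕ∞} (hD : ∀ z ∈ C ∩ f ⁻¹' {y}, z ⤳ x.1 → (trd f z : WithBot ℕ∞) ≤ D) :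
    FlatMor.localDim ↥(C ∩ f ⁻¹' {y}) x ≤ D := by
  obtain ⟨U, hU, hxU, hgen⟩ := exists_fibre_nbhd f C hC x.1
  let V : Opens ↥(C ∩ f ⁻¹' {y}) := ⟨Subtype.val ⁻¹' U, hU.preimage continuous_subtype_val⟩
  haveI := quasiSober_inter f C hC y
  haveI : QuasiSober ↥(V : Set ↥(C ∩ f ⁻¹' {y})) := V.isOpenEmbedding'.quasiSober
  refine iInf_le_of_le ⟨V, hxU⟩ ?_
  refine topologicalKrullDim_le_of_trd f (φ := fun w : ↥(V : Set ↥(C ∩ f ⁻¹' {y})) => w.1.1)
    (IsEmbedding.subtypeVal.comp IsEmbedding.subtypeVal) (y := y) (fun w => w.1.2.2) fun w => ?_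
  have hfx : f x.1 = y := x.2.2
  obtain ⟨η, hηC, hfη, hηw, hηx⟩ := hgen w.1.1 ⟨w.1.2.1, w.2⟩ (w.1.2.2.trans hfx.symm)
  refine le_trans ?_ (hD η ⟨hηC, hfη.trans hfx⟩ hηx)
  exact_mod_cast trd_le f hηw ((hfη.trans hfx).trans w.1.2.2.symm)

theorem fibreDimAt_le {x : X} {D : WithBot ℕ∞}
    (hD : ∀ z, f z = f x → z ⤳ x → (trd f z : WithBot ℕ∞) ≤ D) : FlatMor.fibreDimAt f x ≤ D := by
  have key := localDim_inter_le f Set.univ isClosed_univ (y := f x) ⟨x, trivial, rfl⟩ (D := D)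
    fun z hz hzx => hD z hz.2 hzx
  rw [FibreDimEt.fibreDimAt_eq_localDim f x rfl]
  revert key
  rw [show ((⟨x, trivial, rfl⟩ : ↥(Set.univ ∩ f ⁻¹' {f x}))) = ⟨x, ⟨trivial, rfl⟩⟩ from rfl]
  intro key
  convert key using 2
  · rw [Set.univ_inter]
  · rw [Set.univ_inter]
  · exact (Subtype.heq_iff_coe_eq (by simp)).2 rfl

theorem trd_le_fibreDimAt {x z : X} (hz : f z = f x) (hzx : z ⤳ x) :
    (trd f z : WithBot ℕ∞) ≤ FlatMor.fibreDimAt f x := by
  have key := trd_le_localDim_inter f Set.univ isClosed_univ (y := f x) ⟨x, trivial, rfl⟩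
    (z := z) ⟨trivial, hz⟩ hzx
  rw [FibreDimEt.fibreDimAt_eq_localDim f x rfl]
  convert key using 2
  · rw [Set.univ_inter]
  · rw [Set.univ_inter]
  · exact (Subtype.heq_iff_coe_eq (by simp)).2 rfl

theorem fibreDimAt_eq_trd {x : X} (hmax : MaxInFibre f x) :
    FlatMor.fibreDimAt f x = (trd f x : WithBot ℕ∞) :=
  le_antisymm (fibreDimAt_le f fun z hz hzx => by rw [hmax z hz hzx])
    (trd_le_fibreDimAt f rfl (specializes_refl x))

theorem localDim_inter_eq_trd (C : Set X) (hC : IsClosed C) {y : Y} (x : ↥(C ∩ f ⁻¹' {y}))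
    (hmax : MaxInFibre f x.1) :
    FlatMor.localDim ↥(C ∩ f ⁻¹' {y}) x = (trd f x.1 : WithBot ℕ∞) :=
  le_antisymm
    (localDim_inter_le f C hC x fun z hz hzx => by rw [hmax z (hz.2.trans x.2.2.symm) hzx])
    (trd_le_localDim_inter f C hC x x.2 (specializes_refl _))

end Groth.Agent.OpenDim
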