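import Mathlib
import Groth.Agent.OpenDim.Dims

/-!
# Components dominating the base with prescribed fibre dimension (EGA IV 14.3, 14.4)
-/

set_option autoImplicit false
set_option linter.style.haveILetI false
set_option backward.isDefEq.respectTransparency false
set_option backward.defeqAttrib.useBackward true

open CategoryTheory AlgebraicGeometry Topology TopologicalSpace

universe u

namespace Groth.Agent.OpenDim

open Groth.Agent.DimFormulaLib

variable {X Y : Scheme.{u}} (f : X ⟶ Y) [LocallyOfFiniteType f]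

omit [LocallyOfFiniteType f] in
theorem isMaxPt_of_closure_mem {y : Y} (h : closure ({y} : Set Y) ∈ irreducibleComponents (Y : Type u)) :
    IsMaxPt y := by
  obtain ⟨η, hη, hmax⟩ := exists_generic_of_mem_irreducibleComponents h
  have : η = y := (show IsGenericPoint η (closure {y}) from hη).eq rfl
  exact this ▸ hmax

omit [LocallyOfFiniteType f] in
theorem exists_component_generic {W : Set ↥Y} (hW : W ∈ irreducibleComponents (Y : Type u)) :
    ∃ η : Y, closure ({η} : Set Y) = W ∧ IsMaxPt η ∧ ∀ w ∈ W, η ⤳ w := by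
  obtain ⟨η, hη, hmax⟩ := exists_generic_of_mem_irreducibleComponents hW
  exact ⟨η, hη, hmax, fun w hw => specializes_iff_mem_closure.2 (hη.symm ▸ hw)⟩

omit [LocallyOfFiniteType f] in
theorem closure_image_closure_point (ξ : X) :
    closure (f.base '' closure {ξ}) = closure ({f ξ} : Set Y) := by
  rw [closure_image_closure f.continuous, Set.image_singleton]

omit [LocallyOfFiniteType f] in
theorem isMaxPt_of_maxInFibre {ξ : X} (h : MaxInFibre f ξ) (hy : IsMaxPt (f ξ)) : IsMaxPt ξ :=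
  fun x' hx' => h x' (hy _ (hx'.map f.continuous)) hx'

/-- Upper semicontinuity at a generic point of a fibre. -/
theorem trd_le_of_specializes_maxInFibre {ζ z : X} (hmax : MaxInFibre f ζ) (hz : z ⤳ ζ) :
    trd f z ≤ trd f ζ := by
  obtain ⟨c⟩ := exists_chart f ζ
  obtain ⟨R, hR, rfl⟩ := c.exists_le hz
  have h1 := resTrdegAt_eq_trd f (c.j R)
  rw [c.resTrdegAt_eq] at h1
  have h2 := resTrdegAt_eq_trd f ζ
  rw [c.resTrdegAt_self] at h2
  exact trdeg_le_of_le_minimal c.q (trd f ζ) h2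
    (fun P' a b => minInFibre_of_maxInFibre c hmax P' a b) R hR _ h1

/-- Below a point, a generization forces a point of the fibre of at least its degree. -/
theorem exists_trd_ge {x z : X} (hz : z ⤳ x) :
    ∃ w, z ⤳ w ∧ w ⤳ x ∧ f w = f x ∧ trd f z ≤ trd f w := by
  obtain ⟨c⟩ := exists_chart f x
  obtain ⟨R, hR, rfl⟩ := c.exists_le hz
  have h1 := resTrdegAt_eq_trd f (c.j R)
  rw [c.resTrdegAt_eq] at h1
  obtain ⟨P', hRP', hP'q, hP'p, hle⟩ := exists_over_trdeg_ge hR _ h1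
  refine ⟨c.j P', ((PrimeSpectrum.le_iff_specializes _ _).1 hRP').map c.j.continuous, c.specializes hP'q,
    ?_, ?_⟩
  · rw [c.apply_j, hP'p]
    exact c.hp
  · rw [← c.resTrdegAt_eq, resTrdegAt_eq_trd] at hle
    exact_mod_cast hle

/-- A subset of a fibre of dimension at least `e` has a point of degree at least `e`. -/
theorem exists_le_trd_of_le_dim (C : Set X) (hC : IsClosed C) (U : Set X) (hU : IsOpen U) (y : Y)
    (S : Set X) (hS : S = C ∩ U ∩ f ⁻¹' {y}) {e : ℕ}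
    (h : (e : WithBot ℕ∞) ≤ topologicalKrullDim ↥S) : ∃ w ∈ S, e ≤ trd f w := by
  by_contra! hlt
  rcases Nat.eq_zero_or_pos e with rfl | he
  · have := h.trans (dim_inter_le f C hC U hU y S hS (D := ⊥) fun w hw => absurd (hlt w hw) (Nat.not_lt_zero _))
    simp at this
  · have := h.trans (dim_inter_le f C hC U hU y S hS (D := ((e - 1 : ℕ) : WithBot ℕ∞)) fun w hw => by
      have := hlt w hw
      exact_mod_cast (by omega : trd f w ≤ e - 1))
    have h2 : e ≤ e - 1 := by exact_mod_cast this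
    omega

/-- The local fibre dimension is attained at a generic point of the fibre. -/
theorem exists_maxInFibre_fibreDimAt (x : X) :
    ∃ ζ : X, f ζ = f x ∧ ζ ⤳ x ∧ MaxInFibre f ζ ∧ FlatMor.fibreDimAt f x = (trd f ζ : WithBot ℕ∞) := by
  obtain ⟨e, he⟩ : ∃ e : ℕ, FlatMor.fibreDimAt f x = (e : WithBot ℕ∞) := by
    obtain ⟨c⟩ := exists_chart f x
    obtain ⟨r, hr⟩ := exists_nat_trdeg_quotient c.p.asIdeal.ResidueField (c.p.asIdeal.Fiber c.B) c.Q.asIdeal
    obtain ⟨a, -, hn, -⟩ := localDim_eq_height_add c.p.asIdeal.ResidueField (c.p.asIdeal.Fiber c.B) c.Q r hr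
    exact ⟨a + r, c.fibreDimAt_eq.trans hn⟩
  obtain ⟨z, hfz, hzx, hez⟩ : ∃ z, f z = f x ∧ z ⤳ x ∧ e ≤ trd f z := by
    by_contra! hlt
    rcases Nat.eq_zero_or_pos e with rfl | hpos
    · exact absurd (hlt x rfl (specializes_refl x)) (Nat.not_lt_zero _)
    · have := he ▸ fibreDimAt_le f (x := x) (D := ((e - 1 : ℕ) : WithBot ℕ∞)) fun z h1 h2 => by
        have := hlt z h1 h2
        exact_mod_cast (by omega : trd f z ≤ e - 1)
      have h2 : e ≤ e - 1 := by exact_mod_cast this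
      omega
  obtain ⟨ζ, hfζ, hζz, hmax⟩ := exists_max_in_fibre f z
  refine ⟨ζ, hfζ.trans hfz, hζz.trans hzx, hmax, le_antisymm ?_ (trd_le_fibreDimAt f (hfζ.trans hfz) (hζz.trans hzx))⟩
  rw [he]
  exact_mod_cast hez.trans (trd_le f hζz hfζ)

/-- Near `x`, every point over `y'` generizes to a point over `y'` specializing to `x`. -/
theorem exists_other_fibre_nbhd (x : X) (y' : Y) :
    ∃ U : X.Opens, x ∈ U ∧ ∀ w ∈ U, f w = y' → ∃ ξ, f ξ = y' ∧ ξ ⤳ w ∧ ξ ⤳ x := by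
  classical
  obtain ⟨c⟩ := exists_chart f x
  by_cases hy : y' ∈ Set.range c.i
  swap
  · refine ⟨c.j.opensRange, ⟨c.q, c.hq⟩, ?_⟩
    rintro _ ⟨P, rfl⟩ hw
    exact absurd ⟨_, (c.apply_j P).symm.trans hw⟩ hy
  obtain ⟨(p' : PrimeSpectrum c.A), rfl⟩ := hy
  haveI : IsNoetherianRing (p'.asIdeal.Fiber c.B) :=
    Algebra.FiniteType.isNoetherianRing p'.asIdeal.ResidueField _
  let ε := PrimeSpectrum.preimageOrderIsoFiber c.A c.B p'
  have hfin : {N : PrimeSpectrum (p'.asIdeal.Fiber c.B) | IsMin N}.Finite := by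
    refine ((minimalPrimes.finite_of_isNoetherianRing (p'.asIdeal.Fiber c.B)).preimage
      (f := fun N : PrimeSpectrum (p'.asIdeal.Fiber c.B) => N.asIdeal)
      (fun a _ b _ hab => PrimeSpectrum.ext hab)).subset fun N hN => PrimeSpectrum.isMin_iff.1 hN
  have hex : ∀ R : Ideal c.B, ∃ g ∉ c.q.asIdeal, ¬ R ≤ c.q.asIdeal → g ∈ R := fun R => by
    by_cases hR : R ≤ c.q.asIdeal
    · exact ⟨1, fun h1 => c.q.isPrime.ne_top ((Ideal.eq_top_iff_one _).2 h1), fun h1 => absurd hR h1⟩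
    · obtain ⟨g, hg, hgq⟩ := SetLike.not_le_iff_exists.1 hR
      exact ⟨g, hgq, fun _ => hg⟩
  choose g hgq hg using hex
  let G : c.B := ∏ N ∈ hfin.toFinset, g (ε.symm N).1.asIdeal
  have hG : G ∉ c.q.asIdeal := fun hG => by
    obtain ⟨N, -, hN⟩ := c.q.isPrime.prod_mem_iff.1 hG
    exact hgq _ hN
  refine ⟨c.j ''ᵁ PrimeSpectrum.basicOpen G, ⟨c.q, hG, c.hq⟩, ?_⟩
  rintro _ ⟨(P : PrimeSpectrum c.B), hP, rfl⟩ hw
  have hPp : PrimeSpectrum.comap (algebraMap c.A c.B) P = p' :=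
    c.i.isOpenEmbedding.injective ((c.apply_j P).symm.trans hw)
  obtain ⟨N₀, hN₀, hN₀P⟩ := Ideal.exists_minimalPrimes_le (I := (⊥ : Ideal (p'.asIdeal.Fiber c.B)))
    (J := (ε ⟨P, hPp⟩).asIdeal) bot_le
  let N : PrimeSpectrum (p'.asIdeal.Fiber c.B) := ⟨N₀, hN₀.1.1⟩
  have hN : IsMin N := PrimeSpectrum.isMin_iff.2 hN₀
  have hle : (ε.symm N).1 ≤ P := by
    have h1 := ε.symm.monotone (show N ≤ ε ⟨P, hPp⟩ from hN₀P)
    rw [ε.symm_apply_apply] at h1
    exact h1
  have hRq : (ε.symm N).1.asIdeal ≤ c.q.asIdeal := by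
    by_contra hcon
    refine hP (hle ?_)
    exact Ideal.mem_of_dvd _ (Finset.dvd_prod_of_mem (fun N => g (ε.symm N).1.asIdeal)
      (hfin.mem_toFinset.2 hN)) (hg _ hcon)
  refine ⟨c.j (ε.symm N).1, ?_, ((PrimeSpectrum.le_iff_specializes _ _).1 hle).map c.j.continuous,
    c.specializes hRq⟩
  rw [c.apply_j, (ε.symm N).2]

/-- The component of a maximal point has generic fibre of dimension its degree. -/
theorem dim_generic_fibre {ξ : X} :
    topologicalKrullDim ↥(closure ({ξ} : Set X) ∩ f.base ⁻¹' {f ξ}) = (trd f ξ : WithBot ℕ∞) := by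
  refine le_antisymm (dim_inter_le f (closure {ξ}) isClosed_closure Set.univ isOpen_univ (f ξ) _
    (by rw [Set.inter_univ]) fun w hw => ?_)
    (trd_le_dim_inter f (closure {ξ}) isClosed_closure Set.univ isOpen_univ (f ξ) _
      (by rw [Set.inter_univ]) ⟨subset_closure rfl, rfl⟩)
  exact_mod_cast trd_le f (specializes_iff_mem_closure.2 hw.1) hw.2.symm

/-- A component with the generic point's degree: the witness of condition b). -/
theorem component_witness {x ξ : X} (hξ : IsMaxPt ξ) (hξx : ξ ⤳ x) {Y₀ : Set ↥Y}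
    (hY₀ : closure ({f ξ} : Set Y) = Y₀) :
    ∃ Z ∈ irreducibleComponents (X : Type u), ∃ hx : x ∈ Z, closure (f.base '' Z) = Y₀ ∧
      ∀ η : Y, closure ({η} : Set Y) = Y₀ →
        (trd f ξ : WithBot ℕ∞) ≤ FlatMor.localDim ↥(Z ∩ f.base ⁻¹' {f.base x}) ⟨x, ⟨hx, rfl⟩⟩ ∧
        FlatMor.localDim ↥(Z ∩ f.base ⁻¹' {f.base x}) ⟨x, ⟨hx, rfl⟩⟩ ≤ FlatMor.fibreDimAt f x ∧
        topologicalKrullDim ↥(Z ∩ f.base ⁻¹' {η}) = (trd f ξ : WithBot ℕ∞) := by
  refine ⟨closure {ξ}, closure_mem_irreducibleComponents hξ, specializes_iff_mem_closure.1 hξx,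
    (closure_image_closure_point f ξ).trans hY₀, fun η hη => ?_⟩
  have hη' : η = f ξ := (show IsGenericPoint η Y₀ from hη).eq (show IsGenericPoint (f ξ) Y₀ from hY₀)
  subst hη'
  refine ⟨?_, ?_, dim_generic_fibre f⟩
  · obtain ⟨w, hξw, hwx, hfw, hle⟩ := exists_trd_ge f hξx
    refine le_trans ?_ (trd_le_localDim_inter f _ isClosed_closure (y := f.base x)
      ⟨x, specializes_iff_mem_closure.1 hξx, rfl⟩ (z := w) ⟨specializes_iff_mem_closure.1 hξw, hfw⟩ hwx)
    exact_mod_cast hle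
  · exact localDim_inter_le f _ isClosed_closure (y := f.base x)
      ⟨x, specializes_iff_mem_closure.1 hξx, rfl⟩ fun z hz hzx => trd_le_fibreDimAt f hz.2 hzx

/-- Reading condition b). -/
theorem trd_eq_of_component {x : X} (hmax : MaxInFibre f x) {Y₀ : Set ↥Y}
    (hY₀ : Y₀ ∈ irreducibleComponents (Y : Type u))
    (h : ∃ Z ∈ irreducibleComponents (X : Type u), ∃ hx : x ∈ Z, closure (f.base '' Z) = Y₀ ∧
      ∀ η : Y, closure ({η} : Set Y) = Y₀ →
        FlatMor.localDim ↥(Z ∩ f.base ⁻¹' {f.base x}) ⟨x, ⟨hx, rfl⟩⟩ =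
          topologicalKrullDim ↥(Z ∩ f.base ⁻¹' {η})) :
    ∃ ξ, ξ ⤳ x ∧ IsMaxPt ξ ∧ IsMaxPt (f ξ) ∧ trd f ξ = trd f x := by
  obtain ⟨Z, hZ, hx, hcl, heq⟩ := h
  obtain ⟨ξ, hξ, hξmax, hξw⟩ := exists_component_generic hZ
  subst hξ
  rw [closure_image_closure_point] at hcl
  have h1 := heq (f ξ) hcl
  rw [localDim_inter_eq_trd f _ isClosed_closure (y := f.base x) ⟨x, hx, rfl⟩ hmax, dim_generic_fibre] at h1
  exact ⟨ξ, hξw x hx, hξmax, isMaxPt_of_closure_mem (hcl.symm ▸ hY₀), by exact_mod_cast h1.symm⟩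

/-- From a lower bound on the nearby generic fibre dimension to a component with that dimension. -/
theorem exists_generization_trd_ge (x : X) (y' : Y) {e : ℕ}
    (h : ∀ U : X.Opens, x ∈ U → (e : WithBot ℕ∞) ≤ topologicalKrullDim ↥((U : Set X) ∩ f.base ⁻¹' {y'})) :
    ∃ ξ, f ξ = y' ∧ ξ ⤳ x ∧ MaxInFibre f ξ ∧ e ≤ trd f ξ := by
  obtain ⟨U, hxU, hU⟩ := exists_other_fibre_nbhd f x y'
  obtain ⟨w, hw, hle⟩ := exists_le_trd_of_le_dim f Set.univ isClosed_univ (U : Set X) U.isOpen y' _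
    (by rw [Set.univ_inter]) (h U hxU)
  obtain ⟨ξ, hfξ, hξw, hξx⟩ := hU w hw.1 hw.2
  obtain ⟨ξ', hfξ', hξ'ξ, hmax⟩ := exists_max_in_fibre f ξ
  refine ⟨ξ', hfξ'.trans hfξ, hξ'ξ.trans hξx, hmax, hle.trans ?_⟩
  exact trd_le f (hξ'ξ.trans hξw) ((hfξ'.trans hfξ).trans hw.2.symm)

end Groth.Agent.OpenDim
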