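import Mathlib
import Groth.Agent.OpenDim.Components

/-!
# Equivalent conditions for openness over a geometrically unibranch point
-/

set_option autoImplicit false
set_option linter.style.haveILetI false
set_option backward.isDefEq.respectTransparency false
set_option backward.defeqAttrib.useBackward true

open CategoryTheory AlgebraicGeometry Topology TopologicalSpace

universe u

namespace Groth.Agent.OpenDim

open Groth.Agent.DimFormulaLib

variable {X Y : Scheme.{u}} [IsLocallyNoetherian Y] (f : X ⟶ Y) [LocallyOfFiniteType f]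

theorem exists_trd_of_isOpenAt {ζ : X} (hmax : MaxInFibre f ζ) (h : EGA43.IsOpenAt f.base ζ) {y' : Y}
    (hy' : y' ⤳ f ζ) : ∃ z, z ⤳ ζ ∧ f z = y' ∧ MaxInFibre f z ∧ trd f z = trd f ζ := by
  obtain ⟨z, h1, h2, h3, h4⟩ := exists_component_trd_eq f ζ hmax h y' hy'
  exact ⟨z, h1, h2, h3, (trd_eq_iff f).1 h4⟩

/-- a) ⇒ b) at a point computing the fibre dimension. -/
theorem component_of_isOpenAt {x ζ : X} (hfζ : f ζ = f x) (hζx : ζ ⤳ x) (hmax : MaxInFibre f ζ)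
    (hdim : FlatMor.fibreDimAt f x = (trd f ζ : WithBot ℕ∞)) (h : EGA43.IsOpenAt f.base ζ)
    (Y₀ : Set ↥Y) (hY₀ : Y₀ ∈ irreducibleComponents (Y : Type u)) (hx : f.base x ∈ Y₀) :
    ∃ Z ∈ irreducibleComponents (X : Type u), ∃ hx : x ∈ Z, closure (f.base '' Z) = Y₀ ∧
      ∀ η : Y, closure ({η} : Set Y) = Y₀ →
        FlatMor.fibreDimAt f x = FlatMor.localDim ↥(Z ∩ f.base ⁻¹' {f.base x}) ⟨x, ⟨hx, rfl⟩⟩ ∧
        FlatMor.localDim ↥(Z ∩ f.base ⁻¹' {f.base x}) ⟨x, ⟨hx, rfl⟩⟩ =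
          topologicalKrullDim ↥(Z ∩ f.base ⁻¹' {η}) := by
  obtain ⟨η₀, hη₀, hη₀max, hη₀gen⟩ := exists_component_generic hY₀
  obtain ⟨ξ, hξζ, hfξ, hξmax, htr⟩ := exists_trd_of_isOpenAt f hmax h
    (show η₀ ⤳ f ζ by rw [hfζ]; exact hη₀gen _ hx)
  obtain ⟨Z, hZ, hxZ, hcl, hw⟩ := component_witness f (isMaxPt_of_maxInFibre f hξmax (hfξ ▸ hη₀max))
    (hξζ.trans hζx) (Y₀ := Y₀) (by rw [hfξ]; exact hη₀)
  refine ⟨Z, hZ, hxZ, hcl, fun η hη => ?_⟩
  obtain ⟨h1, h2, h3⟩ := hw η hη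
  rw [h3, htr]
  rw [htr] at h1
  rw [hdim] at h2 ⊢
  exact ⟨le_antisymm h1 h2, le_antisymm h2 h1⟩

/-- b) ⇒ a) at a generic point of a fibre. -/
theorem univOpenAt_of_component' {x : X} (hmax : MaxInFibre f x)
    (hy : CAlg2.IsGeomUnibranch (Y.presheaf.stalk (f.base x)))
    (h : ∀ Y₀ ∈ irreducibleComponents (Y : Type u), f.base x ∈ Y₀ →
      ∃ Z ∈ irreducibleComponents (X : Type u), ∃ hx : x ∈ Z, closure (f.base '' Z) = Y₀ ∧
        ∀ η : Y, closure ({η} : Set Y) = Y₀ →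
          FlatMor.localDim ↥(Z ∩ f.base ⁻¹' {f.base x}) ⟨x, ⟨hx, rfl⟩⟩ =
            topologicalKrullDim ↥(Z ∩ f.base ⁻¹' {η})) :
    EGA43.IsUnivOpenAt f x := by
  obtain ⟨η₀, hη₀, hη₀max, -⟩ := exists_generic_of_geomUnibranch _ hy
  have hY₀ := closure_mem_irreducibleComponents hη₀max
  obtain ⟨ξ, hξx, -, hfξmax, htr⟩ := trd_eq_of_component f hmax hY₀
    (h _ hY₀ (specializes_iff_mem_closure.1 hη₀))
  exact univOpenAt_of_trd f x hmax hy ξ hξx hfξmax ((trd_eq_iff f).2 htr)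

/-- b') ⇒ a) at a generic point of a fibre. -/
theorem univOpenAt_of_dim_le {x : X} (hmax : MaxInFibre f x)
    (hy : CAlg2.IsGeomUnibranch (Y.presheaf.stalk (f.base x)))
    (h : ∀ η : Y, IsMaxPt η → η ⤳ f x → ∀ U : X.Opens, x ∈ U →
      (trd f x : WithBot ℕ∞) ≤ topologicalKrullDim ↥((U : Set X) ∩ f.base ⁻¹' {η})) :
    EGA43.IsUnivOpenAt f x := by
  obtain ⟨η, hη, hηmax, -⟩ := exists_generic_of_geomUnibranch _ hy
  obtain ⟨ξ, hfξ, hξx, -, hle⟩ := exists_generization_trd_ge f x η (h η hηmax hη)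
  exact univOpenAt_of_trd f x hmax hy ξ hξx (hfξ ▸ hηmax)
    ((trd_eq_iff f).2 (le_antisymm (trd_le_of_specializes_maxInFibre f hmax hξx) hle))

end Groth.Agent.OpenDim
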