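import Mathlib
import Groth.Agent.OpenDim.Tfae
import Groth.Agent.OpenDim.Constr
import Groth.Agent.FibreDepth.FibreDim
import Groth.Agent.DimFormulaLib.FibreComp

/-!
# Fibre dimensions of open morphisms near a point of the base
-/

set_option autoImplicit false
set_option linter.style.haveILetI false
set_option backward.isDefEq.respectTransparency false
set_option backward.defeqAttrib.useBackward true

open CategoryTheory AlgebraicGeometry Topology TopologicalSpace Filter

universe u

namespace Groth.Agent.OpenDim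

open Groth.Agent.DimFormulaLib

variable {X Y : Scheme.{u}} [IsLocallyNoetherian Y]

/-- Near `y` every point lies below a generic point of a component through `y`. -/
theorem eventually_below_generic (y : Y) :
    ∀ᶠ z in 𝓝 y, ∃ η : Y, IsMaxPt η ∧ η ⤳ y ∧ η ⤳ z := by
  obtain ⟨R, j, hj, ⟨(p : PrimeSpectrum R), hp⟩, -⟩ := Scheme.exists_affine_mem_range_and_range_subset
    (show y ∈ (⊤ : Y.Opens) from trivial)
  haveI := hj
  haveI : IsLocallyNoetherian (Spec R) := isLocallyNoetherian_of_isOpenImmersion j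
  haveI : IsNoetherianRing R := by
    haveI : IsNoetherianRing Γ(Spec R, ⊤) :=
      IsLocallyNoetherian.component_noetherian ⟨⊤, isAffineOpen_top _⟩
    exact isNoetherianRing_of_ringEquiv _ (Scheme.ΓSpecIso R).commRingCatIsoToRingEquiv
  let G : Set (PrimeSpectrum R) :=
    ⋃ N ∈ {N : PrimeSpectrum R | IsMin N ∧ ¬ N ≤ p}, closure {N}
  have hfin : {N : PrimeSpectrum R | IsMin N ∧ ¬ N ≤ p}.Finite := by
    refine ((minimalPrimes.finite_of_isNoetherianRing R).preimage
      (f := fun N : PrimeSpectrum R => N.asIdeal) (fun a _ b _ hab => PrimeSpectrum.ext hab)).subset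
      fun N hN => PrimeSpectrum.isMin_iff.1 hN.1
  have hG : IsClosed G := hfin.isClosed_biUnion fun _ _ => isClosed_closure
  have hpG : p ∈ Gᶜ := by
    intro hmem
    obtain ⟨N, hN, hNp⟩ := Set.mem_iUnion₂.1 hmem
    exact hN.2 ((PrimeSpectrum.le_iff_specializes N p).2 (specializes_iff_mem_closure.2 hNp))
  refine Filter.mem_of_superset ((j.isOpenEmbedding.isOpenMap _ hG.isOpen_compl).mem_nhds ⟨p, hpG, hp⟩) ?_
  rintro _ ⟨(P : PrimeSpectrum R), hPG, rfl⟩
  obtain ⟨N₀, hN₀, hN₀P⟩ := Ideal.exists_minimalPrimes_le (I := (⊥ : Ideal R)) (J := P.asIdeal) bot_le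
  let N : PrimeSpectrum R := ⟨N₀, hN₀.1.1⟩
  have hNp : N ≤ p := by
    by_contra hle
    exact hPG (Set.mem_iUnion₂.2 ⟨N, ⟨PrimeSpectrum.isMin_iff.2 hN₀, hle⟩,
      specializes_iff_mem_closure.1 ((PrimeSpectrum.le_iff_specializes N P).1 hN₀P)⟩)
  refine ⟨j N, fun z hz => ?_, hp ▸ ((PrimeSpectrum.le_iff_specializes N p).1 hNp).map j.continuous,
    ((PrimeSpectrum.le_iff_specializes N P).1 hN₀P).map j.continuous⟩
  obtain ⟨(M : PrimeSpectrum R), rfl⟩ : z ∈ Set.range j :=
    hz.mem_open j.isOpenEmbedding.isOpen_range ⟨N, rfl⟩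
  have hMN : M ≤ N := (PrimeSpectrum.le_iff_specializes M N).2
    (j.isOpenEmbedding.isInducing.specializes_iff.1 hz)
  rw [le_antisymm hMN (PrimeSpectrum.isMin_iff.2 hN₀ hMN)]

variable (f : X ⟶ Y) [LocallyOfFiniteType f] [QuasiCompact f]

omit [LocallyOfFiniteType f] [QuasiCompact f] [IsLocallyNoetherian Y] in
theorem isLocallyConstructible_of_isOpen [IsLocallyNoetherian X] {s : Set X} (hs : IsOpen s) :
    IsLocallyConstructible s := by
  intro x
  obtain ⟨W, hW, hxW, -⟩ := exists_isAffineOpen_mem_and_subset (show x ∈ (⊤ : X.Opens) from trivial)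
  haveI : IsAffine W.toScheme := hW
  haveI : IsLocallyNoetherian W.toScheme := isLocallyNoetherian_of_isOpenImmersion W.ι
  haveI : IsNoetherian W.toScheme := ⟨⟩
  refine ⟨W, W.isOpen.mem_nhds hxW, W.isOpen, ?_⟩
  exact IsRetrocompact.isConstructible (hs.preimage continuous_subtype_val)
    (fun U _ _ => NoetherianSpace.isCompact (_ : Set W.toScheme))

/-- A fibre component of an open morphism persists nearby. -/
theorem eventually_exists_trd_eq (hf : IsOpenMap f.base) {x : X} (hmax : MaxInFibre f x) :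
    ∀ᶠ z in 𝓝 (f x), ∃ ω : X, f ω = z ∧ MaxInFibre f ω ∧ trd f ω = trd f x := by
  haveI : LocallyOfFinitePresentation f := by
    rw [HasRingHomProperty.iff_appLE (P := @LocallyOfFinitePresentation)]
    intro W E e
    haveI : IsNoetherianRing ↥Γ(Y, W) := IsLocallyNoetherian.component_noetherian W
    exact RingHom.FinitePresentation.of_finiteType.1
      (HasRingHomProperty.appLE (P := @LocallyOfFiniteType) f ‹_› W E e)
  haveI : IsLocallyNoetherian X := LocallyOfFiniteType.isLocallyNoetherian f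
  let S : Set X := {w | FlatMor.fibreDimAt f w = (trd f x : WithBot ℕ∞)}
  have hS : IsLocallyConstructible S := by
    rcases Nat.eq_zero_or_pos (trd f x) with h0 | hpos
    · have : S = {w | FlatMor.fibreDimAt f w ≤ ((0 : ℕ) : WithBot ℕ∞)} := by
        ext w
        obtain ⟨n, hn⟩ := CMFlatLib.exists_nat_fibreDimAt f w
        simp only [S, Set.mem_ofPred_eq, hn, h0]
        norm_cast
        exact ⟨fun h => h.le, fun h => le_antisymm h bot_le⟩
      rw [this]
      exact isLocallyConstructible_of_isOpen (FibreDepth.isOpen_fibreDimAt_le f _)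
    · have : S = {w | FlatMor.fibreDimAt f w ≤ (trd f x : WithBot ℕ∞)} ∩
          {w | FlatMor.fibreDimAt f w ≤ ((trd f x - 1 : ℕ) : WithBot ℕ∞)}ᶜ := by
        ext w
        obtain ⟨n, hn⟩ := CMFlatLib.exists_nat_fibreDimAt f w
        simp only [S, Set.mem_ofPred_eq, Set.mem_inter_iff, Set.mem_compl_iff, hn]
        norm_cast
        omega
      rw [this]
      exact IsLocallyConstructible.inter (isLocallyConstructible_of_isOpen (FibreDepth.isOpen_fibreDimAt_le f _))
        fun v => let ⟨U, h1, h2, h3⟩ := isLocallyConstructible_of_isOpen (FibreDepth.isOpen_fibreDimAt_le f _) v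
          ⟨U, h1, h2, h3.compl⟩
  have himg := mem_nhds_of_generizations (f.isLocallyConstructible_image hS) (f x) fun z hz => by
    obtain ⟨ω, -, hfω, hωmax, htr⟩ := exists_trd_of_isOpenAt f hmax
      (fun U hU => hf.image_mem_nhds hU) hz
    exact ⟨ω, (fibreDimAt_eq_trd f hωmax).trans (by rw [htr]), hfω⟩
  filter_upwards [himg]
  rintro _ ⟨w, hw, rfl⟩
  obtain ⟨ω, hfω, -, hωmax, hdim⟩ := exists_maxInFibre_fibreDimAt f w
  refine ⟨ω, hfω, hωmax, ?_⟩
  have := hdim.symm.trans hw
  exact_mod_cast this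

omit [QuasiCompact f] in
/-- A fibre component below a maximal point of an open morphism comes from the generic fibre. -/
theorem exists_trd_eq_of_generic (hf : IsOpenMap f.base) {w : X} (hmax : MaxInFibre f w) {η : Y}
    (hη : η ⤳ f w) : ∃ ω : X, f ω = η ∧ MaxInFibre f ω ∧ trd f ω = trd f w := by
  obtain ⟨ω, -, h1, h2, h3⟩ := exists_trd_of_isOpenAt f hmax (fun U hU => hf.image_mem_nhds hU) hη
  exact ⟨ω, h1, h2, h3⟩

omit [IsLocallyNoetherian Y] [QuasiCompact f] in
theorem le_dim_fiber {z : Y} {ω : X} (hω : f ω = z) :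
    (trd f ω : WithBot ℕ∞) ≤ topologicalKrullDim ↥(f.fiber z) := by
  rw [IsHomeomorph.topologicalKrullDim_eq _ (f.fiberHomeo z).isHomeomorph]
  exact trd_le_dim_inter f Set.univ isClosed_univ Set.univ isOpen_univ z _ (by simp) hω

omit [QuasiCompact f] in
theorem exists_maxInFibre_of_component {y : Y} {Z : Set ↥(f.fiber y)}
    (hZ : Z ∈ irreducibleComponents ↥(f.fiber y)) :
    ∃ x : X, f x = y ∧ MaxInFibre f x ∧ topologicalKrullDim ↥Z = (trd f x : WithBot ℕ∞) := by
  obtain ⟨x, t, hfx, hmax, ht, hdim⟩ := exists_point_of_component f y Z hZ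
  refine ⟨x, hfx, fun x' hx' hs => hmax x' (hx'.trans hfx) hs, hdim.trans ?_⟩
  have := ht.symm.trans (resTrdegAt_eq_trd f x)
  have h : t = trd f x := by exact_mod_cast this
  rw [h]

theorem finite_components_fiber (y : Y) : (irreducibleComponents ↥(f.fiber y)).Finite := by
  haveI : LocallyOfFiniteType (f.fiberToSpecResidueField y) :=
    MorphismProperty.pullback_snd _ _ ‹LocallyOfFiniteType f›
  haveI : IsLocallyNoetherian (f.fiber y) :=
    LocallyOfFiniteType.isLocallyNoetherian (f.fiberToSpecResidueField y)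
  haveI : IsNoetherian (f.fiber y) := ⟨⟩
  exact NoetherianSpace.finite_irreducibleComponents

end Groth.Agent.OpenDim
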