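import Mathlib
import Groth.Agent.OpenDim.Local

/-!
# Equidimensionality through generic points; codimension in an equidimensional morphism
-/

set_option autoImplicit false
set_option linter.style.haveILetI false
set_option backward.isDefEq.respectTransparency false
set_option backward.defeqAttrib.useBackward true

open CategoryTheory AlgebraicGeometry Topology TopologicalSpace Filter

universe u

namespace Groth.Agent.OpenDim

open Groth.Agent.DimFormulaLib

variable {X Y : Scheme.{u}}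

/-- Near a point, generic points of components pass through it. -/
theorem eventually_generic_specializes [IsLocallyNoetherian Y] (y : Y) :
    ∀ᶠ z in 𝓝 y, ∀ η : Y, IsMaxPt η → η ⤳ z → η ⤳ y := by
  obtain ⟨R, j, hj, ⟨(p : PrimeSpectrum R), hp⟩, -⟩ := Scheme.exists_affine_mem_range_and_range_subset
    (show y ∈ (⊤ : Y.Opens) from trivial)
  haveI := hj
  haveI : IsLocallyNoetherian (Spec R) := isLocallyNoetherian_of_isOpenImmersion j
  haveI : IsNoetherianRing R := by
    haveI : IsNoetherianRing Γ(Spec R, ⊤) :=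
      IsLocallyNoetherian.component_noetherian ⟨⊤, isAffineOpen_top _⟩
    exact isNoetherianRing_of_ringEquiv _ (Scheme.ΓSpecIso R).commRingCatIsoToRingEquiv
  let G : Set (PrimeSpectrum R) :=
    ⋃ N ∈ {N : PrimeSpectrum R | IsMin N ∧ ¬ N ≤ p}, closure {N}
  have hfin : {N : PrimeSpectrum R | IsMin N ∧ ¬ N ≤ p}.Finite := by
    refine ((minimalPrimes.finite_of_isNoetherianRing R).preimage
      (f := fun N : PrimeSpectrum R => N.asIdeal) (fun a _ b _ hab => PrimeSpectrum.ext hab)).subset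
      fun N hN => PrimeSpectrum.isMin_iff.1 hN.1
  have hG : IsClosed G := hfin.isClosed_biUnion fun _ _ => isClosed_closure
  have hpG : p ∈ Gᶜ := by
    intro hmem
    obtain ⟨N, hN, hNp⟩ := Set.mem_iUnion₂.1 hmem
    exact hN.2 ((PrimeSpectrum.le_iff_specializes N p).2 (specializes_iff_mem_closure.2 hNp))
  refine Filter.mem_of_superset ((j.isOpenEmbedding.isOpenMap _ hG.isOpen_compl).mem_nhds ⟨p, hpG, hp⟩) ?_
  rintro _ ⟨(P : PrimeSpectrum R), hPG, rfl⟩ η hηmax hη
  obtain ⟨(N : PrimeSpectrum R), rfl⟩ : η ∈ Set.range j :=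
    hη.mem_open j.isOpenEmbedding.isOpen_range ⟨P, rfl⟩
  have hNP : N ≤ P := (PrimeSpectrum.le_iff_specializes N P).2
    (j.isOpenEmbedding.isInducing.specializes_iff.1 hη)
  have hmin : IsMin N := fun M hM => by
    have h1 : j M = j N := hηmax _ (((PrimeSpectrum.le_iff_specializes M N).1 hM).map j.continuous)
    rw [j.isOpenEmbedding.injective h1]
  have hNp : N ≤ p := by
    by_contra hle
    exact hPG (Set.mem_iUnion₂.2 ⟨N, ⟨hmin, hle⟩,
      specializes_iff_mem_closure.1 ((PrimeSpectrum.le_iff_specializes N P).1 hNP)⟩)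
  exact hp ▸ ((PrimeSpectrum.le_iff_specializes N p).1 hNp).map j.continuous

variable [IsLocallyNoetherian Y] (f : X ⟶ Y) [LocallyOfFiniteType f]

theorem trd_ι {U : X.Opens} (w : U) : trd (U.ι ≫ f) w = trd f (U.ι w) := by
  have h := resTrdegAt_ι' f w
  rw [resTrdegAt_eq_trd, resTrdegAt_eq_trd] at h
  exact_mod_cast h

/-- Criterion for equidimensionality at a point. -/
theorem isEquidimAt_of_generic (x : X) (e : ℕ)
    (h : ∀ ξ : X, IsMaxPt ξ → ξ ⤳ x → IsMaxPt (f ξ) ∧ trd f ξ = e)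
    (hfib : FlatMor.fibreDimAt f x ≤ (e : WithBot ℕ∞)) : EGA43.IsEquidimAt f x := by
  haveI : IsLocallyNoetherian X := LocallyOfFiniteType.isLocallyNoetherian f
  obtain ⟨O, hOsub, hO, hxO⟩ := mem_nhds_iff.1 (eventually_generic_specializes x)
  let U : X.Opens := ⟨O ∩ {w | FlatMor.fibreDimAt f w ≤ (e : WithBot ℕ∞)},
    hO.inter (FibreDepth.isOpen_fibreDimAt_le f _)⟩
  refine ⟨e, U, ⟨hxO, hfib⟩, fun Z hZ => ?_, fun w Z hZ => ?_⟩
  · obtain ⟨ξ, hξ, hξmax⟩ := exists_generic_of_mem_irreducibleComponents (show Z ∈ irreducibleComponents ↥U.toScheme from hZ)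
    have hmax : IsMaxPt (U.ι ξ) := fun x' hx' => by
      obtain ⟨w, rfl⟩ : x' ∈ Set.range U.ι :=
        hx'.mem_open U.ι.isOpenEmbedding.isOpen_range ⟨ξ, rfl⟩
      rw [hξmax w (U.ι.isOpenEmbedding.isInducing.specializes_iff.1 hx')]
    have hξx : U.ι ξ ⤳ x := hOsub ξ.2.1 _ hmax (specializes_refl _)
    refine ⟨_, closure_mem_irreducibleComponents (h _ hmax hξx).1,
      specializes_iff_mem_closure.1 (hξx.map f.continuous), ?_⟩
    rw [← hξ, closure_image_closure (U.ι ≫ f).continuous, Set.image_singleton]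
    rfl
  · obtain ⟨v, hfv, hvmax, hdim⟩ := exists_maxInFibre_of_component (U.ι ≫ f) hZ
    rw [hdim, trd_ι]
    have hle : trd f (U.ι v) ≤ e := by
      have := (trd_le_fibreDimAt f rfl (specializes_refl (U.ι v))).trans v.2.2
      exact_mod_cast this
    obtain ⟨ξ, hξv, hξmax⟩ := exists_maximal_point (U.ι v)
    have hξx : ξ ⤳ x := hOsub v.2.1 _ hξmax hξv
    obtain ⟨w', -, hw'v, hfw', hge⟩ := exists_trd_ge f hξv
    obtain ⟨w'', rfl⟩ : w' ∈ Set.range U.ι := hw'v.mem_open U.ι.isOpenEmbedding.isOpen_range ⟨v, rfl⟩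
    have heq := hvmax w'' hfw' (U.ι.isOpenEmbedding.isInducing.specializes_iff.1 hw'v)
    rw [heq] at hge
    rw [(h ξ hξmax hξx).2] at hge
    rw [le_antisymm hle hge]

/-- What equidimensionality says about generic points and fibres. -/
theorem generic_of_isEquidimAt {x : X} (h : EGA43.IsEquidimAt f x) :
    ∃ (e : ℕ) (U : X.Opens), x ∈ U ∧
      (∀ ξ ∈ U, IsMaxPt ξ → IsMaxPt (f ξ) ∧ f ξ ⤳ f x ∧ trd f ξ = e) ∧
      (∀ w ∈ U, MaxInFibre f w → trd f w = e) ∧ FlatMor.fibreDimAt f x = (e : WithBot ℕ∞) := by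
  obtain ⟨e, U, hxU, hcomp, hfib⟩ := h
  have hw : ∀ w ∈ U, MaxInFibre f w → trd f w = e := fun w hwU hwmax => by
    let v : U := ⟨w, hwU⟩
    obtain ⟨Z, hZ, hdim⟩ := exists_component_of_point (U.ι ≫ f) (y := (U.ι ≫ f) v) v rfl
      (fun x' hx' hs => U.ι.isOpenEmbedding.injective (hwmax _ hx' (hs.map U.ι.continuous))) _
      (resTrdegAt_eq_trd (U.ι ≫ f) v)
    have := hdim.symm.trans (hfib v Z hZ)
    rw [trd_ι] at this
    exact_mod_cast this
  refine ⟨e, U, hxU, fun ξ hξU hξ => ?_, hw, ?_⟩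
  · let v : U := ⟨ξ, hξU⟩
    have hv : ∀ v' : U, v' ⤳ v → v' = v := fun v' hv' =>
      U.ι.isOpenEmbedding.injective (hξ _ (hv'.map U.ι.continuous))
    obtain ⟨W, hW, hxW, hcl⟩ := hcomp (closure ({v} : Set U.toScheme))
      (closure_mem_irreducibleComponents (F := U.toScheme) hv)
    rw [closure_image_closure (U.ι ≫ f).continuous, Set.image_singleton] at hcl
    replace hcl : closure ({f ξ} : Set Y) = W := hcl
    refine ⟨isMaxPt_of_closure_mem (hcl.symm ▸ hW), specializes_iff_mem_closure.2 (hcl.symm ▸ hxW),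
      hw ξ hξU fun x' _ hs => hξ x' hs⟩
  · obtain ⟨ζ, hfζ, hζx, hmax, hdim⟩ := exists_maxInFibre_fibreDimAt f x
    rw [hdim, hw ζ (hζx.mem_open U.isOpen hxU) hmax]

/-- The local ring at a point has at least the dimension of the fibre's, one more off the generic fibre. -/
theorem fibre_height_le (z : X) (h : ∀ ξ, ξ ⤳ z → IsMaxPt ξ → IsMaxPt (f ξ)) :
    ∃ a d : ℕ, ringKrullDim (X.presheaf.stalk z) = (a : WithBot ℕ∞) ∧
      FlatMor.fibreDimAt f z = ((d + trd f z : ℕ) : WithBot ℕ∞) ∧ d ≤ a ∧ (d = a → IsMaxPt (f z)) := by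
  obtain ⟨c⟩ := exists_chart f z
  obtain ⟨a, b, d, t', ha, -, hd, ht', hloc, hqa, -, -, -⟩ := c.dims
  have ht : t' = trd f z := by
    have := ht'.symm
    rw [← c.resTrdegAt_self, resTrdegAt_eq_trd] at this
    exact_mod_cast this
  have hQd : c.Q.asIdeal.height = d := by
    have := c.dim_stalk_fibre.symm.trans hd
    exact_mod_cast this
  refine ⟨a, d, ha, by rw [hloc, ht], ?_⟩
  rw [PrimeSpectrum.height_eq_orderHeight] at hQd
  obtain ⟨s, hslast, hslen⟩ := Order.exists_series_of_le_height c.Q hQd.ge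
  let o := PrimeSpectrum.preimageOrderIsoFiber c.A c.B c.p
  let φ : PrimeSpectrum (c.p.asIdeal.Fiber c.B) → PrimeSpectrum c.B := fun N => (o.symm N).1
  have hφ : StrictMono φ := fun N M hNM => o.symm.strictMono hNM
  let S := s.map φ hφ
  have hSlast : S.last = c.q := by
    rw [LTSeries.last_map, hslast]
    exact PrimeSpectrum.ext c.comap_Q
  have hle : (d : ℕ∞) ≤ a := by
    rw [← hqa, PrimeSpectrum.height_eq_orderHeight]
    exact le_trans (by rw [← hslen]; rfl) (Order.length_le_height (p := S) hSlast.le)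
  refine ⟨by exact_mod_cast hle, fun hda => ?_⟩
  by_contra hnmax
  obtain ⟨ξ, hξ, hξmax⟩ := exists_maximal_point (c.j S.head)
  have hhead : S.head ≤ c.q := hSlast ▸ S.head_le_last
  obtain ⟨P, hP, rfl⟩ := (c.move S.head).exists_le hξ
  have hPne : P < S.head := by
    refine lt_of_le_of_ne hP fun hPeq => hnmax ?_
    have h1 := h (c.j S.head) (c.specializes hhead) (hPeq ▸ hξmax)
    rw [c.apply_j] at h1
    rw [show PrimeSpectrum.comap (algebraMap c.A c.B) S.head = c.p from by
      rw [LTSeries.head_map]; exact (o.symm s.head).2, c.hp] at h1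
    exact h1
  have hlong := Order.length_le_height (p := S.cons P hPne) (x := c.q) (by
    rw [RelSeries.last_cons]; exact hSlast.le)
  rw [← PrimeSpectrum.height_eq_orderHeight, hqa] at hlong
  have : d + 1 ≤ a := by
    have h2 : (S.cons P hPne).length = d + 1 := by simp [S, hslen]
    rw [h2] at hlong
    exact_mod_cast hlong
  omega

end Groth.Agent.OpenDim
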