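import Mathlib
import Groth.Agent.OpenDim.Components
import Groth.Agent.UnivOpenAtLib.Basic

/-!
# Universally open points: dimension of the fibres over generizations, through valuation rings
-/

set_option autoImplicit false
set_option linter.style.haveILetI false
set_option backward.isDefEq.respectTransparency false
set_option backward.defeqAttrib.useBackward true

open CategoryTheory AlgebraicGeometry Topology TopologicalSpace TensorProduct IsLocalRing

universe u

namespace Groth.Agent.OpenDim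

variable {A : Type u} [CommRing A]

/-- A valuation ring of `κ(p₀)` dominating the local ring at a prime `p ≥ p₀`. -/
theorem exists_valuation_dominating {p₀ p : PrimeSpectrum A} (h : p₀ ≤ p) :
    ∃ (K : Type u) (_ : Field K) (V : ValuationSubring K) (φ : A →+* V),
      RingHom.ker ((algebraMap V K).comp φ) = p₀.asIdeal ∧ (maximalIdeal V).comap φ = p.asIdeal := by
  let K := p₀.asIdeal.ResidueField
  have hker : RingHom.ker (algebraMap A K) = p₀.asIdeal := Ideal.ker_algebraMap_residueField _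
  have hu : ∀ y : p.asIdeal.primeCompl, IsUnit (algebraMap A K y) := fun y => isUnit_iff_ne_zero.2
    fun h0 => y.2 (h (show (y : A) ∈ p₀.asIdeal by rw [← hker]; exact h0))
  let ψ : Localization.AtPrime p.asIdeal →+* K := IsLocalization.lift hu
  obtain ⟨V, hle, hloc⟩ := (LocalSubring.range ψ).exists_le_valuationSubring
  let φ' : Localization.AtPrime p.asIdeal →+* V :=
    (Subring.inclusion hle).comp ψ.rangeRestrict
  haveI : IsLocalHom ψ.rangeRestrict := Function.Surjective.isLocalHom _ ψ.rangeRestrict_surjective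
  haveI := hloc
  haveI : IsLocalHom φ' := RingHom.isLocalHom_comp _ _
  refine ⟨K, inferInstance, V, φ'.comp (algebraMap A _), ?_, ?_⟩
  · refine Eq.trans ?_ hker
    congr 1
    ext a
    exact IsLocalization.lift_eq hu a
  · rw [← Ideal.comap_comap, maximalIdeal_comap φ']
    exact IsLocalization.AtPrime.comap_maximalIdeal _ p.asIdeal

/-- Algebraically independent elements stay independent in some compositum. -/
theorem exists_compositum_independent {κ k L : Type u} [Field κ] [Field k] [Field L] [Algebra κ k]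
    [Algebra κ L] {e : ℕ} (x : Fin e → L) (hx : AlgebraicIndependent κ x) :
    ∃ (M : Type u) (_ : Field M) (σ : k →+* M) (τ : L →+* M),
      σ.comp (algebraMap κ k) = τ.comp (algebraMap κ L) ∧
        Function.Injective (MvPolynomial.eval₂Hom σ (τ ∘ x)) := by
  let f : (k ⊗[κ] MvPolynomial (Fin e) κ) →ₐ[k] k ⊗[κ] L :=
    Algebra.TensorProduct.map (AlgHom.id k k) (MvPolynomial.aeval x)
  have hf : Function.Injective f :=
    Module.Flat.lTensor_preserves_injective_linearMap (M := k) (MvPolynomial.aeval x).toLinearMap hx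
  let e' := MvPolynomial.algebraTensorAlgEquiv (σ := Fin e) κ k
  let g : MvPolynomial (Fin e) k →ₐ[k] k ⊗[κ] L := f.comp e'.symm.toAlgHom
  have hg : Function.Injective g := hf.comp e'.symm.injective
  obtain ⟨Q, hQ, hcomap⟩ := Ideal.exists_comap_eq_of_mem_minimalPrimes_of_injective
    (f := g.toRingHom) hg ⊥ (by rw [IsDomain.minimalPrimes_eq_singleton_bot]; rfl)
  let mk : (k ⊗[κ] L) →+* FractionRing ((k ⊗[κ] L) ⧸ Q) :=
    (algebraMap _ _).comp (Ideal.Quotient.mk Q)
  refine ⟨FractionRing ((k ⊗[κ] L) ⧸ Q), inferInstance, mk.comp (algebraMap k (k ⊗[κ] L)),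
    mk.comp Algebra.TensorProduct.includeRight.toRingHom, ?_, ?_⟩
  · ext c
    refine congrArg mk ?_
    show algebraMap k (k ⊗[κ] L) (algebraMap κ k c) = Algebra.TensorProduct.includeRight (algebraMap κ L c)
    rw [(Algebra.TensorProduct.includeRight : L →ₐ[κ] k ⊗[κ] L).commutes c, ← IsScalarTower.algebraMap_apply]
  · have heq : MvPolynomial.eval₂Hom (mk.comp (algebraMap k (k ⊗[κ] L)))
        ((mk.comp Algebra.TensorProduct.includeRight.toRingHom) ∘ x) = mk.comp g.toRingHom := by
      refine MvPolynomial.ringHom_ext (fun c => ?_) (fun i => ?_)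
      · rw [MvPolynomial.eval₂Hom_C]
        exact congrArg mk (g.commutes c).symm
      · rw [MvPolynomial.eval₂Hom_X']
        simp [g, f, e', mk]
    rw [heq, RingHom.injective_iff_ker_eq_bot, ← RingHom.comap_ker]
    rw [show RingHom.ker mk = Q from by
      rw [show mk = (algebraMap ((k ⊗[κ] L) ⧸ Q) _).comp (Ideal.Quotient.mk Q) from rfl, ← RingHom.comap_ker,
        (RingHom.injective_iff_ker_eq_bot _).1 (IsFractionRing.injective _ _), ← RingHom.ker_eq_comap_bot,
        Ideal.mk_ker]]
    exact hcomap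

/-- Some coefficient of a nonzero polynomial over a valuation ring divides all of them. -/
theorem exists_dvd_coeff {V : Type u} [CommRing V] [IsDomain V] [ValuationRing V] {n : ℕ}
    (F : MvPolynomial (Fin n) V) (hF : F ≠ 0) :
    ∃ (d : V) (G : MvPolynomial (Fin n) V) (m : Fin n →₀ ℕ),
      d ≠ 0 ∧ F = MvPolynomial.C d * G ∧ G.coeff m = 1 := by
  classical
  have key : ∀ s : Finset (Fin n →₀ ℕ), s.Nonempty → ∃ m ∈ s, ∀ m' ∈ s, F.coeff m ∣ F.coeff m' := by
    intro s hs
    induction hs using Finset.Nonempty.cons_induction with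
    | singleton a => exact ⟨a, Finset.mem_singleton_self a, fun m' hm' => by
        rw [Finset.mem_singleton.1 hm']⟩
    | cons a s ha hs ih =>
      obtain ⟨m, hm, hdiv⟩ := ih
      rcases ValuationRing.dvd_total (F.coeff a) (F.coeff m) with h | h
      · exact ⟨a, Finset.mem_cons_self _ _, fun m' hm' => by
          rcases Finset.mem_cons.1 hm' with rfl | hm'
          · exact dvd_rfl
          · exact h.trans (hdiv m' hm')⟩
      · exact ⟨m, Finset.mem_cons_of_mem hm, fun m' hm' => by
          rcases Finset.mem_cons.1 hm' with rfl | hm'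
          · exact h
          · exact hdiv m' hm'⟩
  obtain ⟨m, hm, hdiv⟩ := key F.support (MvPolynomial.support_nonempty.2 hF)
  have hd : F.coeff m ≠ 0 := MvPolynomial.mem_support_iff.1 hm
  obtain ⟨G, hG⟩ := (MvPolynomial.C_dvd_iff_dvd_coeff (F.coeff m) F).2 fun m' => by
    by_cases h : m' ∈ F.support
    · exact hdiv m' h
    · rw [MvPolynomial.notMem_support_iff.1 h]; exact dvd_zero _
  refine ⟨_, G, m, hd, hG, ?_⟩
  have h := congrArg (fun P => P.coeff m) hG
  simp only [MvPolynomial.coeff_C_mul] at h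
  exact mul_left_cancel₀ hd (h.symm.trans (mul_one _).symm)

/-- Clearing denominators of a polynomial over a residue field. -/
theorem exists_integer_poly (p : Ideal A) [p.IsPrime] {n : ℕ} (F : MvPolynomial (Fin n) p.ResidueField) :
    ∃ b ∉ p, ∃ F₀ : MvPolynomial (Fin n) A,
      F₀.map (algebraMap A p.ResidueField) = MvPolynomial.C (algebraMap A p.ResidueField b) * F := by
  induction F using MvPolynomial.induction_on' with
  | monomial m c =>
    obtain ⟨a, b, hb, rfl⟩ := IsFractionRing.div_surjective (A ⧸ p) c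
    obtain ⟨a, rfl⟩ := Ideal.Quotient.mk_surjective a
    obtain ⟨b, rfl⟩ := Ideal.Quotient.mk_surjective b
    have hbp : b ∉ p := fun h =>
      nonZeroDivisors.ne_zero hb (Ideal.Quotient.eq_zero_iff_mem.2 h)
    refine ⟨b, hbp, MvPolynomial.monomial m a, ?_⟩
    have hb0 : algebraMap A p.ResidueField b ≠ 0 := by rwa [ne_eq, Ideal.algebraMap_residueField_eq_zero]
    have hq : ∀ r : A, algebraMap (A ⧸ p) p.ResidueField (Ideal.Quotient.mk p r) = algebraMap A p.ResidueField r :=
      fun r => (IsScalarTower.algebraMap_apply A (A ⧸ p) p.ResidueField r).symm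
    rw [MvPolynomial.map_monomial, MvPolynomial.C_mul_monomial, hq, hq, mul_div_cancel₀ _ hb0]
  | add F G hF hG =>
    obtain ⟨b, hb, F₀, hF₀⟩ := hF
    obtain ⟨c, hc, G₀, hG₀⟩ := hG
    refine ⟨b * c, fun h => (Ideal.IsPrime.mem_or_mem ‹_› h).elim hb hc,
      MvPolynomial.C c * F₀ + MvPolynomial.C b * G₀, ?_⟩
    rw [map_add, map_mul, map_mul, MvPolynomial.map_C, MvPolynomial.map_C, hF₀, hG₀, map_mul, map_mul]
    ring

variable {B : Type u} [CommRing B] [Algebra A B]

/-- Universal openness produces independent elements over every generization of the base point. -/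
theorem exists_generic_independent (P : PrimeSpectrum B) {e : ℕ} (x : Fin e → B)
    (hx : ∀ F : MvPolynomial (Fin e) A, MvPolynomial.aeval x F ∈ P.asIdeal →
      ∀ m, F.coeff m ∈ (PrimeSpectrum.comap (algebraMap A B) P).asIdeal)
    (hopen : ∀ (V : Type u) [CommRing V] [Algebra A V], ∀ P' : PrimeSpectrum (V ⊗[A] B),
      PrimeSpectrum.comap (Algebra.TensorProduct.includeRight : B →ₐ[A] V ⊗[A] B).toRingHom P' = P →
        EGA43.IsOpenAt (PrimeSpectrum.comap (algebraMap V (V ⊗[A] B))) P')
    (p₀ : PrimeSpectrum A) (hp₀ : p₀ ≤ PrimeSpectrum.comap (algebraMap A B) P) :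
    ∃ R : PrimeSpectrum B, R ≤ P ∧ PrimeSpectrum.comap (algebraMap A B) R = p₀ ∧
      ∀ F : MvPolynomial (Fin e) A, MvPolynomial.aeval x F ∈ R.asIdeal →
        ∀ m, F.coeff m ∈ p₀.asIdeal := by
  classical
  let p := PrimeSpectrum.comap (algebraMap A B) P
  haveI : P.asIdeal.LiesOver p.asIdeal := ⟨rfl⟩
  obtain ⟨K, _, V, φ, hφ₀, hφ⟩ := exists_valuation_dominating hp₀
  letI : Algebra A V := φ.toAlgebra
  letI : Algebra p.asIdeal.ResidueField (ResidueField V) :=
    (IsFractionRing.lift (K := p.asIdeal.ResidueField)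
      (g := Ideal.Quotient.lift p.asIdeal ((residue V).comp φ) (fun a ha => by
        rw [← hφ] at ha
        exact (residue_eq_zero_iff _).2 ha))
      (RingHom.lift_injective_of_ker_le_ideal _ _ (by
        rw [← RingHom.comap_ker, ker_residue, hφ]))).toAlgebra
  have hscal : ∀ a : A, algebraMap p.asIdeal.ResidueField (ResidueField V) (algebraMap A _ a) =
      residue V (φ a) := fun a => by
    rw [RingHom.algebraMap_toAlgebra,
      IsScalarTower.algebraMap_apply A (A ⧸ p.asIdeal) p.asIdeal.ResidueField, IsFractionRing.lift_algebraMap]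
    rfl
  letI : Algebra p.asIdeal.ResidueField P.asIdeal.ResidueField :=
    (Ideal.ResidueField.map p.asIdeal P.asIdeal (algebraMap A B) rfl).toAlgebra
  have hcomm : ∀ a : A, algebraMap p.asIdeal.ResidueField P.asIdeal.ResidueField (algebraMap A _ a) =
      algebraMap B P.asIdeal.ResidueField (algebraMap A B a) := fun a => by
    rw [RingHom.algebraMap_toAlgebra]
    exact Ideal.ResidueField.map_algebraMap _ _ _ _ a
  haveI : IsScalarTower A p.asIdeal.ResidueField P.asIdeal.ResidueField :=
    IsScalarTower.of_algebraMap_eq fun a => by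
      rw [hcomm, IsScalarTower.algebraMap_apply A B P.asIdeal.ResidueField]
  have hind : AlgebraicIndependent p.asIdeal.ResidueField (algebraMap B P.asIdeal.ResidueField ∘ x) := by
    refine (injective_iff_map_eq_zero _).2 fun F hF => ?_
    obtain ⟨b, hb, F₀, hF₀⟩ := exists_integer_poly p.asIdeal F
    have h0 : MvPolynomial.aeval x F₀ ∈ P.asIdeal := by
      rw [← Ideal.algebraMap_residueField_eq_zero]
      have h1 : (MvPolynomial.aeval (algebraMap B P.asIdeal.ResidueField ∘ x) :
            MvPolynomial (Fin e) p.asIdeal.ResidueField →ₐ[p.asIdeal.ResidueField] P.asIdeal.ResidueField)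
          (F₀.map (algebraMap A p.asIdeal.ResidueField)) = 0 := by
        rw [hF₀, map_mul, hF, mul_zero]
      rw [MvPolynomial.aeval_map_algebraMap] at h1
      rw [← h1, MvPolynomial.aeval_def, MvPolynomial.aeval_def, MvPolynomial.eval₂_comp_left]
      exact congrArg (fun r => MvPolynomial.eval₂ r (algebraMap B P.asIdeal.ResidueField ∘ x) F₀)
        (IsScalarTower.algebraMap_eq A B P.asIdeal.ResidueField).symm
    have hzero : F₀.map (algebraMap A p.asIdeal.ResidueField) = 0 := by
      ext m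
      rw [MvPolynomial.coeff_map, MvPolynomial.coeff_zero, Ideal.algebraMap_residueField_eq_zero]
      exact hx F₀ h0 m
    rw [hF₀] at hzero
    exact (mul_eq_zero.1 hzero).resolve_left fun h => hb (Ideal.algebraMap_residueField_eq_zero.1
      (MvPolynomial.C_eq_zero.1 h))
  obtain ⟨M, _, σ, τ, hστ, hinj⟩ := exists_compositum_independent (k := ResidueField V) _ hind
  let sV : V →+* M := σ.comp (residue V)
  let sB : B →+* M := τ.comp (algebraMap B P.asIdeal.ResidueField)
  letI : Algebra A M := (sB.comp (algebraMap A B)).toAlgebra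
  have hsV : ∀ a : A, sV (φ a) = algebraMap A M a := fun a => by
    show σ (residue V (φ a)) = τ (algebraMap B P.asIdeal.ResidueField (algebraMap A B a))
    rw [← hscal, ← hcomm]
    exact congrArg (fun g : p.asIdeal.ResidueField →+* M => g (algebraMap A _ a)) hστ
  let aV : V →ₐ[A] M := { sV with commutes' := hsV }
  let aB : B →ₐ[A] M := { sB with commutes' := fun _ => rfl }
  let ev : (V ⊗[A] B) →ₐ[A] M := Algebra.TensorProduct.lift aV aB fun _ _ => .all _ _
  have hev1 : ∀ v : V, ev (algebraMap V (V ⊗[A] B) v) = sV v := fun v => by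
    simp [ev, aV, Algebra.TensorProduct.algebraMap_apply]
  have hev2 : ∀ b : B, ev ((1 : V) ⊗ₜ[A] b) = sB b := fun b => by simp [ev, aB]
  let P' : PrimeSpectrum (V ⊗[A] B) := ⟨RingHom.ker ev.toRingHom, RingHom.ker_isPrime _⟩
  have hP' : PrimeSpectrum.comap
      (Algebra.TensorProduct.includeRight : B →ₐ[A] V ⊗[A] B).toRingHom P' = P := by
    ext b
    show ev ((1 : V) ⊗ₜ[A] b) = 0 ↔ _
    rw [hev2]
    show τ _ = 0 ↔ _
    rw [map_eq_zero, Ideal.algebraMap_residueField_eq_zero]
  have hclosed : PrimeSpectrum.comap (algebraMap V (V ⊗[A] B)) P' = closedPoint V := by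
    ext v
    show ev (algebraMap V (V ⊗[A] B) v) = 0 ↔ _
    rw [hev1]
    show σ _ = 0 ↔ _
    rw [map_eq_zero, residue_eq_zero_iff]
    rfl
  haveI : P'.asIdeal.IsPrime := P'.isPrime
  let S : Submonoid (V ⊗[A] B) :=
    P'.asIdeal.primeCompl ⊔ (nonZeroDivisors V).map (algebraMap V (V ⊗[A] B)).toMonoidHom
  have hdis : Disjoint ((⊥ : Ideal (V ⊗[A] B)) : Set (V ⊗[A] B)) (S : Set (V ⊗[A] B)) := by
    rw [Set.disjoint_left]
    intro z hz hzS
    obtain ⟨g, hg, _, ⟨v, hv, rfl⟩, hgv⟩ := Submonoid.mem_sup.1 hzS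
    have hU := hopen V P' hP' _ ((PrimeSpectrum.basicOpen g).isOpen.mem_nhds
      (show P' ∈ PrimeSpectrum.basicOpen g from hg))
    rw [hclosed] at hU
    obtain ⟨O, hOsub, hO, hclO⟩ := mem_nhds_iff.1 hU
    obtain ⟨N, hN, hN0⟩ := hOsub (show (⟨⊥, Ideal.isPrime_bot⟩ : PrimeSpectrum V) ∈ O from
      (specializes_closedPoint _).mem_open hO hclO)
    have hz0 : z = 0 := hz
    rw [hz0] at hgv
    have hvN : algebraMap V (V ⊗[A] B) v ∈ N.asIdeal :=
      (N.isPrime.mem_or_mem (show g * algebraMap V (V ⊗[A] B) v ∈ N.asIdeal by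
        rw [show g * algebraMap V (V ⊗[A] B) v = 0 from hgv]; exact N.asIdeal.zero_mem)).resolve_left hN
    have : v ∈ (⊥ : Ideal V) := by
      rw [show (⊥ : Ideal V) = (PrimeSpectrum.comap (algebraMap V (V ⊗[A] B)) N).asIdeal by rw [hN0]]
      exact hvN
    exact nonZeroDivisors.ne_zero hv this
  obtain ⟨R, hR, -, hRS⟩ := Ideal.exists_le_prime_disjoint _ _ hdis
  have hRP : R ≤ P'.asIdeal := fun z hz => by
    by_contra h
    exact Set.disjoint_left.1 hRS hz (Submonoid.mem_sup_left h)
  have hRV : ∀ v : V, algebraMap V (V ⊗[A] B) v ∈ R → v = 0 := fun v hv => by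
    by_contra h
    exact Set.disjoint_left.1 hRS hv
      (Submonoid.mem_sup_right ⟨v, mem_nonZeroDivisors_of_ne_zero h, rfl⟩)
  let R₀ : PrimeSpectrum B := PrimeSpectrum.comap
    (Algebra.TensorProduct.includeRight : B →ₐ[A] V ⊗[A] B).toRingHom ⟨R, hR⟩
  have hinc : ∀ a : A, (1 : V) ⊗ₜ[A] algebraMap A B a = algebraMap V (V ⊗[A] B) (φ a) := fun a => by
    rw [Algebra.TensorProduct.algebraMap_apply]
    rw [Algebra.algebraMap_eq_smul_one, ← TensorProduct.smul_tmul]
    rw [Algebra.smul_def, mul_one]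
    rfl
  refine ⟨R₀, ?_, ?_, fun F hF m => ?_⟩
  · rw [← hP']
    exact fun b hb => hRP hb
  · ext a
    show (1 : V) ⊗ₜ[A] algebraMap A B a ∈ R ↔ _
    rw [hinc, ← hφ₀]
    show _ ↔ algebraMap V K (φ a) = 0
    rw [map_eq_zero_iff _ (IsFractionRing.injective V K)]
    exact ⟨hRV _, fun h => by rw [h, map_zero]; exact R.zero_mem⟩
  · by_contra hm
    have hne : F.map φ ≠ 0 := fun h => by
      refine hm ?_
      rw [← hφ₀]
      show algebraMap V K (φ (F.coeff m)) = 0
      rw [← MvPolynomial.coeff_map, h, MvPolynomial.coeff_zero, map_zero]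
    obtain ⟨d, G, m₀, hd, hG, hG1⟩ := exists_dvd_coeff (F.map φ) hne
    let ι : Fin e → V ⊗[A] B := fun i => (1 : V) ⊗ₜ[A] x i
    have hF' : MvPolynomial.aeval ι (F.map φ) ∈ R := by
      rw [show φ = algebraMap A V from rfl, MvPolynomial.aeval_map_algebraMap]
      have := DFunLike.congr_fun (MvPolynomial.comp_aeval (R := A) (f := x)
        (Algebra.TensorProduct.includeRight : B →ₐ[A] V ⊗[A] B)) F
      rw [← show _ = MvPolynomial.aeval ι F from this]
      exact hF
    rw [hG, map_mul, MvPolynomial.aeval_C] at hF'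
    have hGR : MvPolynomial.aeval ι G ∈ P'.asIdeal :=
      hRP ((hR.mem_or_mem hF').resolve_left fun h => hd (hRV d h))
    have h0 : MvPolynomial.eval₂Hom σ (τ ∘ algebraMap B P.asIdeal.ResidueField ∘ x)
        (G.map (residue V)) = 0 := by
      rw [MvPolynomial.eval₂Hom_map_hom]
      refine Eq.trans ?_ (show ev (MvPolynomial.aeval ι G) = 0 from hGR)
      rw [MvPolynomial.aeval_def, show ev (MvPolynomial.eval₂ (algebraMap V (V ⊗[A] B)) ι G) =
        ev.toRingHom (MvPolynomial.eval₂ (algebraMap V (V ⊗[A] B)) ι G) from rfl,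
        MvPolynomial.eval₂_comp_left]
      show MvPolynomial.eval₂ _ _ G = _
      congr 1
      · ext v; exact (hev1 v).symm
      · ext i; exact (hev2 (x i)).symm
    have := congrArg (fun Q => MvPolynomial.coeff m₀ Q) (hinj (h0.trans (map_zero _).symm))
    simp [MvPolynomial.coeff_map, hG1] at this

open DimFormulaLib in
/-- Over a generization of the image, a universally open point has a generization of at least its
degree. -/
theorem exists_generization_of_univOpenAt {X Y : Scheme.{u}} (f : X ⟶ Y) [LocallyOfFiniteType f] (x : X)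
    (h : EGA43.IsUnivOpenAt f x) (y' : Y) (hy' : y' ⤳ f x) :
    ∃ z, z ⤳ x ∧ f z = y' ∧ trd f x ≤ trd f z := by
  obtain ⟨c⟩ := exists_chart f x
  obtain ⟨(p₀ : PrimeSpectrum c.A), rfl⟩ : y' ∈ Set.range c.i :=
    hy'.mem_open c.i.isOpenEmbedding.isOpen_range ⟨c.p, c.hp⟩
  have hp₀ : p₀ ≤ PrimeSpectrum.comap (algebraMap c.A c.B) c.q := by
    refine (PrimeSpectrum.le_iff_specializes _ _).2 ?_
    rw [← c.i.isOpenEmbedding.isInducing.specializes_iff]
    show c.i p₀ ⤳ c.i c.p
    rw [c.hp]
    exact hy'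
  have hq : c.q.asIdeal.LiesOver c.p.asIdeal := ⟨rfl⟩
  have ht := resTrdegAt_eq_trd f x
  rw [c.resTrdegAt_self] at ht
  let e := trd f x
  letI : Algebra (c.A ⧸ c.p.asIdeal) (c.B ⧸ c.q.asIdeal) := Ideal.Quotient.algebraOfLiesOver c.q.asIdeal c.p.asIdeal
  haveI : FaithfulSMul (c.A ⧸ c.p.asIdeal) (c.B ⧸ c.q.asIdeal) := by
    refine (faithfulSMul_iff_algebraMap_injective _ _).2 ?_
    exact Ideal.quotientMap_injective' (le_of_eq rfl)
  obtain ⟨κ, xb, hxb⟩ := exists_isTranscendenceBasis' (c.A ⧸ c.p.asIdeal) (c.B ⧸ c.q.asIdeal)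
  have hcard : Cardinal.mk κ = e := hxb.cardinalMk_eq_trdeg.trans ht
  obtain ⟨eq⟩ : Nonempty (Fin e ≃ κ) := Cardinal.lift_mk_eq'.1 (by
    rw [Cardinal.mk_fin, Cardinal.lift_natCast, hcard, Cardinal.lift_natCast])
  let xb' : Fin e → c.B ⧸ c.q.asIdeal := fun i => xb (eq i)
  have hind : AlgebraicIndependent (c.A ⧸ c.p.asIdeal) xb' := hxb.1.comp _ eq.injective
  choose b hb using fun i => Ideal.Quotient.mk_surjective (xb' i)
  have hopen : ∀ (V : Type u) [CommRing V] [Algebra c.A V], ∀ P' : PrimeSpectrum (V ⊗[c.A] c.B),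
      PrimeSpectrum.comap (Algebra.TensorProduct.includeRight : c.B →ₐ[c.A] V ⊗[c.A] c.B).toRingHom P' = c.q →
        EGA43.IsOpenAt (PrimeSpectrum.comap (algebraMap V (V ⊗[c.A] c.B))) P' := by
    intro V _ _ P' hP'
    have h1 : EGA43.IsUnivOpenAt (c.j ≫ f) c.q :=
      UnivOpenAtLib.univOpenAt_comp (UnivOpenAtLib.universallyOpen_iff_forall.1 inferInstance _)
        (show EGA43.IsUnivOpenAt f (c.j.base c.q) by rw [show c.j.base c.q = x from c.hq]; exact h)
    rw [c.w] at h1
    have sq := isPullback_SpecMap_of_isPushout _ _ _ _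
      (CommRingCat.isPushout_tensorProduct c.A V c.B)
    exact UnivOpenAtLib.isOpenAt_of_isPullback h1
      (show IsPullback (Spec.map (CommRingCat.ofHom
          (Algebra.TensorProduct.includeRight : c.B →ₐ[c.A] V ⊗[c.A] c.B).toRingHom))
          (Spec.map (CommRingCat.ofHom (algebraMap V (V ⊗[c.A] c.B))))
          (Spec.map (CommRingCat.ofHom (algebraMap c.A c.B)) ≫ c.i)
          (Spec.map (CommRingCat.ofHom (algebraMap c.A V)) ≫ c.i) from
        ⟨⟨by rw [← Category.assoc, ← Category.assoc]; exact congrArg (· ≫ c.i) sq.flip.w⟩,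
          ⟨Limits.PullbackCone.isLimitOfCompMono _ _ c.i _ sq.flip.isLimit⟩⟩) P' hP'
  obtain ⟨R, hRq, hRp₀, hR⟩ := exists_generic_independent c.q b (fun F hF m => by
    have h0 : MvPolynomial.aeval xb' (F.map (Ideal.Quotient.mk c.p.asIdeal)) = 0 := by
      rw [show Ideal.Quotient.mk c.p.asIdeal = algebraMap c.A (c.A ⧸ c.p.asIdeal) from rfl,
        MvPolynomial.aeval_map_algebraMap, show xb' = (Ideal.Quotient.mkₐ c.A c.q.asIdeal) ∘ b from
          funext fun i => (hb i).symm]
      rw [Function.comp_def, ← MvPolynomial.comp_aeval_apply]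
      exact Ideal.Quotient.eq_zero_iff_mem.2 hF
    have := congrArg (fun Q => MvPolynomial.coeff m Q) (hind.eq_zero_of_aeval_eq_zero _ h0)
    simp only [MvPolynomial.coeff_map, MvPolynomial.coeff_zero] at this
    exact Ideal.Quotient.eq_zero_iff_mem.1 this) hopen p₀ hp₀
  refine ⟨c.j R, c.specializes hRq, ?_, ?_⟩
  · rw [c.apply_j, hRp₀]
  · have hz := resTrdegAt_eq_trd f (c.j R)
    rw [c.resTrdegAt_eq] at hz
    subst hRp₀
    let q₀ := (PrimeSpectrum.comap (algebraMap c.A c.B) R).asIdeal
    haveI : R.asIdeal.LiesOver q₀ := ⟨rfl⟩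
    letI : Algebra (c.A ⧸ q₀) (c.B ⧸ R.asIdeal) := Ideal.Quotient.algebraOfLiesOver R.asIdeal q₀
    have hindR : AlgebraicIndependent (c.A ⧸ q₀) (Ideal.Quotient.mkₐ c.A R.asIdeal ∘ b) := by
      refine (injective_iff_map_eq_zero _).2 fun Q hQ => ?_
      obtain ⟨F, rfl⟩ := MvPolynomial.map_surjective _ (Ideal.Quotient.mk_surjective (I := q₀)) Q
      rw [show Ideal.Quotient.mk q₀ = algebraMap c.A (c.A ⧸ q₀) from rfl,
        MvPolynomial.aeval_map_algebraMap, Function.comp_def, ← MvPolynomial.comp_aeval_apply] at hQ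
      ext m
      rw [MvPolynomial.coeff_map, MvPolynomial.coeff_zero]
      exact Ideal.Quotient.eq_zero_iff_mem.2 (hR F (Ideal.Quotient.eq_zero_iff_mem.1 hQ) m)
    haveI : Nontrivial (c.A ⧸ q₀) := Ideal.Quotient.nontrivial_iff.2
      (PrimeSpectrum.comap (algebraMap c.A c.B) R).isPrime.ne_top
    have hcardle := hindR.lift_cardinalMk_le_trdeg
    simp only [Cardinal.mk_fin, Cardinal.lift_natCast, Cardinal.lift_id, Cardinal.lift_uzero] at hcardle
    exact_mod_cast hcardle.trans (le_of_eq hz)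

end Groth.Agent.OpenDim
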