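import Mathlib
import Groth.Agent.OpenDim.Dominate

/-!
# Transcendence degrees through independent elements; fibres over valuation rings
-/

set_option autoImplicit false
set_option linter.style.haveILetI false
set_option backward.isDefEq.respectTransparency false
set_option backward.defeqAttrib.useBackward true

open CategoryTheory AlgebraicGeometry Topology TopologicalSpace IsLocalRing

universe u

namespace Groth.Agent.OpenDim

open Groth.Agent.DimFormulaLib

/-- `x` is algebraically independent modulo the prime `P`, relative to its contraction. -/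
def IndepMod {A B : Type u} [CommRing A] [CommRing B] [Algebra A B] (P : PrimeSpectrum B) {n : ℕ}
    (x : Fin n → B) : Prop :=
  ∀ F : MvPolynomial (Fin n) A, MvPolynomial.aeval x F ∈ P.asIdeal →
    ∀ m, F.coeff m ∈ (PrimeSpectrum.comap (algebraMap A B) P).asIdeal

variable {X Y : Scheme.{u}} {f : X ⟶ Y} [LocallyOfFiniteType f] {x : X}

theorem exists_indepMod (c : Chart f x) :
    ∃ b : Fin (trd f x) → c.B, IndepMod (A := c.A) c.q b := by
  have hq : c.q.asIdeal.LiesOver c.p.asIdeal := ⟨rfl⟩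
  have ht := resTrdegAt_eq_trd f x
  rw [c.resTrdegAt_self] at ht
  let e := trd f x
  letI : Algebra (c.A ⧸ c.p.asIdeal) (c.B ⧸ c.q.asIdeal) := Ideal.Quotient.algebraOfLiesOver c.q.asIdeal c.p.asIdeal
  haveI : FaithfulSMul (c.A ⧸ c.p.asIdeal) (c.B ⧸ c.q.asIdeal) := by
    refine (faithfulSMul_iff_algebraMap_injective _ _).2 ?_
    exact Ideal.quotientMap_injective' (le_of_eq rfl)
  obtain ⟨κ, xb, hxb⟩ := exists_isTranscendenceBasis' (c.A ⧸ c.p.asIdeal) (c.B ⧸ c.q.asIdeal)
  have hcard : Cardinal.mk κ = e := hxb.cardinalMk_eq_trdeg.trans ht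
  obtain ⟨eq⟩ : Nonempty (Fin e ≃ κ) := Cardinal.lift_mk_eq'.1 (by
    rw [Cardinal.mk_fin, Cardinal.lift_natCast, hcard, Cardinal.lift_natCast])
  let xb' : Fin e → c.B ⧸ c.q.asIdeal := fun i => xb (eq i)
  have hind : AlgebraicIndependent (c.A ⧸ c.p.asIdeal) xb' := hxb.1.comp _ eq.injective
  choose b hb using fun i => Ideal.Quotient.mk_surjective (xb' i)
  refine ⟨b, fun F hF m => ?_⟩
  have h0 : MvPolynomial.aeval xb' (F.map (Ideal.Quotient.mk c.p.asIdeal)) = 0 := by
    rw [show Ideal.Quotient.mk c.p.asIdeal = algebraMap c.A (c.A ⧸ c.p.asIdeal) from rfl,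
      MvPolynomial.aeval_map_algebraMap, show xb' = (Ideal.Quotient.mkₐ c.A c.q.asIdeal) ∘ b from
        funext fun i => (hb i).symm]
    rw [Function.comp_def, ← MvPolynomial.comp_aeval_apply]
    exact Ideal.Quotient.eq_zero_iff_mem.2 hF
  have := congrArg (fun Q => MvPolynomial.coeff m Q) (hind.eq_zero_of_aeval_eq_zero _ h0)
  simp only [MvPolynomial.coeff_map, MvPolynomial.coeff_zero] at this
  exact Ideal.Quotient.eq_zero_iff_mem.1 this

theorem le_trd_of_indepMod (c : Chart f x) (R : PrimeSpectrum c.B) {n : ℕ} (b : Fin n → c.B)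
    (h : IndepMod (A := c.A) R b) : n ≤ trd f (c.j R) := by
  have hz := resTrdegAt_eq_trd f (c.j R)
  rw [c.resTrdegAt_eq] at hz
  let q₀ := (PrimeSpectrum.comap (algebraMap c.A c.B) R).asIdeal
  haveI : R.asIdeal.LiesOver q₀ := ⟨rfl⟩
  letI : Algebra (c.A ⧸ q₀) (c.B ⧸ R.asIdeal) := Ideal.Quotient.algebraOfLiesOver R.asIdeal q₀
  have hindR : AlgebraicIndependent (c.A ⧸ q₀) (Ideal.Quotient.mkₐ c.A R.asIdeal ∘ b) := by
    refine (injective_iff_map_eq_zero _).2 fun Q hQ => ?_
    obtain ⟨F, rfl⟩ := MvPolynomial.map_surjective _ (Ideal.Quotient.mk_surjective (I := q₀)) Q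
    rw [show Ideal.Quotient.mk q₀ = algebraMap c.A (c.A ⧸ q₀) from rfl,
      MvPolynomial.aeval_map_algebraMap, Function.comp_def, ← MvPolynomial.comp_aeval_apply] at hQ
    ext m
    rw [MvPolynomial.coeff_map, MvPolynomial.coeff_zero]
    exact Ideal.Quotient.eq_zero_iff_mem.2 (h F (Ideal.Quotient.eq_zero_iff_mem.1 hQ) m)
  haveI : Nontrivial (c.A ⧸ q₀) := Ideal.Quotient.nontrivial_iff.2
    (PrimeSpectrum.comap (algebraMap c.A c.B) R).isPrime.ne_top
  have hcardle := hindR.lift_cardinalMk_le_trdeg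
  simp only [Cardinal.mk_fin, Cardinal.lift_natCast, Cardinal.lift_id, Cardinal.lift_uzero] at hcardle
  exact_mod_cast hcardle.trans (le_of_eq hz)

/-- Over a valuation ring, independence in the closed fibre propagates to the generic fibre. -/
theorem indepMod_generic {A B : Type u} [CommRing A] [IsDomain A] [ValuationRing A] [CommRing B]
    [Algebra A B] {R P : PrimeSpectrum B} (hRP : R ≤ P)
    (hR : (PrimeSpectrum.comap (algebraMap A B) R).asIdeal = ⊥) {n : ℕ} {x : Fin n → B}
    (h : IndepMod (A := A) P x) : IndepMod (A := A) R x := by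
  intro F hF m
  by_contra hm
  have hne : F ≠ 0 := fun h0 => hm (by rw [h0, MvPolynomial.coeff_zero]; exact zero_mem _)
  obtain ⟨d, G, m₀, hd, hG, hG1⟩ := exists_dvd_coeff F hne
  rw [hG, map_mul, MvPolynomial.aeval_C] at hF
  have hdR : algebraMap A B d ∉ R.asIdeal := fun h' => hd (by
    have : d ∈ (PrimeSpectrum.comap (algebraMap A B) R).asIdeal := h'
    rwa [hR, Ideal.mem_bot] at this)
  have := h G (hRP ((R.isPrime.mem_or_mem hF).resolve_left hdR)) m₀
  rw [hG1] at this
  exact (PrimeSpectrum.comap (algebraMap A B) P).isPrime.ne_top ((Ideal.eq_top_iff_one _).2 this)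

/-- Over a valuation ring a generization in the generic fibre has at least the degree. -/
theorem trd_le_of_valuationRing {A : Type u} [CommRing A] [IsDomain A] [ValuationRing A]
    {Z : Scheme.{u}} (g : Z ⟶ Spec (CommRingCat.of A)) [LocallyOfFiniteType g] {w ξ : Z}
    (hw : g w = closedPoint A) (hξw : ξ ⤳ w) (hξ : g ξ = (⟨⊥, Ideal.isPrime_bot⟩ : PrimeSpectrum A)) :
    trd g w ≤ trd g ξ := by
  obtain ⟨c⟩ := exists_chart g w
  have hsurj : Function.Surjective c.i := fun z => by
    have hz : z ⤳ g w := hw ▸ specializes_closedPoint _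
    exact hz.mem_open c.i.isOpenEmbedding.isOpen_range ⟨c.p, c.hp⟩
  haveI : Surjective c.i := ⟨hsurj⟩
  haveI : IsIso c.i := by
    rw [isIso_iff_isOpenImmersion_and_epi_base]
    exact ⟨inferInstance, (TopCat.epi_iff_surjective _).2 hsurj⟩
  obtain ⟨φ, hφ⟩ : ∃ φ : CommRingCat.of A ⟶ CommRingCat.of c.A, Spec.map φ = c.i := ⟨_, Spec.map_preimage c.i⟩
  haveI : IsIso φ := by
    haveI : IsIso (Spec.map φ) := hφ ▸ inferInstance
    haveI : IsIso (Scheme.Spec.map φ.op) := (inferInstance : IsIso (Spec.map φ))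
    haveI : IsIso φ.op := isIso_of_reflects_iso φ.op Scheme.Spec
    exact isIso_of_op φ
  let e : A ≃+* c.A := (asIso φ).commRingCatIsoToRingEquiv
  haveI : IsDomain c.A := e.symm.injective.isDomain e.symm.toRingHom
  haveI : ValuationRing c.A := Function.Surjective.valuationRing e.toRingHom e.surjective
  obtain ⟨R, hR, rfl⟩ := c.exists_le hξw
  have hR0 : (PrimeSpectrum.comap (algebraMap c.A c.B) R).asIdeal = ⊥ := by
    rw [c.apply_j, ← hφ] at hξ
    have h2 : (PrimeSpectrum.comap (algebraMap c.A c.B) R).asIdeal.comap φ.hom = ⊥ :=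
      congrArg PrimeSpectrum.asIdeal hξ
    rw [eq_bot_iff]
    intro a ha
    obtain ⟨a', rfl⟩ := e.surjective a
    have : a' ∈ (⊥ : Ideal A) := h2 ▸ ha
    rw [Ideal.mem_bot] at this ⊢
    rw [this, map_zero]
  obtain ⟨b, hb⟩ := exists_indepMod c
  exact le_trd_of_indepMod c R b (indepMod_generic hR hR0 hb)

end Groth.Agent.OpenDim
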