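import Mathlib
import Groth.Agent.OpenDim.Algebra

/-!
# Openness at a point and heights (EGA IV 14.2.1)

If generizations of `p = P ∩ A` lift to generizations of `P`, chains below `p` are realised below
`P`: for every `p₀ ≤ p` some `R ≤ P` over `p₀` has `relHeight p₀ p ≤ relHeight R P`.
-/

set_option autoImplicit false
set_option linter.style.haveILetI false

universe u

namespace Groth.Agent.OpenDim

open Groth.Agent.DimFormulaLib

variable {A B : Type u} [CommRing A] [CommRing B] [Algebra A B]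

local notation "π*" => PrimeSpectrum.comap (algebraMap A B)

theorem relHeight_add_le {C : Type u} [CommRing C] [IsNoetherianRing C] {P Q R : PrimeSpectrum C}
    (h₁ : P ≤ Q) (h₂ : Q ≤ R) : relHeight P Q + relHeight Q R ≤ relHeight P R := by
  obtain ⟨n, s, hn, sh, sl, sn, -⟩ := exists_saturated_between h₁
  obtain ⟨m, t, hm, th, tl, tn, -⟩ := exists_saturated_between h₂
  have h := length_le_relHeight (P := P) (Q := R) (s.smash t (sl.trans th.symm))
    (by rw [RelSeries.head_smash, sh]) (by rw [RelSeries.last_smash, tl])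
  rw [hn, hm]
  refine le_trans (le_of_eq ?_) h
  show (n : ℕ∞) + m = ((s.length + t.length : ℕ) : ℕ∞)
  rw [sn, tn, Nat.cast_add]

/-- A prime strictly between, one step above `p₀`, avoiding finitely many given primes. -/
theorem exists_next [IsNoetherianRing A] {p₀ p₂ : PrimeSpectrum A} (h2 : 2 ≤ relHeight p₀ p₂)
    (hle : p₀ ≤ p₂) (Ex : Finset (Ideal A)) (hEx : ∀ J ∈ Ex, J.IsPrime) :
    ∃ p' : PrimeSpectrum A, p₀ < p' ∧ p' < p₂ ∧ relHeight p₀ p' ≤ 1 ∧ p'.asIdeal ∉ Ex := by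
  classical
  have hlt : p₀ < p₂ := lt_of_le_of_ne hle fun h => by
    rw [h, relHeight_self] at h2
    exact absurd h2 (by norm_num)
  let E := insert p₀.asIdeal (Ex.filter fun J => J < p₂.asIdeal)
  have hE : ∀ J ∈ E, J.IsPrime ∧ J < p₂.asIdeal := by
    intro J hJ
    rcases Finset.mem_insert.1 hJ with rfl | hJ
    · exact ⟨p₀.isPrime, lt_of_le_of_ne hle fun h => hlt.ne (PrimeSpectrum.ext h)⟩
    · exact ⟨hEx J (Finset.mem_filter.1 hJ).1, (Finset.mem_filter.1 hJ).2⟩
  obtain ⟨x, hxp, hx⟩ : ∃ x ∈ p₂.asIdeal, ∀ J ∈ E, x ∉ J := by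
    by_contra! hcon
    obtain ⟨J, hJ, hle⟩ := (Ideal.subset_union_prime (s := E) (f := id) ⊥ ⊥
      fun J hJ _ _ => (hE J hJ).1).1 (fun x hx => by
        obtain ⟨J, hJ, hxJ⟩ := hcon x hx
        exact Set.mem_biUnion (x := J) hJ hxJ)
    exact (hE J hJ).2.not_ge hle
  obtain ⟨Q, hQ, hQP⟩ := Ideal.exists_minimalPrimes_le (I := p₀.asIdeal ⊔ Ideal.span {x})
    (J := p₂.asIdeal) (sup_le hle (by rwa [Ideal.span_singleton_le_iff_mem]))
  haveI := hQ.1.1
  let p' : PrimeSpectrum A := ⟨Q, inferInstance⟩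
  have hxQ : x ∈ Q := hQ.1.2 (Ideal.mem_sup_right (Ideal.mem_span_singleton_self x))
  have hp₀Q : p₀.asIdeal ≤ Q := le_sup_left.trans hQ.1.2
  have hb1 : relHeight p₀ p' ≤ 1 := by
    rw [relHeight]
    refine Ideal.height_le_one_of_isPrincipal_of_mem_minimalPrimes
      (Ideal.span {Ideal.Quotient.mk p₀.asIdeal x}) _ ⟨⟨Ideal.map_isPrime_of_surjective
        Ideal.Quotient.mk_surjective (by rw [Ideal.mk_ker]; exact hp₀Q), ?_⟩, fun J hJ hJQ => ?_⟩
    · rw [Ideal.span_singleton_le_iff_mem]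
      exact Ideal.mem_map_of_mem _ hxQ
    · haveI := hJ.1
      refine Ideal.map_le_iff_le_comap.2 (hQ.2 ⟨inferInstance, sup_le ?_ ?_⟩ ?_)
      · intro a ha
        rw [Ideal.mem_comap, Ideal.Quotient.eq_zero_iff_mem.2 ha]
        exact J.zero_mem
      · rw [Ideal.span_singleton_le_iff_mem]
        exact hJ.2 (Ideal.mem_span_singleton_self _)
      · refine (Ideal.comap_mono hJQ).trans (le_of_eq ?_)
        rw [Ideal.comap_map_of_surjective' _ Ideal.Quotient.mk_surjective, Ideal.mk_ker,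
          sup_eq_left.2 hp₀Q]
  have hne : p' ≠ p₂ := fun h => by
    rw [h] at hb1
    exact absurd (h2.trans hb1) (by norm_num)
  refine ⟨p', lt_of_le_of_ne hp₀Q fun h => hx _ (Finset.mem_insert_self _ _) ?_,
    lt_of_le_of_ne hQP hne, hb1, fun hmem => ?_⟩
  · rw [h]; exact hxQ
  · exact hx Q (Finset.mem_insert_of_mem (Finset.mem_filter.2
      ⟨hmem, lt_of_le_of_ne hQP fun h => hne (PrimeSpectrum.ext h)⟩)) hxQ

/-- EGA IV 14.2.1: chains below the image lift. -/
theorem exists_over_relHeight_ge [IsNoetherianRing A] [IsNoetherianRing B] (P : PrimeSpectrum B)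
    (hlift : Lifts (A := A) P) :
    ∀ p₀ ≤ π* P, ∃ R : PrimeSpectrum B, R ≤ P ∧ π* R = p₀ ∧ relHeight p₀ (π* P) ≤ relHeight R P := by
  classical
  suffices ∀ (I : Ideal A) (p₀ : PrimeSpectrum A), p₀.asIdeal = I → p₀ ≤ π* P →
      ∃ R : PrimeSpectrum B, R ≤ P ∧ π* R = p₀ ∧ relHeight p₀ (π* P) ≤ relHeight R P from
    fun p₀ h => this _ p₀ rfl h
  intro I
  induction I using WellFoundedGT.induction with
  | _ I ih =>
  rintro p₀ rfl hp₀
  obtain ⟨n, s, hn, sh, sl, sn, -⟩ := exists_saturated_between hp₀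
  rcases Nat.lt_or_ge n 2 with hn2 | hn2
  · obtain ⟨R, hR, hRp⟩ := hlift p₀ hp₀
    refine ⟨R, hR, hRp, ?_⟩
    rw [hn]
    interval_cases n
    · exact le_of_eq_of_le Nat.cast_zero zero_le
    · have hne : R ≠ P := fun h => by
        rw [← hRp, h, relHeight_self] at hn
        exact absurd hn (by norm_num)
      have := one_add_relHeight_le (lt_of_le_of_ne hR hne) (le_refl P)
      rw [relHeight_self, zero_add] at this
      exact_mod_cast this
  -- the third term of a maximal chain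
  let k : Fin (s.length + 1) := ⟨2, by omega⟩
  have hk0 : relHeight p₀ (s k) ≥ 2 := by
    have h := length_le_relHeight (P := p₀) (Q := s k) (s.take k)
      (by show p₀ ≤ (s.take k).head; rw [RelSeries.head_take, sh])
      (by show (s.take k).last ≤ s k; rw [RelSeries.last_take])
    exact h
  have hk1 : ((n - 2 : ℕ) : ℕ∞) ≤ relHeight (s k) (π* P) := by
    have h := length_le_relHeight (P := s k) (Q := π* P) (s.drop k)
      (by show s k ≤ (s.drop k).head; rw [RelSeries.head_drop])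
      (by show (s.drop k).last ≤ π* P; rw [RelSeries.last_drop, sl])
    refine le_trans (le_of_eq ?_) h
    show ((n - 2 : ℕ) : ℕ∞) = ((s.length - 2 : ℕ) : ℕ∞)
    rw [sn]
  have hk : p₀ ≤ s k := sh ▸ s.monotone (Fin.zero_le k)
  have hkP : s k ≤ π* P := sl ▸ s.monotone (Fin.le_last k)
  have hfin := (p₀.asIdeal.map (algebraMap A B)).finite_minimalPrimes_of_isNoetherianRing
  obtain ⟨p', hp₀', hp'k, hb1, hEx⟩ := exists_next hk0 hk
    (hfin.toFinset.image fun R => R.comap (algebraMap A B)) (fun J hJ => by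
      obtain ⟨R, hR, rfl⟩ := Finset.mem_image.1 hJ
      haveI := (hfin.mem_toFinset.1 hR).1.1
      exact inferInstance)
  obtain ⟨R', hR'P, hR'p, hR'h⟩ := ih p'.asIdeal hp₀' p' rfl (hp'k.le.trans hkP)
  obtain ⟨R, hR, hRR'⟩ := Ideal.exists_minimalPrimes_le (I := p₀.asIdeal.map (algebraMap A B))
    (J := R'.asIdeal) (Ideal.map_le_iff_le_comap.2
      ((le_of_lt hp₀' : p₀ ≤ p').trans (le_of_eq hR'p.symm)))
  haveI := hR.1.1
  let R₀ : PrimeSpectrum B := ⟨R, inferInstance⟩
  have h1 : p₀ ≤ π* R₀ := Ideal.map_le_iff_le_comap.1 hR.1.2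
  have h2 : π* R₀ ≤ p' := (Ideal.comap_mono hRR').trans (congrArg PrimeSpectrum.asIdeal hR'p).le
  have h3 : π* R₀ < p' := lt_of_le_of_ne h2 fun h => hEx
    (Finset.mem_image.2 ⟨R, hfin.mem_toFinset.2 hR, congrArg PrimeSpectrum.asIdeal h⟩)
  have h4 : π* R₀ = p₀ := by
    by_contra hne
    have a1 := one_add_relHeight_le (lt_of_le_of_ne h1 (Ne.symm hne)) h2
    have a2 := one_add_relHeight_le h3 (le_refl p')
    rw [relHeight_self, zero_add] at a2
    exact absurd ((add_le_add a2 le_rfl).trans (a1.trans hb1)) (by norm_num)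
  refine ⟨R₀, le_trans (show R₀ ≤ R' from hRR') hR'P, h4, ?_⟩
  have hRlt : R₀ < R' := lt_of_le_of_ne hRR' fun h => hp₀'.ne (h4.symm.trans ((congrArg π* h).trans hR'p))
  have e1 := one_add_relHeight_le hRlt hR'P
  have e2 := one_add_relHeight_le hp'k hkP
  rw [hn]
  calc ((n : ℕ) : ℕ∞) = ((n - 2 : ℕ) : ℕ∞) + 1 + 1 := by
        rw [add_assoc]; exact_mod_cast (by omega : n = n - 2 + (1 + 1))
    _ ≤ relHeight (s k) (π* P) + 1 + 1 := by gcongr
    _ ≤ relHeight p' (π* P) + 1 := by gcongr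
    _ ≤ relHeight R' P + 1 := by gcongr
    _ ≤ relHeight R₀ P := e1

end Groth.Agent.OpenDim
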