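import Mathlib
import Groth.Agent.OpenDim.Scheme
import Groth.Agent.OpenDim.Height
import Groth.Agent.FibreDepth.Scheme

/-!
# The dimension formula at a point of openness (EGA IV 14.2.1)
-/

set_option autoImplicit false
set_option linter.style.haveILetI false
set_option backward.isDefEq.respectTransparency false
set_option backward.defeqAttrib.useBackward true

open CategoryTheory AlgebraicGeometry Topology IsLocalRing

universe u

namespace Groth.Agent.OpenDim

open Groth.Agent.DimFormulaLib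

variable {X Y : Scheme.{u}}

theorem isOpenAt_of_square {α β α' β' : Type*} [TopologicalSpace α] [TopologicalSpace β]
    [TopologicalSpace α'] [TopologicalSpace β'] {φ : α → β} {φ' : α' → β'} {j : α' → α} {i : β' → β}
    (hj : IsOpenMap j) (hi : Function.Injective i) (hic : Continuous i)
    (hsq : ∀ w, φ (j w) = i (φ' w)) {w : α'} (h : EGA43.IsOpenAt φ (j w)) : EGA43.IsOpenAt φ' w := by
  intro U hU
  have h2 := h _ (hj.image_mem_nhds hU)
  rw [hsq] at h2
  refine Filter.mem_of_superset (hic.continuousAt.preimage_mem_nhds h2) ?_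
  rintro z ⟨_, ⟨v, hv, rfl⟩, hz⟩
  exact ⟨v, hv, hi ((hsq v).symm.trans hz)⟩

/-- Generizations of the image lift at a point of openness of a locally Noetherian scheme. -/
theorem exists_generization_of_isOpenAt [IsLocallyNoetherian X] (f : X ⟶ Y) (ζ : X)
    (h : EGA43.IsOpenAt f.base ζ) (y' : Y) (hy' : y' ⤳ f ζ) : ∃ z, z ⤳ ζ ∧ f z = y' := by
  obtain ⟨R, i, hi, ⟨p, hp⟩, -⟩ := Scheme.exists_affine_mem_range_and_range_subset
    (show f ζ ∈ (⊤ : Y.Opens) from trivial)
  haveI := hi
  obtain ⟨S, j, hj, ⟨q, hq⟩, hsub⟩ := Scheme.exists_affine_mem_range_and_range_subset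
    (show ζ ∈ f ⁻¹ᵁ i.opensRange from ⟨p, hp⟩)
  haveI := hj
  have hr : Set.range (j ≫ f) ⊆ Set.range i := by
    rintro _ ⟨z, rfl⟩
    exact hsub ⟨z, rfl⟩
  let φ := IsOpenImmersion.lift i (j ≫ f) hr
  have hsq : ∀ w : Spec S, f (j w) = i (φ w) := fun w => by
    rw [← Scheme.Hom.comp_apply, ← Scheme.Hom.comp_apply, IsOpenImmersion.lift_fac]
  letI : Algebra R S := (Spec.preimage φ).hom.toAlgebra
  haveI : IsLocallyNoetherian (Spec S) := isLocallyNoetherian_of_isOpenImmersion j
  haveI : IsNoetherianRing S := by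
    haveI : IsNoetherianRing Γ(Spec S, ⊤) :=
      IsLocallyNoetherian.component_noetherian ⟨⊤, isAffineOpen_top _⟩
    exact isNoetherianRing_of_ringEquiv _ (Scheme.ΓSpecIso S).commRingCatIsoToRingEquiv
  have hφ : ∀ w : PrimeSpectrum S, PrimeSpectrum.comap (algebraMap R S) w = φ w := fun w => by
    show (Spec.map (Spec.preimage φ)) w = φ w
    rw [Spec.map_preimage]
  have hopen : EGA43.IsOpenAt (PrimeSpectrum.comap (algebraMap R S)) (q : PrimeSpectrum S) := by
    refine isOpenAt_of_square (φ := f.base) (j := j.base) (i := i.base) j.isOpenEmbedding.isOpenMap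
      i.isOpenEmbedding.injective i.continuous (fun w => ?_) (by rw [show j.base q = ζ from hq]; exact h)
    rw [hφ]
    exact hsq w
  obtain ⟨(p₀ : PrimeSpectrum R), hp₀⟩ : y' ∈ Set.range i :=
    hy'.mem_open i.isOpenEmbedding.isOpen_range ⟨p, hp⟩
  have hle : p₀ ≤ PrimeSpectrum.comap (algebraMap R S) (q : PrimeSpectrum S) := by
    refine (PrimeSpectrum.le_iff_specializes _ _).2 (i.isOpenEmbedding.isInducing.specializes_iff.1 ?_)
    rw [hp₀, hφ, ← hsq, hq]
    exact hy'
  obtain ⟨P', hP', hP'p⟩ := lifts_of_isOpenAt (q : PrimeSpectrum S) hopen p₀ hle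
  refine ⟨j P', ?_, ?_⟩
  · rw [← hq]
    exact ((PrimeSpectrum.le_iff_specializes _ _).1 hP').map j.continuous
  · rw [hsq, ← hφ, hP'p, hp₀]

theorem ringKrullDim_quotient_le {C : Type u} [CommRing C] [IsLocalRing C] [IsNoetherianRing C]
    (I : Ideal C) (hI : I ≤ maximalIdeal C) :
    ∃ P : PrimeSpectrum C, I ≤ P.asIdeal ∧ (∀ P' ≤ P, I ≤ P'.asIdeal → P' = P) ∧
      ringKrullDim (C ⧸ I) ≤ (relHeight P ⟨maximalIdeal C, inferInstance⟩ : WithBot ℕ∞) := by
  haveI : Nontrivial (C ⧸ I) := Ideal.Quotient.nontrivial_iff.mpr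
    (ne_top_of_le_ne_top (maximalIdeal.isMaximal C).ne_top hI)
  haveI : IsLocalRing (C ⧸ I) := .of_surjective' (Ideal.Quotient.mk I) Ideal.Quotient.mk_surjective
  let m : PrimeSpectrum (C ⧸ I) := ⟨maximalIdeal (C ⧸ I), inferInstance⟩
  obtain ⟨N, hNmin, hNm, hNe⟩ := exists_isMin_relHeight_eq_height m
  let P := PrimeSpectrum.comap (Ideal.Quotient.mk I) N
  have hIP : I ≤ P.asIdeal := fun x hx => by
    show Ideal.Quotient.mk I x ∈ N.asIdeal
    rw [Ideal.Quotient.eq_zero_iff_mem.2 hx]
    exact zero_mem _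
  refine ⟨P, hIP, fun P' hP' hIP' => ?_, ?_⟩
  · haveI : (P'.asIdeal.map (Ideal.Quotient.mk I)).IsPrime :=
      Ideal.map_isPrime_of_surjective Ideal.Quotient.mk_surjective (by rw [Ideal.mk_ker]; exact hIP')
    let N' : PrimeSpectrum (C ⧸ I) := ⟨P'.asIdeal.map (Ideal.Quotient.mk I), inferInstance⟩
    have hN' : PrimeSpectrum.comap (Ideal.Quotient.mk I) N' = P' := PrimeSpectrum.ext (by
      show (P'.asIdeal.map _).comap (Ideal.Quotient.mk I) = _
      rw [Ideal.comap_map_of_surjective' _ Ideal.Quotient.mk_surjective, Ideal.mk_ker]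
      exact sup_eq_left.2 hIP')
    have h1 : N' ≤ N := by
      show N'.asIdeal ≤ N.asIdeal
      rw [← Ideal.map_comap_of_surjective _ Ideal.Quotient.mk_surjective N.asIdeal]
      exact Ideal.map_mono hP'
    rw [← hN', le_antisymm h1 (hNmin h1)]
  · obtain ⟨n, s, hn, sh, sl, sn, -⟩ := exists_saturated_between hNm
    have h := length_le_relHeight (P := P) (Q := (⟨maximalIdeal C, inferInstance⟩ : PrimeSpectrum C))
      (s.map (PrimeSpectrum.comap (Ideal.Quotient.mk I)) (fun a b h => lt_of_le_of_ne (Ideal.comap_mono h.le)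
        fun e => h.ne (PrimeSpectrum.comap_injective_of_surjective _ Ideal.Quotient.mk_surjective e)))
      (by rw [LTSeries.head_map, sh]) (le_maximalIdeal (PrimeSpectrum.isPrime _).ne_top)
    rw [← maximalIdeal_height_eq_ringKrullDim, show (maximalIdeal (C ⧸ I)).height = relHeight N m from hNe.symm,
      hn]
    refine WithBot.coe_le_coe.2 (le_trans (le_of_eq ?_) h)
    show (n : ℕ∞) = (s.length : ℕ∞)
    rw [sn]

/-- EGA IV 14.2.1: the dimension formula under openness at the generic points of the fibre. -/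
theorem dim_formula_of_isOpenAt [IsLocallyNoetherian X] [IsLocallyNoetherian Y] (f : X ⟶ Y) (x : X)
    (h : ∀ ζ : X, f ζ = f x → ζ ⤳ x → MaxInFibre f ζ → EGA43.IsOpenAt f.base ζ) :
    ringKrullDim (X.presheaf.stalk x) = ringKrullDim (Y.presheaf.stalk (f x)) +
      ringKrullDim ((f.fiber (f x)).presheaf.stalk (f.asFiber x)) := by
  let R := Y.presheaf.stalk (f x)
  let S := X.presheaf.stalk x
  letI : Algebra R S := (f.stalkMap x).hom.toAlgebra
  haveI : IsLocalHom (algebraMap R S) := inferInstanceAs (IsLocalHom (f.stalkMap x).hom)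
  haveI : (maximalIdeal S).LiesOver (maximalIdeal R) := ⟨(maximalIdeal_comap (algebraMap R S)).symm⟩
  let I := (maximalIdeal R).map (algebraMap R S)
  have hI : I ≤ maximalIdeal S := Ideal.map_le_iff_le_comap.2
    (maximalIdeal_comap (algebraMap R S)).ge
  haveI : Nontrivial (S ⧸ I) := Ideal.Quotient.nontrivial_iff.mpr
    (ne_top_of_le_ne_top (maximalIdeal.isMaximal S).ne_top hI)
  haveI : IsLocalRing (S ⧸ I) := .of_surjective' (Ideal.Quotient.mk I) Ideal.Quotient.mk_surjective
  rw [(FibreDepth.fib_stalk_self f x).2, show FibreDepth.fibreIdeal f x = I from rfl, smul_eq_mul,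
    Ideal.mul_top, Module.supportDim_quotient_eq_ringKrullDim]
  refine le_antisymm ?_ ?_
  · have h0 := Ideal.height_le_height_add_of_liesOver (maximalIdeal R) (maximalIdeal S)
    rw [← maximalIdeal_height_eq_ringKrullDim, ← maximalIdeal_height_eq_ringKrullDim,
      ← maximalIdeal_height_eq_ringKrullDim (R := S ⧸ I),
      ← map_maximalIdeal_of_surjective (Ideal.Quotient.mk I) Ideal.Quotient.mk_surjective]
    exact_mod_cast h0
  obtain ⟨P, hIP, hPmin, hPd⟩ := ringKrullDim_quotient_le I hI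
  let mR : PrimeSpectrum R := ⟨maximalIdeal R, inferInstance⟩
  let mS : PrimeSpectrum S := ⟨maximalIdeal S, inferInstance⟩
  have hsq : ∀ N : PrimeSpectrum S, f (X.fromSpecStalk x N) =
      Y.fromSpecStalk (f x) (PrimeSpectrum.comap (algebraMap R S) N) := fun N => by
    rw [← Scheme.Hom.comp_apply, ← Scheme.SpecMap_stalkMap_fromSpecStalk (f := f), Scheme.Hom.comp_apply]
    rfl
  have hcl : Y.fromSpecStalk (f x) mR = f x := Scheme.fromSpecStalk_closedPoint
  have hclX : X.fromSpecStalk x mS = x := Scheme.fromSpecStalk_closedPoint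
  have hPm : PrimeSpectrum.comap (algebraMap R S) P = mR := PrimeSpectrum.ext
    (le_antisymm (le_maximalIdeal (PrimeSpectrum.isPrime _).ne_top)
      (Ideal.map_le_iff_le_comap.1 hIP))
  let ζ := X.fromSpecStalk x P
  have hζx : ζ ⤳ x := by
    rw [← hclX]
    exact ((PrimeSpectrum.le_iff_specializes P mS).1 (le_maximalIdeal P.isPrime.ne_top)).map
      (X.fromSpecStalk x).continuous
  have hfζ : f ζ = f x := by rw [hsq, hPm, hcl]
  have hmax : MaxInFibre f ζ := fun x' hx' hs => by
    obtain ⟨(N : PrimeSpectrum S), rfl⟩ : x' ∈ Set.range (X.fromSpecStalk x) := by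
      rw [Scheme.range_fromSpecStalk]
      exact hs.trans hζx
    refine congrArg (X.fromSpecStalk x) (hPmin N ((PrimeSpectrum.le_iff_specializes N P).2
      ((X.fromSpecStalk x).isEmbedding.isInducing.specializes_iff.1 hs)) ?_)
    have : PrimeSpectrum.comap (algebraMap R S) N = mR := by
      refine (Y.fromSpecStalk (f x)).isEmbedding.injective ?_
      rw [← hsq, hx', hfζ, hcl]
    exact Ideal.map_le_iff_le_comap.2 (congrArg PrimeSpectrum.asIdeal this).ge
  have hlift : Lifts (A := R) P := by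
    intro p₀ _
    have hy : Y.fromSpecStalk (f x) p₀ ⤳ f ζ := by
      have := ((PrimeSpectrum.le_iff_specializes p₀ mR).1 (le_maximalIdeal p₀.isPrime.ne_top)).map
        (Y.fromSpecStalk (f x)).continuous
      rw [hcl] at this
      rw [hfζ]
      exact this
    obtain ⟨z, hz, hfz⟩ := exists_generization_of_isOpenAt f ζ (h ζ hfζ hζx hmax) _ hy
    obtain ⟨(N : PrimeSpectrum S), rfl⟩ : z ∈ Set.range (X.fromSpecStalk x) := by
      rw [Scheme.range_fromSpecStalk]
      exact hz.trans hζx
    refine ⟨N, (PrimeSpectrum.le_iff_specializes N P).2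
      ((X.fromSpecStalk x).isEmbedding.isInducing.specializes_iff.1 hz),
      (Y.fromSpecStalk (f x)).isEmbedding.injective ?_⟩
    rw [← hsq, hfz]
  obtain ⟨p₀, -, hp₀, hp₀e⟩ := exists_isMin_relHeight_eq_height mR
  obtain ⟨N, hN, -, hNh⟩ := exists_over_relHeight_ge P hlift p₀ (hPm.symm ▸ hp₀)
  rw [hPm, hp₀e] at hNh
  have hPS : P ≤ mS := le_maximalIdeal P.isPrime.ne_top
  have h1 : (maximalIdeal R).height + relHeight P mS ≤ (maximalIdeal S).height :=
    ((add_le_add hNh le_rfl).trans (relHeight_add_le hN hPS)).trans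
      (relHeight_le_height (p := mS) (hN.trans hPS))
  rw [← maximalIdeal_height_eq_ringKrullDim (R := R), ← maximalIdeal_height_eq_ringKrullDim (R := S)]
  refine le_trans (add_le_add le_rfl hPd) ?_
  exact_mod_cast h1

end Groth.Agent.OpenDim
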