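import Mathlib
import Groth.Agent.OpenDim.Stalk

/-!
# Translations between fibre points and points of the source
-/

set_option autoImplicit false

open CategoryTheory AlgebraicGeometry Topology

universe u

namespace Groth.Agent.OpenDim

variable {X Y : Scheme.{u}}

theorem forall_max_of_fibre (f : X ⟶ Y) (x : X) (P : X → Prop)
    (h : ∀ z : ↥(f.fiber (f.base x)), f.asFiber x ∈ closure {z} →
      (∀ z' : ↥(f.fiber (f.base x)), z ∈ closure {z'} → z' = z) →
      P ((f.fiberι (f.base x)).base z)) :
    ∀ ζ : X, f ζ = f x → ζ ⤳ x → MaxInFibre f ζ → P ζ := by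
  intro ζ hfζ hζx hmax
  let y := f.base x
  have hind := (f.fiberι y).isEmbedding.isInducing
  obtain ⟨z, hz⟩ : ζ ∈ Set.range (f.fiberι y).base := by
    rw [f.range_fiberι]
    exact hfζ
  have h1 : (f.fiberι y).base (f.asFiber x) = x := f.fiberι_asFiber x
  rw [← hz]
  refine h z (specializes_iff_mem_closure.1 (hind.specializes_iff.1 ?_)) fun z' hz' => ?_
  · show (f.fiberι y).base z ⤳ (f.fiberι y).base (f.asFiber x)
    rw [hz, h1]
    exact hζx
  · refine (f.fiberι y).isEmbedding.injective ?_
    have h2 : f ((f.fiberι y).base z') = y := (f.range_fiberι y).le ⟨z', rfl⟩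
    have h3 := hmax _ (h2.trans hfζ.symm) (hz ▸ (specializes_iff_mem_closure.2 hz').map
      (f.fiberι y).continuous)
    exact h3.trans hz.symm

theorem forall_fibre_of_max (f : X ⟶ Y) (x : X) (P : X → Prop)
    (h : ∀ ζ : X, f ζ = f x → ζ ⤳ x → MaxInFibre f ζ → P ζ) :
    ∀ z : ↥(f.fiber (f.base x)), f.asFiber x ∈ closure {z} →
      (∀ z' : ↥(f.fiber (f.base x)), z ∈ closure {z'} → z' = z) →
      P ((f.fiberι (f.base x)).base z) := by
  intro z hz hmax
  let y := f.base x
  have hind := (f.fiberι y).isEmbedding.isInducing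
  have hfz : f ((f.fiberι y).base z) = f x := (f.range_fiberι y).le ⟨z, rfl⟩
  refine h _ hfz ?_ fun x' hx' hs => ?_
  · have := (specializes_iff_mem_closure.2 hz).map (f.fiberι y).continuous
    rwa [f.fiberι_asFiber] at this
  · obtain ⟨w, rfl⟩ : x' ∈ Set.range (f.fiberι y).base := by
      rw [f.range_fiberι]
      exact hx'.trans hfz
    exact congrArg _ (hmax w (specializes_iff_mem_closure.1 (hind.specializes_iff.1 hs)))

end Groth.Agent.OpenDim

namespace Groth.Agent.OpenDim

open AlgebraicGeometry

variable {X : Scheme.{u}}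

/-- A point all of whose generizations are specializations of one point has an equidimensional local
ring. -/
theorem isEquidim_stalk_of_generic (x η : X) (hη : η ⤳ x) (h : ∀ x', x' ⤳ x → η ⤳ x') :
    EGA4.IsEquidim (X.presheaf.stalk x) := by
  obtain ⟨(n : PrimeSpectrum (X.presheaf.stalk x)), hn⟩ : η ∈ Set.range (X.fromSpecStalk x) := by
    rw [Scheme.range_fromSpecStalk]
    exact hη
  have hle : ∀ m, n ≤ m := fun m => by
    refine (PrimeSpectrum.le_iff_specializes n m).2
      ((X.fromSpecStalk x).isEmbedding.isInducing.specializes_iff.1 ?_)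
    rw [hn]
    exact h _ ((Scheme.range_fromSpecStalk (X := X) (x := x)).le ⟨m, rfl⟩)
  intro p hp
  haveI := hp.1.1
  have hpn : p = n.asIdeal :=
    le_antisymm (hp.2 ⟨n.isPrime, bot_le⟩ (hle ⟨p, inferInstance⟩)) (hle ⟨p, inferInstance⟩)
  refine le_antisymm (_root_.ringKrullDim_quotient_le p) ?_
  rw [ringKrullDim_quotient]
  refine Order.krullDim_le_of_strictMono
    (fun m : PrimeSpectrum (X.presheaf.stalk x) =>
      (⟨m, (PrimeSpectrum.mem_zeroLocus _ _).2 (hpn ▸ hle m)⟩ : PrimeSpectrum.zeroLocus (p : Set _)))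
    fun a b hab => hab

theorem isEquidim_stalk_of_irreducibleSpace [IrreducibleSpace X] (x : X) :
    EGA4.IsEquidim (X.presheaf.stalk x) :=
  isEquidim_stalk_of_generic x (genericPoint X) (genericPoint_specializes x)
    fun x' _ => genericPoint_specializes x'

end Groth.Agent.OpenDim
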