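import Mathlib
import Groth.Agent.OpenDim.Conv
import Groth.Agent.OpenDim.Stalk
import Groth.Agent.DVRFamilyLib.Basic

/-!
# Flatness over a discrete valuation ring from openness and reducedness of the special fibre
-/

set_option autoImplicit false
set_option linter.style.haveILetI false
set_option backward.isDefEq.respectTransparency false
set_option backward.defeqAttrib.useBackward true

open CategoryTheory AlgebraicGeometry Topology TopologicalSpace IsLocalRing

universe u

namespace Groth.Agent.OpenDim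

/-- Algebraic core. -/
theorem eq_zero_of_mul_eq_zero_of_radical {R : Type u} [CommRing R] [IsLocalRing R] [IsNoetherianRing R]
    (π : R) (hπ : π ∈ maximalIdeal R) (hrad : (Ideal.span {π}).radical ≤ Ideal.span {π})
    (hgen : ∀ P ∈ (Ideal.span {π}).minimalPrimes, ∃ P' : Ideal R, P'.IsPrime ∧ P' ≤ P ∧ π ∉ P')
    (r : R) (hr : π * r = 0) : r = 0 := by
  have key : ∀ (n : ℕ) (s : R), π ^ n * s = 0 → s ∈ Ideal.span {π} := fun n s hs => by
    refine hrad ?_
    rw [← Ideal.sInf_minimalPrimes, Ideal.mem_sInf]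
    intro P hP
    obtain ⟨P', hP', hle, hπP'⟩ := hgen P hP
    exact hle ((hP'.mem_or_mem (hs ▸ P'.zero_mem)).resolve_left fun h => hπP' (hP'.mem_of_pow_mem n h))
  have hall : ∀ n : ℕ, r ∈ Ideal.span {π ^ n} := by
    intro n
    induction n with
    | zero => simp
    | succ n ih =>
      obtain ⟨s, hs⟩ := Ideal.mem_span_singleton'.1 ih
      obtain ⟨t, ht⟩ := Ideal.mem_span_singleton'.1 (key (n + 1) s (by rw [← hr, ← hs]; ring))
      exact Ideal.mem_span_singleton'.2 ⟨t, by rw [← hs, ← ht]; ring⟩
  have h := Ideal.iInf_pow_eq_bot_of_isLocalRing (Ideal.span {π})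
    (ne_top_of_le_ne_top (maximalIdeal.isMaximal R).ne_top ((Ideal.span_singleton_le_iff_mem _).2 hπ))
  have : r ∈ ⨅ i : ℕ, Ideal.span {π} ^ i := by
    rw [Ideal.mem_iInf]
    exact fun i => by rw [Ideal.span_singleton_pow]; exact hall i
  rw [h] at this
  exact this

/-- Flatness at a point of the special fibre. -/
theorem flat_of_open_reduced {A : Type u} [CommRing A] [IsDomain A] [IsDiscreteValuationRing A]
    {X : Scheme.{u}} (f : X ⟶ Spec (CommRingCat.of A)) [LocallyOfFiniteType f] (x : X)
    (hx : f.base x = closedPoint A)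
    (h : ∀ ζ : X, f ζ = f x → ζ ⤳ x → MaxInFibre f ζ → EGA43.IsOpenAt f.base ζ)
    (w : f.fiber (f x)) (hw : f.fiberι (f x) w = x)
    (hred : _root_.IsReduced ((f.fiber (f x)).presheaf.stalk w)) :
    (f.stalkMap (f.fiberι (f x) w)).hom.Flat := by
  obtain ⟨ϖ, hϖirr⟩ := IsDiscreteValuationRing.exists_irreducible A
  have hϖ : maximalIdeal A = Ideal.span {ϖ} := hϖirr.maximalIdeal_eq
  haveI : IsLocallyNoetherian X := LocallyOfFiniteType.isLocallyNoetherian f
  let x' := f.fiberι (f x) w
  let S := (Spec (CommRingCat.of A)).presheaf.stalk (f x')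
  let R := X.presheaf.stalk x'
  have hfx' : f x' = closedPoint A := (congrArg f hw).trans hx
  let e : S ≃+* A := by
    let y := f x'
    change ((Spec (CommRingCat.of A)).presheaf.stalk y) ≃+* A
    rw [show y = closedPoint A from hfx']
    exact (stalkClosedPointIso (CommRingCat.of A)).commRingCatIsoToRingEquiv
  haveI : IsDomain S := e.injective.isDomain e.toRingHom
  haveI : IsPrincipalIdealRing S := IsPrincipalIdealRing.of_surjective e.symm.toRingHom e.symm.surjective
  let σ : S →+* R := (f.stalkMap x').hom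
  have hker : RingHom.ker ((f.fiberι (f x)).stalkMap w).hom = (maximalIdeal S).map σ :=
    FlatLocus.ker_fiberι_stalkMap f (f x) w
  obtain ⟨π, hπ⟩ : ∃ π, maximalIdeal S = Ideal.span {π} :=
    ⟨_, DVRFamilyLib.maximalIdeal_stalk_closedPoint ϖ hϖ _ hfx'⟩
  have hspan : (maximalIdeal S).map σ = Ideal.span {σ π} := by
    rw [hπ, Ideal.map_span, Set.image_singleton]
  have hπm : σ π ∈ maximalIdeal R := map_nonunit σ π (hπ.ge (Ideal.mem_span_singleton_self π))
  have hrad : (Ideal.span {σ π}).radical ≤ Ideal.span {σ π} := by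
    intro r ⟨n, hn⟩
    rw [← hspan, ← hker, RingHom.mem_ker] at hn ⊢
    rw [map_pow] at hn
    exact IsReduced.eq_zero _ ⟨n, hn⟩
  -- the map on points
  have hsq : ∀ P : PrimeSpectrum R, f (X.fromSpecStalk x' P) =
      (Spec (CommRingCat.of A)).fromSpecStalk (f x') (PrimeSpectrum.comap σ P) := fun P => by
    rw [← Scheme.Hom.comp_apply, ← Scheme.SpecMap_stalkMap_fromSpecStalk f, Scheme.Hom.comp_apply]
    rfl
  have hclosed : ∀ P : PrimeSpectrum R, σ π ∈ P.asIdeal ↔ f (X.fromSpecStalk x' P) = f x' := fun P => by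
    have h0 : (Spec (CommRingCat.of A)).fromSpecStalk (f x') (closedPoint S) = f x' :=
      Scheme.fromSpecStalk_closedPoint
    rw [hsq]
    constructor
    · intro hP
      have hcp : PrimeSpectrum.comap σ P = closedPoint S := PrimeSpectrum.ext
        (le_antisymm (le_maximalIdeal (PrimeSpectrum.comap σ P).isPrime.ne_top)
          (show maximalIdeal S ≤ _ by rw [hπ, Ideal.span_singleton_le_iff_mem]; exact hP))
      rw [hcp]
      exact h0
    · intro hP
      have hcp : PrimeSpectrum.comap σ P = closedPoint S :=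
        (Scheme.Hom.isEmbedding _).injective (hP.trans h0.symm)
      show π ∈ (PrimeSpectrum.comap σ P).asIdeal
      rw [hcp]
      exact hπ.ge (Ideal.mem_span_singleton_self π)
  have htor : ∀ r : R, σ π * r = 0 → r = 0 := by
    refine eq_zero_of_mul_eq_zero_of_radical (σ π) hπm hrad fun P hP => ?_
    let P₀ : PrimeSpectrum R := ⟨P, hP.1.1⟩
    have hPπ : σ π ∈ P := hP.1.2 (Ideal.mem_span_singleton_self _)
    have hfζ : f (X.fromSpecStalk x' P₀) = f x := ((hclosed P₀).1 hPπ).trans (congrArg f hw)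
    have hζx : X.fromSpecStalk x' P₀ ⤳ x := by
      have : X.fromSpecStalk x' P₀ ∈ Set.range (X.fromSpecStalk x') := ⟨_, rfl⟩
      rw [Scheme.range_fromSpecStalk] at this
      exact hw ▸ this
    have hx' : x = x' := hw.symm
    have hmax : MaxInFibre f (X.fromSpecStalk x' P₀) := fun z hfz hz => by
      have hzx : z ∈ Set.range (X.fromSpecStalk x') := by
        rw [Scheme.range_fromSpecStalk]
        exact hz.trans (hζx.trans (hx' ▸ specializes_refl x : x ⤳ x'))
      obtain ⟨P', rfl⟩ := hzx
      have hle : P'.asIdeal ≤ P₀.asIdeal := (PrimeSpectrum.le_iff_specializes P' P₀).2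
        ((X.fromSpecStalk x').isEmbedding.isInducing.specializes_iff.1 hz)
      have hπP' : σ π ∈ P'.asIdeal :=
        (hclosed P').2 (hfz.trans (hfζ.trans (congrArg f hw).symm))
      rw [show P' = P₀ from PrimeSpectrum.ext (le_antisymm hle (hP.2 ⟨P'.isPrime, (Ideal.span_singleton_le_iff_mem _).2 hπP'⟩ hle))]
    obtain ⟨z, hz, hfz⟩ := exists_generization_of_isOpenAt f _ (h _ hfζ hζx hmax)
      (⟨⊥, Ideal.isPrime_bot⟩ : PrimeSpectrum A) (by
        rw [show f (X.fromSpecStalk x' P₀) = closedPoint A from hfζ.trans hx]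
        exact specializes_closedPoint _)
    obtain ⟨P', rfl⟩ : z ∈ Set.range (X.fromSpecStalk x') := by
      rw [Scheme.range_fromSpecStalk]
      exact hz.trans (hζx.trans (hx' ▸ specializes_refl x : x ⤳ x'))
    refine ⟨P'.asIdeal, P'.isPrime, (PrimeSpectrum.le_iff_specializes P' P₀).2
      ((X.fromSpecStalk x').isEmbedding.isInducing.specializes_iff.1 hz), fun hπP' => ?_⟩
    have h1 := hfz.symm.trans (((hclosed P').1 hπP').trans hfx')
    exact IsDiscreteValuationRing.not_a_field A (congrArg PrimeSpectrum.asIdeal h1).symm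
  letI : Algebra S R := σ.toAlgebra
  show Module.Flat S R
  rw [Module.Flat.flat_iff_torsion_eq_bot_of_isBezout, eq_bot_iff]
  intro r hr
  obtain ⟨⟨a, ha⟩, har⟩ := hr
  replace har : σ a * r = 0 := har
  have ha0 : a ≠ 0 := nonZeroDivisors.ne_zero ha
  haveI : IsDiscreteValuationRing S := _root_.IsDiscreteValuationRing.RingEquivClass.isDiscreteValuationRing e.symm
  obtain ⟨n, u, rfl⟩ := IsDiscreteValuationRing.eq_unit_mul_pow_irreducible ha0
    ((IsDiscreteValuationRing.irreducible_iff_uniformizer π).2 hπ)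
  rw [map_mul, map_pow, mul_assoc] at har
  have h2 : σ π ^ n * r = 0 := (IsUnit.mul_right_eq_zero (u.isUnit.map σ)).1 har
  show r = 0
  clear har
  induction n with
  | zero => simpa using h2
  | succ n ih =>
    refine ih ?_ ?_ ?_
    all_goals first
      | exact htor _ (by rw [← mul_assoc, ← pow_succ']; exact h2)
      | exact mem_nonZeroDivisors_of_ne_zero (mul_ne_zero u.ne_zero (pow_ne_zero _ fun h0 => ha0 (by simp [h0])))
      | exact mul_ne_zero u.ne_zero (pow_ne_zero _ fun h0 => ha0 (by simp [h0]))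

end Groth.Agent.OpenDim
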