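import Mathlib
import Groth.Agent.OpenDim.DVRFlat

/-!
# Over a discrete valuation ring: a reduced irreducible special fibre and openness give a domain
-/

set_option autoImplicit false
set_option linter.style.haveILetI false
set_option backward.isDefEq.respectTransparency false
set_option backward.defeqAttrib.useBackward true

open CategoryTheory AlgebraicGeometry Topology TopologicalSpace IsLocalRing

universe u

namespace Groth.Agent.OpenDim

theorem noZeroDivisors_of_span {R : Type u} [CommRing R] [IsLocalRing R] [IsNoetherianRing R]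
    (π : R) (hP : (Ideal.span {π}).IsPrime) (hreg : ∀ r : R, π * r = 0 → r = 0) :
    ∀ a b : R, a * b = 0 → a = 0 ∨ b = 0 := by
  classical
  have hex : ∀ a : R, a ≠ 0 → ∃ (i : ℕ) (a' : R), a = π ^ i * a' ∧ a' ∉ Ideal.span {π} := by
    intro a ha
    by_contra! hno
    refine ha ?_
    have hall : ∀ n : ℕ, ∃ c, a = π ^ n * c := fun n => by
      induction n with
      | zero => exact ⟨a, by simp⟩
      | succ n ih =>
        obtain ⟨c, hc⟩ := ih
        obtain ⟨t, ht⟩ := Ideal.mem_span_singleton'.1 (hno n c hc)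
        exact ⟨t, by rw [hc, ← ht]; ring⟩
    have h := Ideal.iInf_pow_eq_bot_of_isLocalRing (Ideal.span {π})
      (ne_top_of_le_ne_top (maximalIdeal.isMaximal R).ne_top (le_maximalIdeal hP.ne_top))
    have hmem : a ∈ ⨅ i : ℕ, Ideal.span {π} ^ i := by
      rw [Ideal.mem_iInf]
      intro n
      obtain ⟨c, hc⟩ := hall n
      rw [Ideal.span_singleton_pow, hc]
      exact Ideal.mul_mem_right _ _ (Ideal.mem_span_singleton_self _)
    rw [h] at hmem
    exact hmem
  have hpow : ∀ (n : ℕ) (r : R), π ^ n * r = 0 → r = 0 := fun n => by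
    induction n with
    | zero => exact fun r h => by simpa using h
    | succ n ih => exact fun r h => hreg r (ih _ (by rw [← h]; ring))
  intro a b hab
  by_contra! h
  obtain ⟨i, a', rfl, ha'⟩ := hex a h.1
  obtain ⟨j, b', rfl, hb'⟩ := hex b h.2
  have h0 : a' * b' = 0 := hpow (i + j) _ (by rw [← hab]; ring)
  exact (hP.mem_or_mem (h0 ▸ zero_mem _ : a' * b' ∈ Ideal.span {π})).elim ha' hb'

/-- A reduced point of the special fibre on a single component, with openness there, lies on a single
component. -/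
theorem eq_of_isMaxPt_of_unique {A : Type u} [CommRing A] [IsDomain A] [IsDiscreteValuationRing A]
    {X : Scheme.{u}} (f : X ⟶ Spec (CommRingCat.of A)) [LocallyOfFiniteType f] (x : X)
    (hx : f.base x = closedPoint A)
    (w : f.fiber (f x)) (hw : f.fiberι (f x) w = x)
    (hred : _root_.IsReduced ((f.fiber (f x)).presheaf.stalk w))
    (ζ : X) (hfζ : f ζ = f x) (hζx : ζ ⤳ x) (hmaxζ : MaxInFibre f ζ)
    (huniq : ∀ ζ' : X, f ζ' = f x → ζ' ⤳ x → MaxInFibre f ζ' → ζ' = ζ)
    (hopen : EGA43.IsOpenAt f.base ζ)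
    {z₁ z₂ : X} (h₁ : z₁ ⤳ x) (h₂ : z₂ ⤳ x) (hm₁ : IsMaxPt z₁) (hm₂ : IsMaxPt z₂) : z₁ = z₂ := by
  have hflat := flat_of_open_reduced f x hx
    (fun ζ' a b c => by rw [huniq ζ' a b c]; exact hopen) w hw hred
  obtain ⟨ϖ, hϖirr⟩ := IsDiscreteValuationRing.exists_irreducible A
  have hϖ : maximalIdeal A = Ideal.span {ϖ} := hϖirr.maximalIdeal_eq
  haveI : IsLocallyNoetherian X := LocallyOfFiniteType.isLocallyNoetherian f
  let x' := f.fiberι (f x) w
  let S := (Spec (CommRingCat.of A)).presheaf.stalk (f x')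
  let R := X.presheaf.stalk x'
  have hfx' : f x' = closedPoint A := (congrArg f hw).trans hx
  let σ : S →+* R := (f.stalkMap x').hom
  have hker : RingHom.ker ((f.fiberι (f x)).stalkMap w).hom = (maximalIdeal S).map σ :=
    FlatLocus.ker_fiberι_stalkMap f (f x) w
  obtain ⟨π, hπ, hπ0⟩ : ∃ π, maximalIdeal S = Ideal.span {π} ∧ π ∈ nonZeroDivisors S := by
    let e : S ≃+* A := by
      let y := f x'
      change ((Spec (CommRingCat.of A)).presheaf.stalk y) ≃+* A
      rw [show y = closedPoint A from hfx']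
      exact (stalkClosedPointIso (CommRingCat.of A)).commRingCatIsoToRingEquiv
    haveI : IsDomain S := e.injective.isDomain e.toRingHom
    haveI : IsDiscreteValuationRing S :=
      _root_.IsDiscreteValuationRing.RingEquivClass.isDiscreteValuationRing e.symm
    obtain ⟨π, hπ⟩ := IsDiscreteValuationRing.exists_irreducible S
    exact ⟨π, hπ.maximalIdeal_eq, mem_nonZeroDivisors_of_ne_zero hπ.ne_zero⟩
  have hreg : ∀ r : R, σ π * r = 0 → r = 0 := fun r hr => by
    letI : Algebra S R := σ.toAlgebra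
    haveI : Module.Flat S R := hflat
    exact Module.Flat.isSMulRegular_of_nonZeroDivisors hπ0 (show π • r = π • (0 : R) by
      rw [smul_zero, Algebra.smul_def]; exact hr)
  have hsq : ∀ P : PrimeSpectrum R, f (X.fromSpecStalk x' P) =
      (Spec (CommRingCat.of A)).fromSpecStalk (f x') (PrimeSpectrum.comap σ P) := fun P => by
    rw [← Scheme.Hom.comp_apply, ← Scheme.SpecMap_stalkMap_fromSpecStalk f, Scheme.Hom.comp_apply]
    rfl
  have hclosed : ∀ P : PrimeSpectrum R, σ π ∈ P.asIdeal ↔ f (X.fromSpecStalk x' P) = f x' := fun P => by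
    have h0 : (Spec (CommRingCat.of A)).fromSpecStalk (f x') (closedPoint S) = f x' :=
      Scheme.fromSpecStalk_closedPoint
    rw [hsq]
    constructor
    · intro hP
      have hcp : PrimeSpectrum.comap σ P = closedPoint S := PrimeSpectrum.ext
        (le_antisymm (le_maximalIdeal (PrimeSpectrum.comap σ P).isPrime.ne_top)
          (show maximalIdeal S ≤ _ by rw [hπ, Ideal.span_singleton_le_iff_mem]; exact hP))
      rw [hcp]
      exact h0
    · intro hP
      have hcp : PrimeSpectrum.comap σ P = closedPoint S :=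
        (Scheme.Hom.isEmbedding _).injective (hP.trans h0.symm)
      show π ∈ (PrimeSpectrum.comap σ P).asIdeal
      rw [hcp]
      exact hπ.ge (Ideal.mem_span_singleton_self π)
  have hxx' : x' = x := hw
  have hrange : ∀ z : X, z ⤳ x → z ∈ Set.range (X.fromSpecStalk x') := fun z hz => by
    rw [Scheme.range_fromSpecStalk]
    show z ⤳ x'
    rw [hxx']; exact hz
  obtain ⟨P₀, hP₀⟩ := hrange ζ hζx
  have hP₀π : σ π ∈ P₀.asIdeal := (hclosed P₀).2 (by rw [hP₀, hfζ, hxx'])
  have hmin : ∀ P ∈ (Ideal.span {σ π}).minimalPrimes, P = P₀.asIdeal := fun P hP => by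
    let P₁ : PrimeSpectrum R := ⟨P, hP.1.1⟩
    have hf1 : f (X.fromSpecStalk x' P₁) = f x :=
      ((hclosed P₁).1 (hP.1.2 (Ideal.mem_span_singleton_self _))).trans (congrArg f hxx')
    have hs1 : X.fromSpecStalk x' P₁ ⤳ x := by
      have : X.fromSpecStalk x' P₁ ∈ Set.range (X.fromSpecStalk x') := ⟨_, rfl⟩
      rw [Scheme.range_fromSpecStalk] at this
      exact hxx' ▸ this
    have hmax : MaxInFibre f (X.fromSpecStalk x' P₁) := fun z hfz hz => by
      obtain ⟨P', rfl⟩ := hrange z (hz.trans hs1)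
      have hle : P'.asIdeal ≤ P₁.asIdeal := (PrimeSpectrum.le_iff_specializes P' P₁).2
        ((X.fromSpecStalk x').isEmbedding.isInducing.specializes_iff.1 hz)
      have hπP' : σ π ∈ P'.asIdeal :=
        (hclosed P').2 (hfz.trans (hf1.trans (congrArg f hxx').symm))
      rw [show P' = P₁ from PrimeSpectrum.ext (le_antisymm hle
        (hP.2 ⟨P'.isPrime, (Ideal.span_singleton_le_iff_mem _).2 hπP'⟩ hle))]
    exact congrArg PrimeSpectrum.asIdeal
      ((X.fromSpecStalk x').isEmbedding.injective ((huniq _ hf1 hs1 hmax).trans hP₀.symm))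
  have hprime : (Ideal.span {σ π}).IsPrime := by
    have hrad : (Ideal.span {σ π}).radical ≤ Ideal.span {σ π} := by
      intro r ⟨n, hn⟩
      rw [← show (maximalIdeal S).map σ = Ideal.span {σ π} by rw [hπ, Ideal.map_span, Set.image_singleton],
        ← hker, RingHom.mem_ker] at hn ⊢
      rw [map_pow] at hn
      exact IsReduced.eq_zero _ ⟨n, hn⟩
    have heq : Ideal.span {σ π} = P₀.asIdeal := by
      refine le_antisymm ((Ideal.span_singleton_le_iff_mem _).2 hP₀π) fun r hr => hrad ?_
      rw [← Ideal.sInf_minimalPrimes, Ideal.mem_sInf]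
      intro P hP
      rw [hmin P hP]
      exact hr
    rw [heq]
    exact P₀.isPrime
  have hnzd := noZeroDivisors_of_span (σ π) hprime hreg
  have hbot : (⊥ : Ideal R).IsPrime := ⟨bot_ne_top, fun {a b} hab => by simpa using hnzd a b hab⟩
  have hgen : ∀ z : X, z ⤳ x → IsMaxPt z → z = X.fromSpecStalk x' ⟨⊥, hbot⟩ := fun z hz hm => by
    obtain ⟨Q, rfl⟩ := hrange z hz
    exact (hm _ (((PrimeSpectrum.le_iff_specializes (⟨⊥, hbot⟩ : PrimeSpectrum R) Q).1 (show (⊥ : Ideal R) ≤ Q.asIdeal from bot_le)).map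
      (X.fromSpecStalk x').continuous)).symm
  rw [hgen z₁ h₁ hm₁, hgen z₂ h₂ hm₂]

end Groth.Agent.OpenDim
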