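import Mathlib
import Groth.Agent.OpenDim.Tfae

/-!
# Components of fibres and their generic points
-/

set_option autoImplicit false
set_option linter.style.haveILetI false
set_option backward.isDefEq.respectTransparency false
set_option backward.defeqAttrib.useBackward true

open CategoryTheory AlgebraicGeometry Topology TopologicalSpace

universe u

namespace Groth.Agent.OpenDim

open Groth.Agent.DimFormulaLib

variable {X Y : Scheme.{u}} (f : X ⟶ Y)

/-- A maximal irreducible subset of a fibre has a generic point there. -/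
theorem exists_generic_of_fibre_component (y : Y) (Z : Set X)
    (hZy : Z ⊆ f.base ⁻¹' {y}) (hZ : IsIrreducible Z)
    (hZmax : ∀ Z' : Set X, IsIrreducible Z' → Z' ⊆ f.base ⁻¹' {y} → Z ⊆ Z' → Z' = Z) :
    ∃ ζ ∈ Z, f ζ = y ∧ MaxInFibre f ζ ∧ Z = closure {ζ} ∩ f.base ⁻¹' {y} ∧
      ∀ ζ' ∈ Z, Z ⊆ closure {ζ'} → ζ' = ζ := by
  haveI := FibreDimEt.quasiSober_fibre f y
  let S : Set X := f.base ⁻¹' {y}
  let Z₀ : Set ↥S := Subtype.val ⁻¹' Z
  have him : Subtype.val '' Z₀ = Z := by
    rw [Subtype.image_preimage_coe]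
    exact Set.inter_eq_right.2 hZy
  have hZ₀ : IsIrreducible Z₀ := by
    refine ⟨?_, fun u v hu hv hZu hZv => ?_⟩
    · obtain ⟨z, hz⟩ := hZ.1
      exact ⟨⟨z, hZy hz⟩, hz⟩
    · obtain ⟨U, hU, rfl⟩ := IsInducing.subtypeVal.isOpen_iff.1 hu
      obtain ⟨V, hV, rfl⟩ := IsInducing.subtypeVal.isOpen_iff.1 hv
      obtain ⟨a, ha, haU⟩ := hZu
      obtain ⟨b, hb, hbV⟩ := hZv
      obtain ⟨w, hw, hwU, hwV⟩ := hZ.2 U V hU hV ⟨a.1, ha, haU⟩ ⟨b.1, hb, hbV⟩
      exact ⟨⟨w, hZy hw⟩, hw, hwU, hwV⟩
  obtain ⟨g, hg⟩ := QuasiSober.sober hZ₀.closure isClosed_closure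
  have hcl : closure Z₀ = Z₀ := by
    have h1 : IsIrreducible (Subtype.val '' closure Z₀) :=
      hZ₀.closure.image _ continuous_subtype_val.continuousOn
    have h2 := hZmax _ h1 (by rintro _ ⟨w, -, rfl⟩; exact w.2)
      (him ▸ Set.image_mono subset_closure)
    rw [← him] at h2
    exact Subtype.val_injective.image_injective h2
  rw [hcl] at hg
  have hgZ : g.1 ∈ Z := hg.mem
  have hZeq : Z = closure {g.1} ∩ S := by
    refine Set.Subset.antisymm (fun w hw => ⟨?_, hZy hw⟩) fun w hw => ?_
    · have : (⟨w, hZy hw⟩ : ↥S) ∈ closure {g} := by rw [hg.def]; exact hw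
      rw [IsEmbedding.subtypeVal.isInducing.closure_eq_preimage_closure_image] at this
      simpa using this
    · have : (⟨w, hw.2⟩ : ↥S) ∈ closure {g} := by
        rw [IsEmbedding.subtypeVal.isInducing.closure_eq_preimage_closure_image]
        simpa using hw.1
      rw [hg.def] at this
      exact this
  refine ⟨g.1, hgZ, hZy hgZ, fun w hfw hwg => ?_, hZeq, fun ζ' hζ' hsub => ?_⟩
  · have hwS : f w = y := hfw.trans (hZy hgZ)
    have hirr : IsIrreducible (closure {w} ∩ S) := by
      have : IsIrreducible (Subtype.val '' closure ({⟨w, hwS⟩} : Set ↥S)) :=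
        isIrreducible_singleton.closure.image _ continuous_subtype_val.continuousOn
      convert this using 1
      rw [IsEmbedding.subtypeVal.isInducing.closure_eq_preimage_closure_image,
        Subtype.image_preimage_coe, Set.image_singleton, Set.inter_comm]
    have hsub : Z ⊆ closure {w} ∩ S := by
      rw [hZeq]
      exact Set.inter_subset_inter_left _ (closure_minimal
        (Set.singleton_subset_iff.2 (specializes_iff_mem_closure.1 hwg)) isClosed_closure)
    have heq := hZmax _ hirr Set.inter_subset_right hsub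
    have hwZ : w ∈ Z := by rw [← heq]; exact ⟨subset_closure rfl, hwS⟩
    rw [hZeq] at hwZ
    exact (hwg.antisymm (specializes_iff_mem_closure.2 hwZ.1)).eq
  · have h1 : g.1 ⤳ ζ' := specializes_iff_mem_closure.2 (hZeq ▸ hζ').1
    exact ((specializes_iff_mem_closure.2 (hsub hgZ)).antisymm h1).eq

end Groth.Agent.OpenDim
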