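import Mathlib
import Groth.Agent.OpenDim.Generic
import Groth.Agent.FibreDepth.FibreDim
import Groth.Prelude.Def_MoreMor
import Groth.Prelude.Def_FDesc

/-!
# Dimensions of the connected components of fibres through a section
-/

set_option autoImplicit false
set_option linter.style.haveILetI false
set_option backward.isDefEq.respectTransparency false
set_option backward.defeqAttrib.useBackward true

open CategoryTheory AlgebraicGeometry Topology TopologicalSpace Filter

universe u

namespace Groth.Agent.OpenDim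

open Groth.Agent.DimFormulaLib

variable {X Y : Scheme.{u}} (f : X ⟶ Y)

/-- A connected component of a fibre is the trace of its closure. -/
theorem comp_eq_closure_inter {y : Y} {x₀ : X} (h₀ : f x₀ = y) :
    connectedComponentIn (f.base ⁻¹' {y}) x₀ =
      closure (connectedComponentIn (f.base ⁻¹' {y}) x₀) ∩ f.base ⁻¹' {y} := by
  refine (Set.subset_inter subset_closure (connectedComponentIn_subset _ _)).antisymm ?_
  have hconn := isPreconnected_connectedComponentIn (F := f.base ⁻¹' {y}) (x := x₀)
  exact (hconn.subset_closure (Set.subset_inter subset_closure (connectedComponentIn_subset _ _))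
    Set.inter_subset_left).subset_connectedComponentIn
    ⟨subset_closure (mem_connectedComponentIn h₀), h₀⟩ Set.inter_subset_right

/-- Generizations inside a fibre stay in the connected component. -/
theorem mem_comp_of_specializes {y : Y} {x₀ z w : X} (hw : w ∈ connectedComponentIn (f.base ⁻¹' {y}) x₀)
    (hz : f z = y) (hzw : z ⤳ w) : z ∈ connectedComponentIn (f.base ⁻¹' {y}) x₀ := by
  have hwy : f w = y := connectedComponentIn_subset (f.base ⁻¹' {y}) x₀ hw
  rw [connectedComponentIn_eq hw]
  have hpc : _root_.IsPreconnected ({w, z} : Set X) :=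
    isPreconnected_singleton.subset_closure (s := {z}) (Set.singleton_subset_iff.2 (by simp))
      (Set.insert_subset_iff.2 ⟨specializes_iff_mem_closure.1 hzw, subset_closure⟩)
  exact hpc.subset_connectedComponentIn (Set.mem_insert _ _)
    (Set.insert_subset_iff.2 ⟨hwy, Set.singleton_subset_iff.2 hz⟩) (by simp)

/-- An irreducible connected component of a fibre: generic point, dimension and local dimension. -/
theorem exists_generic_comp [LocallyOfFiniteType f] {y : Y} {x₀ : X} (h₀ : f x₀ = y)
    (hirr : IsIrreducible (connectedComponentIn (f.base ⁻¹' {y}) x₀)) :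
    ∃ ζ ∈ connectedComponentIn (f.base ⁻¹' {y}) x₀, f ζ = y ∧
      (∀ w ∈ connectedComponentIn (f.base ⁻¹' {y}) x₀, ζ ⤳ w) ∧
      topologicalKrullDim ↥(connectedComponentIn (f.base ⁻¹' {y}) x₀) = (trd f ζ : WithBot ℕ∞) ∧
      FlatMor.fibreDimAt f x₀ = (trd f ζ : WithBot ℕ∞) := by
  obtain ⟨ζ, hζ, hfζ, -, heq, -⟩ := exists_generic_of_fibre_component f y _
    (connectedComponentIn_subset _ _) hirr (fun Z' hZ' hsub hle =>
      ((IsPreirreducible.isPreconnected hZ'.2).subset_connectedComponentIn (hle (mem_connectedComponentIn h₀)) hsub).antisymm hle)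
  have hgen : ∀ w ∈ connectedComponentIn (f.base ⁻¹' {y}) x₀, ζ ⤳ w := fun w hw => by
    rw [heq] at hw; exact specializes_iff_mem_closure.2 hw.1
  refine ⟨ζ, hζ, hfζ, hgen, le_antisymm (dim_inter_le f (closure {ζ}) isClosed_closure Set.univ isOpen_univ y _
    (by rw [Set.inter_univ]; exact heq) fun w hw => ?_)
    (trd_le_dim_inter f (closure {ζ}) isClosed_closure Set.univ isOpen_univ y _
      (by rw [Set.inter_univ]; exact heq) hζ),
    le_antisymm (fibreDimAt_le f fun w hw hwx => ?_)
      (trd_le_fibreDimAt f (hfζ.trans h₀.symm) (hgen _ (mem_connectedComponentIn h₀)))⟩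
  · exact_mod_cast trd_le f (hgen w hw) (hfζ.trans (connectedComponentIn_subset (f.base ⁻¹' {y}) x₀ hw).symm)
  · have hw' := mem_comp_of_specializes f (mem_connectedComponentIn h₀) (hw.trans h₀) hwx
    exact_mod_cast trd_le f (hgen w hw') (hfζ.trans (hw.trans h₀).symm)

theorem section_apply {g : Y ⟶ X} (hg : g ≫ f = 𝟙 Y) (y : Y) : f.base (g.base y) = y := by
  rw [← Scheme.Hom.comp_apply, hg]; rfl

/-- Upper semicontinuity of the dimension of irreducible section components. -/
theorem upperSemicontinuous_dim_comp [LocallyOfFiniteType f] (g : Y ⟶ X) (hg : g ≫ f = 𝟙 Y)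
    (hirr : ∀ y : Y, IsIrreducible (connectedComponentIn (f.base ⁻¹' {y}) (g.base y))) :
    UpperSemicontinuous (fun y : Y => topologicalKrullDim ↥(connectedComponentIn (f.base ⁻¹' {y}) (g.base y))) := by
  have key : ∀ y : Y, topologicalKrullDim ↥(connectedComponentIn (f.base ⁻¹' {y}) (g.base y)) =
      FlatMor.fibreDimAt f (g.base y) := fun y => by
    obtain ⟨ζ, -, -, -, h1, h2⟩ := exists_generic_comp f (section_apply f hg y) (hirr y)
    rw [h1, h2]
  rw [upperSemicontinuous_iff]
  intro y c hc
  have hmem : g.base ⁻¹' {w | FlatMor.fibreDimAt f w ≤ FlatMor.fibreDimAt f (g.base y)} ∈ 𝓝 y :=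
    ((FibreDepth.isOpen_fibreDimAt_le f _).preimage g.continuous).mem_nhds (Set.mem_ofPred_eq ▸ le_refl (FlatMor.fibreDimAt f (g.base y)))
  filter_upwards [hmem] with z hz
  simp only [key y] at hc
  rw [key z]
  exact lt_of_le_of_lt hz hc

/-- A component of a nearby fibre through the section bounds the component of the special fibre. -/
theorem exists_trd_ge_comp [LocallyOfFiniteType f] (g : Y ⟶ X) (hg : g ≫ f = 𝟙 Y) {y y' : Y}
    (hy : y' ⤳ y) {ζ' : X} (hζ' : ζ' ⤳ g.base y') :
    ∃ w ∈ connectedComponentIn (f.base ⁻¹' {y}) (g.base y), ζ' ⤳ w ∧ f w = y ∧ trd f ζ' ≤ trd f w := by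
  obtain ⟨w, h1, h2, h3, h4⟩ := exists_trd_ge f (hζ'.trans (hy.map g.continuous))
  have hfw : f w = y := h3.trans (section_apply f hg y)
  exact ⟨w, mem_comp_of_specializes f (mem_connectedComponentIn (section_apply f hg y)) hfw h2, h1, hfw, h4⟩

/-- With no drop of dimension the special component lies in the closure of the generic one. -/
theorem comp_subset_closure [LocallyOfFiniteType f] (g : Y ⟶ X) (hg : g ≫ f = 𝟙 Y) {y y' : Y} (hy : y' ⤳ y)
    (hirr : IsIrreducible (connectedComponentIn (f.base ⁻¹' {y}) (g.base y)))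
    {ζ' : X} (hζ'C : ζ' ∈ connectedComponentIn (f.base ⁻¹' {y'}) (g.base y')) (hζ' : ζ' ⤳ g.base y')
    (hdim : topologicalKrullDim ↥(connectedComponentIn (f.base ⁻¹' {y}) (g.base y)) ≤ (trd f ζ' : WithBot ℕ∞)) :
    connectedComponentIn (f.base ⁻¹' {y}) (g.base y) ⊆
      closure (connectedComponentIn (f.base ⁻¹' {y'}) (g.base y')) := by
  obtain ⟨ζ, hζ, hfζ, hgen, hd, -⟩ := exists_generic_comp f (section_apply f hg y) hirr
  obtain ⟨w, hw, hζ'w, hfw, hle⟩ := exists_trd_ge_comp f g hg hy hζ'
  rw [hd] at hdim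
  have h1 : trd f ζ ≤ trd f ζ' := by exact_mod_cast hdim
  have hwζ : ζ = w := by
    by_contra hne
    have := trd_lt f (hgen w hw) hne (hfζ.trans hfw.symm)
    omega
  intro z hz
  have : ζ' ⤳ z := hζ'w.trans (hwζ ▸ hgen z hz)
  exact closure_mono (Set.singleton_subset_iff.2 hζ'C) (specializes_iff_mem_closure.1 this)

/-- Geometric irreducibility of a component gives irreducibility. -/
theorem isIrreducible_of_geom {y : Y} {x₀ : X}
    (h : ∀ (K : Type u) [Field K] [Algebra (IsLocalRing.ResidueField (Y.presheaf.stalk y)) K],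
      IsIrreducible ((FBase.bcπ (f.fiberToSpecResidueField y) K ≫ f.fiberι y).base ⁻¹'
        connectedComponentIn (f.base ⁻¹' {y}) x₀)) :
    IsIrreducible (connectedComponentIn (f.base ⁻¹' {y}) x₀) := by
  let k := IsLocalRing.ResidueField (Y.presheaf.stalk y)
  have him := (h k).image (FBase.bcπ (f.fiberToSpecResidueField y) k ≫ f.fiberι y).base
    (Scheme.Hom.continuous _).continuousOn
  haveI : Surjective (Spec.map (CommRingCat.ofHom (algebraMap k k))) :=
    ⟨fun z => ⟨IsLocalRing.closedPoint k, Subsingleton.elim (α := PrimeSpectrum k) _ _⟩⟩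
  haveI : Surjective (FBase.bcπ (f.fiberToSpecResidueField y) k) :=
    MorphismProperty.pullback_fst _ _ ‹_›
  rw [Set.image_preimage_eq_of_subset] at him
  · exact him
  · rw [Scheme.Hom.comp_base, TopCat.coe_comp, Set.range_comp,
      (FBase.bcπ (f.fiberToSpecResidueField y) k).surjective.range_eq, Set.image_univ, f.range_fiberι]
    exact connectedComponentIn_subset _ _

end Groth.Agent.OpenDim
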