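import Mathlib
import Groth.Agent.OpenDim.SectionDim
import Groth.Agent.OpenDim.Tfae
import Groth.Agent.OpenDim.DVRDomain
import Groth.Agent.LocDimBC.Scheme
import Groth.Agent.UnivOpenAtLib.Dvr

/-!
# Components through a section after base change to a discrete valuation ring
-/

set_option autoImplicit false
set_option linter.style.haveILetI false
set_option backward.isDefEq.respectTransparency false
set_option backward.defeqAttrib.useBackward true

open CategoryTheory CategoryTheory.Limits AlgebraicGeometry Topology TopologicalSpace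

universe u

namespace Groth.Agent.OpenDim

open Groth.Agent.DimFormulaLib

variable {X Y T : Scheme.{u}} (f : X ⟶ Y) (g : Y ⟶ X) (hg : g ≫ f = 𝟙 Y) (h : T ⟶ Y)

/-- The base change of a section. -/
noncomputable def bcSec : T ⟶ pullback f h :=
  pullback.lift (h ≫ g) (𝟙 T) (by rw [Category.assoc, hg, Category.comp_id, Category.id_comp])

theorem bcSec_snd : bcSec f g hg h ≫ pullback.snd f h = 𝟙 T := pullback.lift_snd _ _ _

theorem bcSec_fst_apply (t : T) : (pullback.fst f h).base ((bcSec f g hg h).base t) = g.base (h.base t) := by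
  rw [← Scheme.Hom.comp_apply, bcSec, pullback.lift_fst]; rfl

theorem bcSec_snd_apply (t : T) : (pullback.snd f h).base ((bcSec f g hg h).base t) = t :=
  section_apply _ (bcSec_snd f g hg h) t

theorem snd_eq_of_fst {z : ↥(pullback f h)} {t : T} (hz : (pullback.snd f h).base z = t) :
    f.base ((pullback.fst f h).base z) = h.base t := by
  rw [← Scheme.Hom.comp_apply, pullback.condition, Scheme.Hom.comp_apply, hz]

/-- The preimage in a fibre of the base change of a geometrically irreducible set is irreducible. -/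
theorem isIrreducible_bc_preimage (t : T) (C : Set X) (hC : C ⊆ f.base ⁻¹' {h.base t})
    (hirr : ∀ (K : Type u) [Field K] [Algebra (IsLocalRing.ResidueField (Y.presheaf.stalk (h.base t))) K],
      IsIrreducible ((FBase.bcπ (f.fiberToSpecResidueField (h.base t)) K ≫ f.fiberι (h.base t)).base ⁻¹' C)) :
    IsIrreducible {z : ↥(pullback f h) | (pullback.snd f h).base z = t ∧ (pullback.fst f h).base z ∈ C} := by
  let f' := pullback.snd f h
  have hfib := isPullback_fiberToSpecResidueField_of_isPullback (IsPullback.of_hasPullback f h) t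
  letI : Algebra (IsLocalRing.ResidueField (Y.presheaf.stalk (h.base t))) (T.residueField t) :=
    (h.residueFieldMap t).hom.toAlgebra
  let K : Type u := T.residueField t
  let e : f'.fiber t ≅ FBase.bc (f.fiberToSpecResidueField (h.base t)) K := hfib.isoPullback
  have hk : e.hom ≫ FBase.bcπ (f.fiberToSpecResidueField (h.base t)) K ≫ f.fiberι (h.base t) =
      f'.fiberι t ≫ pullback.fst f h := by
    rw [← Category.assoc]
    erw [hfib.isoPullback_hom_fst]
    exact pullback.lift_fst _ _ _
  have him := ((hirr K).image e.inv.base e.inv.continuous.continuousOn).image (f'.fiberι t).base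
    (f'.fiberι t).continuous.continuousOn
  convert him using 1
  ext z
  constructor
  · rintro ⟨hzt, hzC⟩
    obtain ⟨v, rfl⟩ : z ∈ Set.range (f'.fiberι t) := by rw [f'.range_fiberι]; exact hzt
    refine ⟨v, ⟨e.hom.base v, ?_, ?_⟩, rfl⟩
    · show (FBase.bcπ (f.fiberToSpecResidueField (h.base t)) K ≫ f.fiberι (h.base t)).base (e.hom.base v) ∈ C
      rw [← Scheme.Hom.comp_apply, hk]; exact hzC
    · rw [← Scheme.Hom.comp_apply, e.hom_inv_id]; rfl
  · rintro ⟨_, ⟨b, hb, rfl⟩, rfl⟩
    refine ⟨(f'.range_fiberι t).le ⟨_, rfl⟩, ?_⟩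
    rw [← Scheme.Hom.comp_apply, ← hk, Scheme.Hom.comp_apply, ← Scheme.Hom.comp_apply e.inv e.hom,
      e.inv_hom_id]
    exact hb

/-- Geometric reducedness gives reduced fibres after base change. -/
theorem isReduced_bc_fibre (t : T) (v : (pullback.snd f h).fiber t) {x : X}
    (hv : (pullback.fst f h).base (((pullback.snd f h).fiberι t).base v) = x) {y : Y} (hy : h.base t = y)
    (w : f.fiber y) (hw : (f.fiberι y).base w = x)
    (hred : FBase.IsGeomReducedAt (f.fiberToSpecResidueField y) w) :
    _root_.IsReduced (((pullback.snd f h).fiber t).presheaf.stalk v) := by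
  subst hy
  let f' := pullback.snd f h
  have hfib := isPullback_fiberToSpecResidueField_of_isPullback (IsPullback.of_hasPullback f h) t
  letI : Algebra (IsLocalRing.ResidueField (Y.presheaf.stalk (h.base t))) (T.residueField t) :=
    (h.residueFieldMap t).hom.toAlgebra
  let K : Type u := T.residueField t
  let e : f'.fiber t ≅ FBase.bc (f.fiberToSpecResidueField (h.base t)) K := hfib.isoPullback
  have hk : e.hom ≫ FBase.bcπ (f.fiberToSpecResidueField (h.base t)) K ≫ f.fiberι (h.base t) =
      f'.fiberι t ≫ pullback.fst f h := by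
    rw [← Category.assoc]
    erw [hfib.isoPullback_hom_fst]
    exact pullback.lift_fst _ _ _
  haveI := hred K (e.hom.base v) ((f.fiberι (h.base t)).isEmbedding.injective (by
    rw [← Scheme.Hom.comp_apply, ← Scheme.Hom.comp_apply, hk, Scheme.Hom.comp_apply, hw]
    exact hv))
  exact isReduced_of_injective (asIso (e.hom.stalkMap v)).commRingCatIsoToRingEquiv.symm.toRingHom
    (asIso (e.hom.stalkMap v)).commRingCatIsoToRingEquiv.symm.injective

variable [LocallyOfFiniteType f]

theorem fibreDimAt_bcSec (t : T) :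
    FlatMor.fibreDimAt (pullback.snd f h) ((bcSec f g hg h).base t) = FlatMor.fibreDimAt f (g.base (h.base t)) := by
  rw [LocDimBC.fibreDimAt_baseChange (IsPullback.of_hasPullback f h)]
  exact congrArg _ (bcSec_fst_apply f g hg h t)

/-- Set-up over a point `t`: the generic point of the preimage of the component, and its degree. -/
theorem exists_generic_bc (t : T) {y : Y} (ht : h.base t = y)
    (hirr : ∀ (K : Type u) [Field K] [Algebra (IsLocalRing.ResidueField (Y.presheaf.stalk y)) K],
      IsIrreducible ((FBase.bcπ (f.fiberToSpecResidueField y) K ≫ f.fiberι y).base ⁻¹'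
        connectedComponentIn (f.base ⁻¹' {y}) (g.base y))) :
    ∃ ζ : ↥(pullback f h), (pullback.snd f h).base ζ = t ∧
      (pullback.fst f h).base ζ ∈ connectedComponentIn (f.base ⁻¹' {y}) (g.base y) ∧
      MaxInFibre (pullback.snd f h) ζ ∧ ζ ⤳ (bcSec f g hg h).base t ∧
      (∀ z, (pullback.snd f h).base z = t →
        (pullback.fst f h).base z ∈ connectedComponentIn (f.base ⁻¹' {y}) (g.base y) → ζ ⤳ z) ∧
      (∀ z, (pullback.snd f h).base z = t → z ⤳ (bcSec f g hg h).base t →
        (pullback.fst f h).base z ∈ connectedComponentIn (f.base ⁻¹' {y}) (g.base y)) ∧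
      (trd (pullback.snd f h) ζ : WithBot ℕ∞) = FlatMor.fibreDimAt f (g.base y) := by
  subst ht
  let f' := pullback.snd f h
  let C := connectedComponentIn (f.base ⁻¹' {h.base t}) (g.base (h.base t))
  have hgC : g.base (h.base t) ∈ C := mem_connectedComponentIn (section_apply f hg _)
  have hgen : ∀ z, f'.base z = t → z ⤳ (bcSec f g hg h).base t → (pullback.fst f h).base z ∈ C :=
    fun z hz hs => mem_comp_of_specializes f hgC (snd_eq_of_fst f h hz)
      (bcSec_fst_apply f g hg h t ▸ hs.map (pullback.fst f h).continuous)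
  let S : Set ↥(pullback f h) := {z | f'.base z = t ∧ (pullback.fst f h).base z ∈ C}
  have hS : IsIrreducible S := isIrreducible_bc_preimage f h t C (connectedComponentIn_subset _ _) hirr
  have hSsub : S ⊆ f'.base ⁻¹' {t} := fun z hz => hz.1
  have hsecS : (bcSec f g hg h).base t ∈ S :=
    ⟨bcSec_snd_apply f g hg h t, by rw [bcSec_fst_apply]; exact hgC⟩
  obtain ⟨ζ, hζS, hfζ, hmax, heq, -⟩ := exists_generic_of_fibre_component f' t S hSsub hS
    fun Z' hZ' hsub hle => Set.Subset.antisymm (fun z hz => ⟨hsub hz, by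
      have hpc := (IsPreirreducible.isPreconnected hZ'.2).image _ (pullback.fst f h).continuous.continuousOn
      refine hpc.subset_connectedComponentIn ⟨_, hle hsecS, bcSec_fst_apply f g hg h t⟩ ?_ ⟨z, hz, rfl⟩
      rintro _ ⟨w, hw, rfl⟩
      exact snd_eq_of_fst f h (hsub hw)⟩) hle
  have hζgen : ∀ z, f'.base z = t → (pullback.fst f h).base z ∈ C → ζ ⤳ z := fun z hz hzC => by
    have hzS : z ∈ S := ⟨hz, hzC⟩
    rw [heq] at hzS
    exact specializes_iff_mem_closure.2 hzS.1
  refine ⟨ζ, hfζ, hζS.2, hmax, hζgen _ hsecS.1 hsecS.2, hζgen, hgen, ?_⟩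
  rw [← fibreDimAt_bcSec f g hg h t]
  refine le_antisymm (trd_le_fibreDimAt f' (hfζ.trans hsecS.1.symm) (hζgen _ hsecS.1 hsecS.2))
    (fibreDimAt_le f' fun z hz hzs => ?_)
  have hzt : f'.base z = t := hz.trans hsecS.1
  exact_mod_cast trd_le f' (hζgen z hzt (hgen z hzt hzs)) (hfζ.trans hzt.symm)

variable {A : Type u} [CommRing A] [IsDomain A] [IsDiscreteValuationRing A]
include hg

/-- Constant dimension gives generizations in the generic fibre. -/
theorem exists_generic_lift (h : Spec (CommRingCat.of A) ⟶ Y) {y : Y}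
    (hy : h.base (IsLocalRing.closedPoint A) = y)
    (hirr : ∀ (K : Type u) [Field K] [Algebra (IsLocalRing.ResidueField (Y.presheaf.stalk y)) K],
      IsIrreducible ((FBase.bcπ (f.fiberToSpecResidueField y) K ≫ f.fiberι y).base ⁻¹'
        connectedComponentIn (f.base ⁻¹' {y}) (g.base y)))
    (hdim : FlatMor.fibreDimAt f (g.base y) ≤
      FlatMor.fibreDimAt f (g.base (h.base (⟨⊥, Ideal.isPrime_bot⟩ : PrimeSpectrum A))))
    (x' : ↥(pullback f h)) (hx's : (pullback.snd f h).base x' = IsLocalRing.closedPoint A)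
    (hx' : (pullback.fst f h).base x' ∈ connectedComponentIn (f.base ⁻¹' {y}) (g.base y)) :
    ∃ z, z ⤳ x' ∧ (pullback.snd f h).base z = (⟨⊥, Ideal.isPrime_bot⟩ : PrimeSpectrum A) := by
  let η : ↥(Spec (CommRingCat.of A)) := (⟨⊥, Ideal.isPrime_bot⟩ : PrimeSpectrum A)
  let s : ↥(Spec (CommRingCat.of A)) := IsLocalRing.closedPoint A
  let f' := pullback.snd f h
  let σ := bcSec f g hg h
  obtain ⟨ξ, hfξ, hξg, -, hξd⟩ := exists_maxInFibre_fibreDimAt f' (σ.base η)
  have hfξ' : f'.base ξ = η := hfξ.trans (bcSec_snd_apply f g hg h η)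
  rw [fibreDimAt_bcSec] at hξd
  obtain ⟨w, hξw, hws, hfw, hle⟩ := exists_trd_ge f'
    (hξg.trans ((IsLocalRing.specializes_closedPoint η).map σ.continuous))
  have hfw' : f'.base w = s := hfw.trans (bcSec_snd_apply f g hg h s)
  obtain ⟨ζ, hfζ, -, -, -, hζgen, hgen, hζd⟩ := exists_generic_bc f g hg h s hy hirr
  have hζw : ζ ⤳ w := hζgen w hfw' (hgen w hfw' hws)
  have heq : ζ = w := by
    by_contra hne
    have h1 := trd_lt f' hζw hne (hfζ.trans hfw'.symm)
    have h2 : (trd f' ζ : WithBot ℕ∞) ≤ (trd f' ξ : WithBot ℕ∞) := by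
      rw [hζd, ← hξd]; exact hdim
    have h3 : trd f' ζ ≤ trd f' ξ := by exact_mod_cast h2
    omega
  exact ⟨ξ, hξw.trans (heq ▸ hζgen x' hx's hx'), hfξ'⟩

/-- Openness and geometric reducedness at the section give constancy of the dimension. -/
theorem dim_eq_of_open_reduced [IsLocallyNoetherian Y] (h : Spec (CommRingCat.of A) ⟶ Y) {y : Y}
    (hy : h.base (IsLocalRing.closedPoint A) = y)
    (hirr : ∀ (K : Type u) [Field K] [Algebra (IsLocalRing.ResidueField (Y.presheaf.stalk y)) K],
      IsIrreducible ((FBase.bcπ (f.fiberToSpecResidueField y) K ≫ f.fiberι y).base ⁻¹'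
        connectedComponentIn (f.base ⁻¹' {y}) (g.base y)))
    (hopen : ∀ x ∈ connectedComponentIn (f.base ⁻¹' {y}) (g.base y), EGA43.IsUnivOpenAt f x)
    (hred : FBase.IsGeomReducedAt (f.fiberToSpecResidueField (f.base (g.base y))) (f.asFiber (g.base y))) :
    FlatMor.fibreDimAt f (g.base (h.base (⟨⊥, Ideal.isPrime_bot⟩ : PrimeSpectrum A))) =
      FlatMor.fibreDimAt f (g.base y) := by
  let η : ↥(Spec (CommRingCat.of A)) := (⟨⊥, Ideal.isPrime_bot⟩ : PrimeSpectrum A)
  let s : ↥(Spec (CommRingCat.of A)) := IsLocalRing.closedPoint A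
  let f' := pullback.snd f h
  let σ := bcSec f g hg h
  haveI : IsLocallyNoetherian (pullback f h) := LocallyOfFiniteType.isLocallyNoetherian f'
  have hηmax : IsMaxPt η := fun z hz => (hz.antisymm
    ((PrimeSpectrum.le_iff_specializes _ z).1 (show (⊥ : Ideal A) ≤ _ from bot_le))).eq
  obtain ⟨ζ, hfζ, hζC, hζmax, hζs, hζgen, hgen, hζd⟩ := exists_generic_bc f g hg h s hy hirr
  have hσs : f'.base (σ.base s) = s := bcSec_snd_apply f g hg h s
  have hop : EGA43.IsOpenAt f'.base ζ :=
    UnivOpenAtLib.isOpenAt_of_isPullback (hopen _ hζC) (IsPullback.of_hasPullback f h) ζ rfl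
  obtain ⟨z, hzζ, hfz, hzmax, hztr⟩ := exists_trd_of_isOpenAt f' hζmax hop
    (show η ⤳ f' ζ by rw [show f' ζ = s from hfζ]; exact IsLocalRing.specializes_closedPoint η)
  obtain ⟨ξ, hfξ, hξg, hξmax, hξd⟩ := exists_maxInFibre_fibreDimAt f' (σ.base η)
  have hfξ' : f'.base ξ = η := hfξ.trans (bcSec_snd_apply f g hg h η)
  rw [fibreDimAt_bcSec] at hξd
  obtain ⟨v, hv⟩ : σ.base s ∈ Set.range (f'.fiberι (f'.base (σ.base s))) := by
    rw [f'.range_fiberι]; rfl
  have hvred : _root_.IsReduced ((f'.fiber (f'.base (σ.base s))).presheaf.stalk v) := by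
    refine isReduced_bc_fibre f h _ v (x := g.base y) ?_ (y := f.base (g.base y)) ?_ (f.asFiber (g.base y))
      (f.fiberι_asFiber _) hred
    · rw [hv, bcSec_fst_apply, hy]
    · rw [hσs, section_apply f hg, hy]
  have heq : z = ξ := eq_of_isMaxPt_of_unique f' (σ.base s) hσs v hv hvred ζ (hfζ.trans hσs.symm) hζs hζmax
    (fun ζ' hfζ' hζ' hmax' => by
      have h1 : f'.base ζ' = s := hfζ'.trans hσs
      exact (hmax' ζ (hfζ.trans h1.symm) (hζgen ζ' h1 (hgen ζ' h1 hζ'))).symm)
    hop (hzζ.trans hζs) (hξg.trans ((IsLocalRing.specializes_closedPoint η).map σ.continuous))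
    (isMaxPt_of_maxInFibre f' hzmax (hfz ▸ hηmax))
    (isMaxPt_of_maxInFibre f' hξmax (show IsMaxPt (f'.base ξ) by rw [hfξ']; exact hηmax))
  rw [hξd, ← heq, hztr, hζd]

end Groth.Agent.OpenDim
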