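import Mathlib
import Groth.Agent.OpenDim.SectionDVR
import Groth.Agent.OpenDim.Local

/-!
# Constancy of the dimension of section components and universal openness
-/

set_option autoImplicit false
set_option linter.style.haveILetI false
set_option backward.isDefEq.respectTransparency false
set_option backward.defeqAttrib.useBackward true

open CategoryTheory CategoryTheory.Limits AlgebraicGeometry Topology TopologicalSpace

universe u

namespace Groth.Agent.OpenDim

open Groth.Agent.DimFormulaLib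

variable {X Y : Scheme.{u}} (f : X ⟶ Y) [LocallyOfFiniteType f] (g : Y ⟶ X) (hg : g ≫ f = 𝟙 Y)

include hg

theorem dim_comp_eq_fibreDimAt (y : Y)
    (hirr : IsIrreducible (connectedComponentIn (f.base ⁻¹' {y}) (g.base y))) :
    topologicalKrullDim ↥(connectedComponentIn (f.base ⁻¹' {y}) (g.base y)) = FlatMor.fibreDimAt f (g.base y) := by
  obtain ⟨ζ, -, -, -, h1, h2⟩ := exists_generic_comp f (section_apply f hg y) hirr
  rw [h1, h2]

omit hg in
theorem fibreDimAt_section_mono {y y' : Y} (h : y' ⤳ y) :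
    FlatMor.fibreDimAt f (g.base y') ≤ FlatMor.fibreDimAt f (g.base y) := by
  have := (h.map g.continuous).mem_open (FibreDepth.isOpen_fibreDimAt_le f (FlatMor.fibreDimAt f (g.base y)))
    (Set.mem_ofPred_eq ▸ le_refl (FlatMor.fibreDimAt f (g.base y)))
  exact this

theorem univOpenAt_comp_of_const [IsLocallyNoetherian Y] (y : Y)
    (hirr : ∀ (K : Type u) [Field K] [Algebra (IsLocalRing.ResidueField (Y.presheaf.stalk y)) K],
      IsIrreducible ((FBase.bcπ (f.fiberToSpecResidueField y) K ≫ f.fiberι y).base ⁻¹'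
        connectedComponentIn (f.base ⁻¹' {y}) (g.base y)))
    (hdim : ∀ y' : Y, y' ⤳ y → FlatMor.fibreDimAt f (g.base y) ≤ FlatMor.fibreDimAt f (g.base y'))
    {x : X} (hx : x ∈ connectedComponentIn (f.base ⁻¹' {y}) (g.base y)) : EGA43.IsUnivOpenAt f x := by
  refine UnivOpenAtLib.univOpenAt_of_dvrLifts f x fun A _ _ _ h hh x' hx' hx's => ?_
  have hy : h.base (IsLocalRing.closedPoint A) = y := hh.trans (connectedComponentIn_subset (f.base ⁻¹' {y}) (g.base y) hx)
  obtain ⟨z, hz, hzη⟩ := exists_generic_lift f g hg h hy hirr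
    (hdim _ (by rw [← hy]; exact (IsLocalRing.specializes_closedPoint _).map h.continuous)) x' hx's (hx' ▸ hx)
  exact ⟨z, hz, fun he => IsDiscreteValuationRing.not_a_field A
    (congrArg PrimeSpectrum.asIdeal (hzη.symm.trans he)).symm⟩

/-- Universal openness along the component from universal openness at its generic point. -/
theorem univOpenAt_comp_of_generic (y : Y)
    (hirr : IsIrreducible (connectedComponentIn (f.base ⁻¹' {y}) (g.base y)))
    (hopen : ∀ ξ ∈ connectedComponentIn (f.base ⁻¹' {y}) (g.base y),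
      connectedComponentIn (f.base ⁻¹' {y}) (g.base y) ⊆ closure {ξ} → EGA43.IsUnivOpenAt f ξ)
    {x : X} (hx : x ∈ connectedComponentIn (f.base ⁻¹' {y}) (g.base y)) : EGA43.IsUnivOpenAt f x := by
  obtain ⟨ζ, hζ, hfζ, hgen, -, -⟩ := exists_generic_comp f (section_apply f hg y) hirr
  have hfx : f.base x = y := connectedComponentIn_subset (f.base ⁻¹' {y}) (g.base y) hx
  refine univOpenAt_of_forall_max f x fun ξ hfξ hξx hmax => ?_
  have hξC := mem_comp_of_specializes f hx (hfξ.trans hfx) hξx
  obtain rfl := hmax ζ (hfζ.trans (hfξ.trans hfx).symm) (hgen ξ hξC)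
  exact hopen ζ hξC fun w hw => specializes_iff_mem_closure.1 (hgen w hw)

theorem dim_eq_of_generization [IsLocallyNoetherian Y] {y y' : Y} (h : y' ⤳ y)
    (hirr : ∀ (K : Type u) [Field K] [Algebra (IsLocalRing.ResidueField (Y.presheaf.stalk y)) K],
      IsIrreducible ((FBase.bcπ (f.fiberToSpecResidueField y) K ≫ f.fiberι y).base ⁻¹'
        connectedComponentIn (f.base ⁻¹' {y}) (g.base y)))
    (hopen : ∀ x ∈ connectedComponentIn (f.base ⁻¹' {y}) (g.base y), EGA43.IsUnivOpenAt f x)
    (hred : FBase.IsGeomReducedAt (f.fiberToSpecResidueField (f.base (g.base y))) (f.asFiber (g.base y))) :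
    FlatMor.fibreDimAt f (g.base y') = FlatMor.fibreDimAt f (g.base y) := by
  rcases eq_or_ne y' y with rfl | hne
  · rfl
  obtain ⟨A, _, _, _, k, hkc, hkη⟩ := UnivOpenAtLib.exists_dvr_specialization h hne
  have := dim_eq_of_open_reduced f g hg k hkc hirr hopen hred
  rwa [hkη (⟨⊥, Ideal.isPrime_bot⟩ : PrimeSpectrum A) fun he =>
    IsDiscreteValuationRing.not_a_field A (congrArg PrimeSpectrum.asIdeal he).symm] at this

/-- Universal openness and full generic fibres. -/
theorem dim_eq_of_maximal [IsLocallyNoetherian Y] {y η : Y} (h : η ⤳ y)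
    (hirr : IsIrreducible (connectedComponentIn (f.base ⁻¹' {y}) (g.base y)))
    (hirrη : IsIrreducible (connectedComponentIn (f.base ⁻¹' {η}) (g.base η)))
    (hopen : ∀ x ∈ connectedComponentIn (f.base ⁻¹' {y}) (g.base y), EGA43.IsUnivOpenAt f x)
    (hfull : topologicalKrullDim ↥(f.fiber η) = topologicalKrullDim ↥(connectedComponentIn (f.base ⁻¹' {η}) (g.base η))) :
    FlatMor.fibreDimAt f (g.base η) = FlatMor.fibreDimAt f (g.base y) := by
  refine le_antisymm (fibreDimAt_section_mono f g h) ?_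
  obtain ⟨ζ, hζ, hfζ, hgen, -, hd⟩ := exists_generic_comp f (section_apply f hg y) hirr
  have hmax : MaxInFibre f ζ := fun z hfz hz => (hz.antisymm
    (hgen z (mem_comp_of_specializes f hζ (hfz.trans hfζ) hz))).eq
  obtain ⟨z, -, hfz, -, htr⟩ := exists_trd_of_isOpenAt f hmax (isOpenAt_of_univOpenAt (hopen ζ hζ))
    (show η ⤳ f ζ by rw [show f ζ = y from hfζ]; exact h)
  rw [← dim_comp_eq_fibreDimAt f g hg η hirrη, ← hfull, hd, ← htr]
  exact le_dim_fiber f hfz

/-- From the maximal points to a neighbourhood. -/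
theorem exists_nhds_const [IsLocallyNoetherian Y]
    (hirr : ∀ y : Y, IsIrreducible (connectedComponentIn (f.base ⁻¹' {y}) (g.base y))) (y : Y)
    (h : ∀ η : Y, IsMaxPt η → η ⤳ y → FlatMor.fibreDimAt f (g.base η) = FlatMor.fibreDimAt f (g.base y)) :
    ∃ V ∈ nhds y, ∀ z ∈ V, topologicalKrullDim ↥(connectedComponentIn (f.base ⁻¹' {z}) (g.base z)) =
      topologicalKrullDim ↥(connectedComponentIn (f.base ⁻¹' {y}) (g.base y)) := by
  refine ⟨_, Filter.inter_mem (eventually_below_generic y)
    (((FibreDepth.isOpen_fibreDimAt_le f (FlatMor.fibreDimAt f (g.base y))).preimage g.continuous).mem_nhds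
      (show g.base y ∈ {w | FlatMor.fibreDimAt f w ≤ FlatMor.fibreDimAt f (g.base y)} from
        Set.mem_ofPred_eq ▸ le_refl (FlatMor.fibreDimAt f (g.base y)))), fun z hz => ?_⟩
  obtain ⟨η, hηmax, hηy, hηz⟩ := hz.1
  rw [dim_comp_eq_fibreDimAt f g hg z (hirr z), dim_comp_eq_fibreDimAt f g hg y (hirr y)]
  exact le_antisymm hz.2 (h η hηmax hηy ▸ fibreDimAt_section_mono f g hηz)

end Groth.Agent.OpenDim
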