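import Mathlib
import Groth.Agent.OpenDim.SectionConst
import Groth.Agent.FlatValLib.Scheme

/-!
# Flatness from universal openness and geometrically reduced fibres
-/

set_option autoImplicit false
set_option linter.style.haveILetI false
set_option backward.isDefEq.respectTransparency false
set_option backward.defeqAttrib.useBackward true

open CategoryTheory CategoryTheory.Limits AlgebraicGeometry Topology TopologicalSpace

universe u

namespace Groth.Agent.OpenDim

open Groth.Agent.DimFormulaLib

/-- Flatness at a point over a reduced base from universal openness at the generic points of the fibre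
through it and geometric reducedness of the fibre. -/
theorem flat_of_univOpen_geomReduced {X Y : Scheme.{u}} [IsLocallyNoetherian Y] (f : X ⟶ Y)
    [LocallyOfFiniteType f] (x : X)
    (hmax : ∀ ξ : X, f ξ = f x → ξ ⤳ x → MaxInFibre f ξ → EGA43.IsUnivOpenAt f ξ)
    (hred : FBase.IsGeomReducedAt (f.fiberToSpecResidueField (f.base x)) (f.asFiber x))
    (hy : _root_.IsReduced (Y.presheaf.stalk (f.base x))) :
    (f.stalkMap x).hom.Flat := by
  refine FlatValLib.flat_stalkMap_of_valuative f x fun V _ _ _ g hg x' hx hc => ?_
  let f' := pullback.snd f g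
  obtain ⟨w, hw⟩ : x' ∈ Set.range (f'.fiberι (f'.base x')) := by
    rw [f'.range_fiberι]; rfl
  have hred' : _root_.IsReduced ((f'.fiber (f'.base x')).presheaf.stalk w) :=
    isReduced_bc_fibre f g _ w (x := x) (by rw [hw]; exact hx) (by rw [hc]; exact hg) (f.asFiber x)
      (f.fiberι_asFiber x) hred
  have hflat := flat_of_open_reduced f' x' hc (fun ζ hfζ hζx _ => ?_) w hw hred'
  · rwa [hw] at hflat
  refine UnivOpenAtLib.isOpenAt_of_isPullback ?_ (IsPullback.of_hasPullback f g) ζ rfl
  have hfz : f.base ((pullback.fst f g).base ζ) = f.base x := by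
    rw [← Scheme.Hom.comp_apply, pullback.condition, Scheme.Hom.comp_apply]
    exact (congrArg g.base (hfζ.trans hc)).trans hg
  refine univOpenAt_of_forall_max f _ fun ξ hξ hξz hξmax => ?_
  refine hmax ξ (hξ.trans hfz) (hξz.trans ?_) hξmax
  rw [← hx]
  exact hζx.map (pullback.fst f g).continuous

end Groth.Agent.OpenDim
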