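import Mathlib
import Groth.Agent.OpenDim.Conv

/-!
# Equidimensional morphisms over a geometrically unibranch point (EGA IV 14.4.2)
-/

set_option autoImplicit false
set_option linter.style.haveILetI false
set_option backward.isDefEq.respectTransparency false
set_option backward.defeqAttrib.useBackward true

open CategoryTheory AlgebraicGeometry Topology IsLocalRing

universe u

namespace Groth.Agent.OpenDim

open Groth.Agent.DimFormulaLib

/-- Chains transported along a strictly monotone map. -/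
theorem relHeight_le_of_strictMono {C D : Type u} [CommRing C] [IsNoetherianRing C] [CommRing D]
    (φ : PrimeSpectrum C → PrimeSpectrum D) (hφ : StrictMono φ) {P Q : PrimeSpectrum C} (h : P ≤ Q)
    {P' Q' : PrimeSpectrum D} (hP : P' ≤ φ P) (hQ : φ Q ≤ Q') : relHeight P Q ≤ relHeight P' Q' := by
  obtain ⟨n, s, hn, sh, sl, sn, -⟩ := exists_saturated_between h
  have h1 := length_le_relHeight (P := P') (Q := Q') (s.map φ hφ)
    (by rw [LTSeries.head_map, sh]; exact hP) (by rw [LTSeries.last_map, sl]; exact hQ)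
  rw [hn]
  refine le_trans (le_of_eq ?_) h1
  show (n : ℕ∞) = (s.length : ℕ∞)
  rw [sn]

/-- Along a component dominating a geometrically unibranch base point with full fibre dimension,
chains of length `height p + (height in the fibre)` exist. -/
theorem height_add_le_relHeight {A B : Type u} [CommRing A] [CommRing B] [Algebra A B]
    [IsNoetherianRing A] [Algebra.FiniteType A B] (e : ℕ) {P P₁ q : PrimeSpectrum B}
    (hPP₁ : P ≤ P₁) (hP₁q : P₁ ≤ q)
    (hp₁ : PrimeSpectrum.comap (algebraMap A B) P₁ = PrimeSpectrum.comap (algebraMap A B) q)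
    (hgen : IsMin (PrimeSpectrum.comap (algebraMap A B) P))
    (htr : Algebra.trdeg (A ⧸ (PrimeSpectrum.comap (algebraMap A B) P).asIdeal) (B ⧸ P.asIdeal) = e)
    (he₁ : Algebra.trdeg (A ⧸ (PrimeSpectrum.comap (algebraMap A B) P₁).asIdeal) (B ⧸ P₁.asIdeal) = e)
    (hmin : ∀ P' ≤ P₁, PrimeSpectrum.comap (algebraMap A B) P' =
      PrimeSpectrum.comap (algebraMap A B) P₁ → P' = P₁)
    (t' : ℕ)
    (ht' : Algebra.trdeg (A ⧸ (PrimeSpectrum.comap (algebraMap A B) q).asIdeal) (B ⧸ q.asIdeal) = t')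
    (hu : ∃ (R : Type u) (_ : CommRing R) (_ : IsLocalRing R) (_ : Algebra A R),
      IsLocalization.AtPrime R (PrimeSpectrum.comap (algebraMap A B) q).asIdeal ∧
        CAlg2.IsGeomUnibranch R) :
    ∃ a' : ℕ, e = a' + t' ∧
      relHeight (PrimeSpectrum.comap (algebraMap A B) P) (PrimeSpectrum.comap (algebraMap A B) q) + a' ≤
        relHeight P q := by
  haveI : IsNoetherianRing B := Algebra.FiniteType.isNoetherianRing A B
  -- inside the fibre
  let p := PrimeSpectrum.comap (algebraMap A B) q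
  haveI : IsNoetherianRing (p.asIdeal.Fiber B) :=
    Algebra.FiniteType.isNoetherianRing p.asIdeal.ResidueField _
  let ε := PrimeSpectrum.preimageOrderIsoFiber A B p
  let N₁ := ε ⟨P₁, hp₁⟩
  let N := ε ⟨q, rfl⟩
  have hN : N₁ ≤ N := ε.monotone (show (⟨P₁, hp₁⟩ : {z // PrimeSpectrum.comap (algebraMap A B) z = p}) ≤ ⟨q, rfl⟩ from hP₁q)
  have hc : ∀ x, (ε x).asIdeal.comap
      (Algebra.TensorProduct.includeRight : B →ₐ[A] p.asIdeal.Fiber B).toRingHom = x.1.asIdeal := fun x =>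
    congrArg (fun y => y.1.asIdeal) (ε.symm_apply_apply x)
  haveI : q.asIdeal.LiesOver p.asIdeal := ⟨rfl⟩
  haveI : P₁.asIdeal.LiesOver p.asIdeal := ⟨(congrArg PrimeSpectrum.asIdeal hp₁).symm⟩
  have he₁' := (exists_fibre_component.trdeg_quotient_congr hp₁).symm.trans he₁
  obtain ⟨a', ha', hat⟩ := trdeg_eq_relHeight_add p.asIdeal.ResidueField (p.asIdeal.Fiber B) hN e t'
    (by rw [trdeg_fibre p.asIdeal P₁.asIdeal N₁.asIdeal (hc _), he₁'])
    (by rw [trdeg_fibre p.asIdeal q.asIdeal N.asIdeal (hc _)]; exact ht')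
  refine ⟨a', hat, ?_⟩
  have h2 : (a' : ℕ∞) ≤ relHeight P₁ q := by
    rw [← ha']
    refine relHeight_le_of_strictMono (fun z => (ε.symm z).1) (fun a b h => ε.symm.strictMono h) hN ?_ ?_
    · simp only [N₁, OrderIso.symm_apply_apply]; exact le_rfl
    · simp only [N, OrderIso.symm_apply_apply]; exact le_rfl
  -- along the component
  let D := B ⧸ P.asIdeal
  let π : B →+* D := Ideal.Quotient.mk P.asIdeal
  haveI : (P₁.asIdeal.map π).IsPrime :=
    Ideal.map_isPrime_of_surjective Ideal.Quotient.mk_surjective (by rw [Ideal.mk_ker]; exact hPP₁)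
  let P' : PrimeSpectrum D := ⟨P₁.asIdeal.map π, inferInstance⟩
  have hP' : PrimeSpectrum.comap π P' = P₁ := PrimeSpectrum.ext (by
    show (P₁.asIdeal.map π).comap π = P₁.asIdeal
    rw [Ideal.comap_map_of_surjective' _ Ideal.Quotient.mk_surjective, Ideal.mk_ker]
    exact sup_eq_left.2 hPP₁)
  have hbot : PrimeSpectrum.comap π ⊥ = P := PrimeSpectrum.ext (by
    show (⊥ : Ideal D).comap π = P.asIdeal
    rw [← RingHom.ker_eq_comap_bot, Ideal.mk_ker])
  have hpP' : PrimeSpectrum.comap (algebraMap A D) P' = p :=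
    (PrimeSpectrum.comap_comp_apply (algebraMap A B) π P').trans
      ((congrArg (PrimeSpectrum.comap (algebraMap A B)) hP').trans hp₁)
  have hp0 : PrimeSpectrum.comap (algebraMap A D) ⊥ = PrimeSpectrum.comap (algebraMap A B) P :=
    (PrimeSpectrum.comap_comp_apply (algebraMap A B) π ⊥).trans
      (congrArg (PrimeSpectrum.comap (algebraMap A B)) hbot)
  have hopen := isOpenAt_of_univOpenAt (univOpenAt_of_component e
    (minimalPrimes.finite_of_isNoetherianRing A) P'
    (by rw [trdeg_quotient_comap, show PrimeSpectrum.comap (Ideal.Quotient.mk P.asIdeal) P' = P₁ from hP']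
        exact he₁)
    (fun P'' h1 h2 => by
      refine PrimeSpectrum.comap_injective_of_surjective π Ideal.Quotient.mk_surjective ?_
      rw [hP']
      refine hmin _ (hP' ▸ Ideal.comap_mono h1) ?_
      rw [hp₁]
      exact ((PrimeSpectrum.comap_comp_apply (algebraMap A B) π P'').symm.trans h2).trans hpP')
    (by rw [hpP']; exact hu) ⊥ bot_le (by rw [hp0]; exact hgen)
    (by rw [trdeg_quotient_comap, show PrimeSpectrum.comap (Ideal.Quotient.mk P.asIdeal) ⊥ = P from hbot]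
        exact htr))
  obtain ⟨R, hR, -, hRh⟩ := exists_over_relHeight_ge P' (lifts_of_isOpenAt P' hopen)
    (PrimeSpectrum.comap (algebraMap A B) P) (by rw [← hp0]; exact Ideal.comap_mono bot_le)
  rw [hpP'] at hRh
  have h3 : relHeight R P' ≤ relHeight P P₁ :=
    relHeight_le_of_strictMono (PrimeSpectrum.comap π)
      (fun a b h => lt_of_le_of_ne (Ideal.comap_mono h.le) fun e => h.ne
        (PrimeSpectrum.comap_injective_of_surjective π Ideal.Quotient.mk_surjective e))
      hR (le_trans hbot.ge (Ideal.comap_mono bot_le)) hP'.le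
  exact (add_le_add (hRh.trans h3) h2).trans (relHeight_add_le hPP₁ hP₁q)

variable {X Y : Scheme.{u}}

/-- EGA IV 14.4.2 a) ⇒ c). -/
theorem equidim_and_univOpenAt_of_isEquidimAt [IsLocallyNoetherian Y] (f : X ⟶ Y)
    [LocallyOfFiniteType f] (x : X) (hy : CAlg2.IsGeomUnibranch (Y.presheaf.stalk (f x)))
    (h : EGA43.IsEquidimAt f x) :
    EGA4.IsEquidim (X.presheaf.stalk x) ∧
      ∀ ζ : X, f ζ = f x → ζ ⤳ x → MaxInFibre f ζ → EGA43.IsUnivOpenAt f ζ := by
  obtain ⟨c, e, hdim, hcomp⟩ := equidimAt_data f x h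
  haveI := c.isNoetherianRing
  haveI : IsNoetherianRing c.B := Algebra.FiniteType.isNoetherianRing c.A c.B
  obtain ⟨a, b, d, t', ha, hb, hd, ht', hloc, hqa, hpb, hle, hT⟩ := c.dims
  have hde : d + t' = e := by exact_mod_cast hloc.symm.trans hdim
  have hexist : ∀ P : PrimeSpectrum c.B, IsMin P → P ≤ c.q → ∀ Q ≤ c.q, P ≤ Q →
      PrimeSpectrum.comap (algebraMap c.A c.B) Q = c.p →
      ∃ P₁, P ≤ P₁ ∧ P₁ ≤ Q ∧ PrimeSpectrum.comap (algebraMap c.A c.B) P₁ = c.p ∧
        Algebra.trdeg (c.A ⧸ (PrimeSpectrum.comap (algebraMap c.A c.B) P₁).asIdeal)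
          (c.B ⧸ P₁.asIdeal) = e ∧
        ∀ P' ≤ P₁, PrimeSpectrum.comap (algebraMap c.A c.B) P' =
          PrimeSpectrum.comap (algebraMap c.A c.B) P₁ → P' = P₁ := by
    intro P hP hPq Q hQq hPQ hQp
    obtain ⟨P₁, h1, h2, h3, h4⟩ := exists_over_trdeg_ge hPQ e (hcomp P hP hPq).2
    obtain ⟨t₁, ht₁⟩ := exists_nat_trdeg_quotient_pair (A := c.A) P₁
    rw [ht₁] at h4
    have h5 : e ≤ t₁ := by exact_mod_cast h4
    have h6 := hT P₁ (h2.trans hQq) t₁ ht₁
    refine ⟨P₁, h1, h2, h3.trans hQp, ht₁.trans (by rw [show t₁ = e by omega]), fun P' hP' hp' => ?_⟩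
    by_contra hne
    obtain ⟨t₂, ht₂⟩ := exists_nat_trdeg_quotient_pair (A := c.A) P'
    have h7 := hT P' (hP'.trans (h2.trans hQq)) t₂ ht₂
    have h8 := trdeg_lt_of_lt_in_fibre (lt_of_le_of_ne hP' hne) hp' t₂ t₁ ht₂ ht₁
    omega
  have hu : ∃ (R : Type u) (_ : CommRing R) (_ : IsLocalRing R) (_ : Algebra c.A R),
      IsLocalization.AtPrime R c.p.asIdeal ∧ CAlg2.IsGeomUnibranch R := by
    obtain ⟨al, hal⟩ := GeomUniPoly.exists_algebra_stalk (Γ := .of c.A) c.i c.p
    exact ⟨_, inferInstance, inferInstance, al, hal, by rw [c.hp]; exact hy⟩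
  obtain ⟨η, hη, hηmax, hηgen⟩ := exists_generic_of_geomUnibranch _ hy
  have hheight : ∀ p₀ : PrimeSpectrum c.A, IsMin p₀ → p₀ ≤ c.p →
      relHeight p₀ c.p = c.p.asIdeal.height := by
    intro p₀ hp₀ hle₀
    obtain ⟨p₁, hp₁, hle₁, hh⟩ := exists_isMin_relHeight_eq_height c.p
    have key : ∀ p₂ : PrimeSpectrum c.A, IsMin p₂ → p₂ ≤ c.p → c.i p₂ = η := fun p₂ h2 hle₂ => by
      have hsp : c.i p₂ ⤳ f x := c.hp ▸ ((PrimeSpectrum.le_iff_specializes _ _).1 hle₂).map c.i.continuous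
      have hg := hηgen _ hsp
      obtain ⟨(p₃ : PrimeSpectrum c.A), hp₃⟩ : η ∈ Set.range c.i :=
        hη.mem_open c.i.isOpenEmbedding.isOpen_range ⟨c.p, c.hp⟩
      rw [← hp₃] at hg ⊢
      exact congrArg c.i (le_antisymm (α := PrimeSpectrum c.A) (h2 (c.le_of_specializes_base hg))
        (c.le_of_specializes_base hg))
    rwa [c.i.isOpenEmbedding.injective ((key p₁ hp₁ hle₁).trans (key p₀ hp₀ hle₀).symm)] at hh
  refine ⟨c.isEquidim_source_iff.2 fun P hP hPq => le_antisymm ?_ ?_, fun ζ hfζ hζx hmax => ?_⟩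
  · exact relHeight_le_height hPq
  · obtain ⟨P₁, h1, h2, h3, h4, h5⟩ := hexist P hP hPq c.q le_rfl hPq rfl
    obtain ⟨a', hat, hlow⟩ := height_add_le_relHeight e h1 h2 h3 (hcomp P hP hPq).1 (hcomp P hP hPq).2
      h4 h5 t' ht' hu
    have had : a' = d := by omega
    change relHeight _ c.p + (a' : ℕ∞) ≤ _ at hlow
    rw [hheight _ (hcomp P hP hPq).1 (Ideal.comap_mono hPq), had,
      show c.p.asIdeal.height = b from hpb] at hlow
    refine le_trans ?_ hlow
    rw [hqa]
    exact_mod_cast hle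
  · obtain ⟨Q, hQ, rfl⟩ := c.exists_le hζx
    obtain ⟨P₀, hP₀, hP₀Q⟩ := Ideal.exists_minimalPrimes_le (I := (⊥ : Ideal c.B)) (J := Q.asIdeal) bot_le
    let P : PrimeSpectrum c.B := ⟨P₀, hP₀.1.1⟩
    have hP : IsMin P := PrimeSpectrum.isMin_iff.2 hP₀
    have hPq : P ≤ c.q := le_trans (show P ≤ Q from hP₀Q) hQ
    have hQp : PrimeSpectrum.comap (algebraMap c.A c.B) Q = c.p := by
      refine c.i.isOpenEmbedding.injective ?_
      rw [← c.apply_j, hfζ]
      exact c.hp.symm
    obtain ⟨P₁, h1, h2, h3, h4, -⟩ := hexist P hP hPq Q hQ hP₀Q hQp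
    have hfj : f (c.j P₁) = f (c.j Q) := by rw [c.apply_j, c.apply_j, h3, hQp]
    have hPQ : P₁ = Q := c.j.isOpenEmbedding.injective (hmax _ hfj
      (((PrimeSpectrum.le_iff_specializes _ _).1 h2).map c.j.continuous))
    refine univOpenAt_of_trd f _ hmax (hfζ ▸ hy) (c.j P)
      (((PrimeSpectrum.le_iff_specializes _ _).1 (show P ≤ Q from hP₀Q)).map c.j.continuous) ?_ ?_
    · intro y' hy'
      rw [c.apply_j] at hy' ⊢
      obtain ⟨(p' : PrimeSpectrum c.A), rfl⟩ : y' ∈ Set.range c.i :=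
        hy'.mem_open c.i.isOpenEmbedding.isOpen_range ⟨_, rfl⟩
      exact congrArg c.i (le_antisymm (α := PrimeSpectrum c.A) (c.le_of_specializes_base hy')
        ((hcomp P hP hPq).1 (c.le_of_specializes_base hy')))
    · rw [c.resTrdegAt_eq, c.resTrdegAt_eq, ← hPQ, (hcomp P hP hPq).2, h4]

/-- EGA IV 14.4.2. -/
theorem isEquidimAt_tfae [IsLocallyNoetherian Y] (f : X ⟶ Y) [LocallyOfFiniteType f] (x : X)
    (hy : CAlg2.IsGeomUnibranch (Y.presheaf.stalk (f x))) (hX : EGA4.IsEquidim (X.presheaf.stalk x))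
    (h : ∀ ζ : X, f ζ = f x → ζ ⤳ x → MaxInFibre f ζ → EGA43.IsOpenAt f.base ζ) :
    EGA43.IsEquidimAt f x := by
  haveI : IsLocallyNoetherian X := LocallyOfFiniteType.isLocallyNoetherian f
  obtain ⟨η, hη, -, hηgen⟩ := exists_generic_of_geomUnibranch _ hy
  exact isEquidimAt_of_formula f x (isEquidim_stalk_of_generic _ η hη hηgen) hX
    (dim_formula_of_isOpenAt f x h)

end Groth.Agent.OpenDim
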