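import Mathlib
import Groth.Agent.OpenDim.EquidimCrit
import Groth.Agent.FlatDim.Trdeg

/-!
# Hypersurfaces in equidimensional morphisms
-/

set_option autoImplicit false
set_option linter.style.haveILetI false
set_option backward.isDefEq.respectTransparency false
set_option backward.defeqAttrib.useBackward true

open CategoryTheory AlgebraicGeometry Topology TopologicalSpace Filter

universe u

namespace Groth.Agent.OpenDim

open Groth.Agent.DimFormulaLib

variable {X Y : Scheme.{u}}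

/-- Membership in the zero locus of a global section, in a chart. -/
theorem mem_zeroLocus_iff_chart {B : Type u} [CommRing B] (j : Spec (CommRingCat.of B) ⟶ X) [IsOpenImmersion j]
    (g : Γ(X, ⊤)) : ∃ gB : B, ∀ P : PrimeSpectrum B,
      j P ∈ X.zeroLocus ({g} : Set Γ(X, ⊤)) ↔ gB ∈ P.asIdeal := by
  refine ⟨(Scheme.ΓSpecIso (CommRingCat.of B)).hom (j.appTop g), fun P => ?_⟩
  have h1 : j ⁻¹ᵁ X.basicOpen g = PrimeSpectrum.basicOpen ((Scheme.ΓSpecIso (CommRingCat.of B)).hom (j.appTop g)) := by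
    rw [← basicOpen_eq_of_affine', Scheme.Hom.preimage_basicOpen_top]
  have h2 : (j P ∈ X.basicOpen g) ↔ (Scheme.ΓSpecIso (CommRingCat.of B)).hom (j.appTop g) ∉ P.asIdeal := by
    rw [show (j P ∈ X.basicOpen g) ↔ (P ∈ j ⁻¹ᵁ X.basicOpen g) from Iff.rfl, h1]
    exact PrimeSpectrum.mem_basicOpen _ _
  rw [Scheme.zeroLocus_singleton]
  show j P ∉ X.basicOpen g ↔ _
  rw [h2, not_not]

variable [IsLocallyNoetherian Y] (f : X ⟶ Y) [LocallyOfFiniteType f]

include f in
/-- Krull: a maximal point of a hypersurface has height at most one. -/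
theorem dim_stalk_le_one (g : Γ(X, ⊤)) {ξ : X} (hξ : ξ ∈ X.zeroLocus ({g} : Set Γ(X, ⊤)))
    (hmax : ∀ z ∈ X.zeroLocus ({g} : Set Γ(X, ⊤)), z ⤳ ξ → z = ξ) :
    ringKrullDim (X.presheaf.stalk ξ) ≤ 1 := by
  obtain ⟨c⟩ := exists_chart f ξ
  haveI := c.isNoetherianRing
  haveI : IsNoetherianRing c.B := Algebra.FiniteType.isNoetherianRing c.A c.B
  obtain ⟨gB, hgB⟩ := mem_zeroLocus_iff_chart c.j g
  rw [← c.hq] at hξ
  have hmin : c.q.asIdeal ∈ (Ideal.span {gB}).minimalPrimes := by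
    refine ⟨⟨c.q.isPrime, (Ideal.span_singleton_le_iff_mem _).2 ((hgB c.q).1 hξ)⟩, fun P hP hle => ?_⟩
    let P' : PrimeSpectrum c.B := ⟨P, hP.1⟩
    have := hmax (c.j P') ((hgB P').2 ((Ideal.span_singleton_le_iff_mem _).1 hP.2)) (c.specializes hle)
    exact (congrArg PrimeSpectrum.asIdeal (c.j.isOpenEmbedding.injective (this.trans c.hq.symm))).ge
  rw [c.dim_stalk_source]
  exact_mod_cast Ideal.height_le_one_of_isPrincipal_of_mem_minimalPrimes (Ideal.span {gB}) c.q.asIdeal hmin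

/-- The codimension and fibre dimension of a point bounded on both sides. -/
theorem codim_core {x x' : X} {e n : ℕ} {U : X.Opens} (hxU : x ∈ U)
    (hgen : ∀ ξ ∈ U, IsMaxPt ξ → IsMaxPt (f ξ) ∧ f ξ ⤳ f x ∧ trd f ξ = e)
    (hw : ∀ w ∈ U, MaxInFibre f w → trd f w = e) (hx' : x' ⤳ x)
    (hcodim : ringKrullDim (X.presheaf.stalk x') ≤ n) (hn : trd f x' + n ≤ e) :
    ringKrullDim (X.presheaf.stalk x') = n ∧ trd f x' + n = e ∧ IsMaxPt (f x') := by
  have hx'U : x' ∈ U := hx'.mem_open U.isOpen hxU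
  obtain ⟨a, d, ha, hda, hle, heq⟩ := fibre_height_le f x'
    fun ξ hξ hξmax => (hgen ξ (hξ.mem_open U.isOpen hx'U) hξmax).1
  have hde : d + trd f x' = e := by
    obtain ⟨ζ, -, hζx, hmax, hdim⟩ := exists_maxInFibre_fibreDimAt f x'
    have := hda.symm.trans (hdim.trans (by rw [hw ζ (hζx.mem_open U.isOpen hx'U) hmax]))
    exact_mod_cast this
  have h3 : a ≤ n := by rw [ha] at hcodim; exact_mod_cast hcodim
  have hn' : a = n := by omega
  exact ⟨by rw [ha, hn'], by omega, heq (by omega)⟩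

/-- Degrees along a closed immersion. -/
theorem trd_closedImmersion {Z : Scheme.{u}} (i : Z ⟶ X) [IsClosedImmersion i] (z : Z) :
    trd (i ≫ f) z = trd f (i z) := by
  have h := (FlatDim.resTrdegAt_comp i f z).trans
    (by rw [FlatDim.resTrdegAt_preimmersion i z, add_zero])
  rw [resTrdegAt_eq_trd, resTrdegAt_eq_trd] at h
  exact_mod_cast h

end Groth.Agent.OpenDim
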