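import Mathlib
import Groth.Agent.OpenDim.Components
import Groth.Agent.QuasiSecLib.Criterion

/-!
# Quasi-finite subschemes through a point closed in its fibre
-/

set_option autoImplicit false
set_option linter.style.haveILetI false
set_option backward.isDefEq.respectTransparency false
set_option backward.defeqAttrib.useBackward true

open CategoryTheory AlgebraicGeometry Topology TopologicalSpace

universe u

namespace Groth.Agent.OpenDim

open Groth.Agent.DimFormulaLib

/-- A component dominating an irreducible base whose generic fibre is at least as big as the fibre of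
`x` carries a quasi-finite dominant subscheme through `x`. -/
theorem exists_qf_subscheme {X Y : Scheme.{u}} [IrreducibleSpace Y] (f : X ⟶ Y) [LocallyOfFiniteType f]
    [IsLocallyNoetherian Y] {x ξ : X} (hξx : ξ ⤳ x) (hfξ : f ξ = genericPoint Y)
    (hcl : ∀ x' : X, f.base x' = f.base x → x ⤳ x' → x' = x)
    (hdim : ∀ w : X, f w = f x → w ⤳ x → trd f w ≤ trd f ξ) :
    ∃ (T : Scheme.{u}) (i : T ⟶ X), IsImmersion i ∧ IrreducibleSpace ↥T ∧ IsReduced T ∧ x ∈ Set.range i.base ∧
        LocallyOfFiniteType (i ≫ f) ∧ LocallyQuasiFinite (i ≫ f) ∧ QuasiCompact (i ≫ f) ∧ IsDominant (i ≫ f) := by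
  obtain ⟨c⟩ := exists_chart f x
  haveI := c.isNoetherianRing
  obtain ⟨P, hP₀, hjP⟩ := c.exists_le hξx
  subst hjP
  have hjx : c.j c.q = x := c.hq
  have htrd : ∀ (z : PrimeSpectrum c.B) (t : ℕ),
      Algebra.trdeg (c.A ⧸ (PrimeSpectrum.comap (algebraMap c.A c.B) z).asIdeal) (c.B ⧸ z.asIdeal) = t →
        t = trd f (c.j z) := fun z t ht => by
    have h := ((c.resTrdegAt_eq z).trans ht).symm.trans (resTrdegAt_eq_trd f (c.j z))
    exact_mod_cast h
  obtain ⟨t₀, ht₀⟩ := exists_nat_trdeg_quotient_pair (A := c.A) P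
  have hmax : ∀ z : PrimeSpectrum c.B, PrimeSpectrum.comap (algebraMap c.A c.B) z = PrimeSpectrum.comap (algebraMap c.A c.B) c.q →
      c.q ≤ z → z = c.q := fun z hz hqz => by
    refine c.j.isOpenEmbedding.injective (Eq.trans ?_ hjx.symm)
    refine hcl _ ?_ ?_
    · show f (c.j z) = _
      rw [c.apply_j, hz, ← c.apply_j, c.hq]
    · have h := ((PrimeSpectrum.le_iff_specializes _ _).1 hqz).map c.j.continuous
      rwa [hjx] at h
  obtain ⟨q', a, hPq', hq'q, haq, hq'η, hqf⟩ := Groth.Agent.QuasiSecLib.exists_quasi_section P c.q hP₀ t₀ ht₀ hmax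
    (fun z t hz hzq ht => by
      rw [htrd z t ht, htrd P t₀ ht₀]
      refine hdim _ ?_ ?_
      · rw [c.apply_j, hz, ← c.apply_j, c.hq]
      · have h := ((PrimeSpectrum.le_iff_specializes _ _).1 hzq).map c.j.continuous
        rwa [hjx] at h)
  let C := c.B ⧸ q'.asIdeal
  let D := Localization.Away (Ideal.Quotient.mk q'.asIdeal a)
  have ha0 : Ideal.Quotient.mk q'.asIdeal a ≠ 0 := fun h => haq (hq'q (Ideal.Quotient.eq_zero_iff_mem.1 h))
  haveI : IsDomain D := IsLocalization.isDomain_localization (powers_le_nonZeroDivisors_of_noZeroDivisors ha0)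
  let i₁ : Spec (CommRingCat.of D) ⟶ Spec (CommRingCat.of C) := Spec.map (CommRingCat.ofHom (algebraMap C D))
  haveI : IsOpenImmersion i₁ := IsOpenImmersion.of_isLocalization (Ideal.Quotient.mk q'.asIdeal a)
  let i₂ : Spec (CommRingCat.of C) ⟶ Spec (CommRingCat.of c.B) := Spec.map (CommRingCat.ofHom (Ideal.Quotient.mk q'.asIdeal))
  haveI : IsClosedImmersion i₂ := IsClosedImmersion.spec_of_surjective _ Ideal.Quotient.mk_surjective
  let i := i₁ ≫ i₂ ≫ c.j
  have hif : i ≫ f = Spec.map (CommRingCat.ofHom (algebraMap c.A D)) ≫ c.i := by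
    simp only [i, Category.assoc, c.w, i₁, i₂, ← Spec.map_comp_assoc, ← CommRingCat.ofHom_comp]
    congr 3
  haveI : Algebra.FiniteType c.A C := Algebra.FiniteType.trans c.finiteType inferInstance
  haveI : Algebra.FiniteType c.A D := Algebra.FiniteType.trans (inferInstance : Algebra.FiniteType c.A C) inferInstance
  haveI : LocallyOfFiniteType (Spec.map (CommRingCat.ofHom (algebraMap c.A D))) :=
    HasRingHomProperty.Spec_iff.2 (RingHom.finiteType_algebraMap.2 ‹_›)
  haveI : LocallyQuasiFinite (Spec.map (CommRingCat.ofHom (algebraMap c.A D))) :=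
    HasRingHomProperty.Spec_iff.2 (RingHom.quasiFinite_algebraMap.2 hqf)
  refine ⟨Spec (CommRingCat.of D), i, inferInstance, inferInstance, inferInstance, ?_, ?_, ?_, ?_, ?_⟩
  · haveI : (c.q.asIdeal.map (Ideal.Quotient.mk q'.asIdeal)).IsPrime :=
      Ideal.map_isPrime_of_surjective Ideal.Quotient.mk_surjective (by rw [Ideal.mk_ker]; exact hq'q)
    have hcomap : (c.q.asIdeal.map (Ideal.Quotient.mk q'.asIdeal)).comap (Ideal.Quotient.mk q'.asIdeal) = c.q.asIdeal := by
      rw [Ideal.comap_map_of_surjective _ Ideal.Quotient.mk_surjective, ← RingHom.ker_eq_comap_bot, Ideal.mk_ker]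
      exact sup_eq_left.2 hq'q
    let z₁ : PrimeSpectrum C := ⟨_, ‹(c.q.asIdeal.map (Ideal.Quotient.mk q'.asIdeal)).IsPrime›⟩
    obtain ⟨z, hz⟩ := (PrimeSpectrum.localization_away_comap_range D (Ideal.Quotient.mk q'.asIdeal a)).ge
      (show z₁ ∈ (PrimeSpectrum.basicOpen (Ideal.Quotient.mk q'.asIdeal a) : Set (PrimeSpectrum C)) from
        fun h => haq (hcomap.le h))
    refine ⟨z, ?_⟩
    show c.j (i₂ (i₁ z)) = x
    rw [show i₂ (i₁ z) = c.q from (congrArg i₂ (show i₁ z = z₁ from hz)).trans (PrimeSpectrum.ext hcomap)]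
    exact hjx
  · rw [hif]; infer_instance
  · rw [hif]; infer_instance
  · rw [hif]; infer_instance
  · refine ⟨(dense_iff_closure_eq.2 (genericPoint_spec Y).def).mono (Set.singleton_subset_iff.2 ?_)⟩
    let z : PrimeSpectrum D := ⟨⊥, Ideal.isPrime_bot⟩
    refine ⟨z, ?_⟩
    show f (c.j (i₂ (i₁ z))) = _
    rw [show i₂ (i₁ z) = q' from PrimeSpectrum.ext (by
      show Ideal.comap (Ideal.Quotient.mk q'.asIdeal) (Ideal.comap (algebraMap C D) ⊥) = q'.asIdeal
      rw [Ideal.comap_bot_of_injective _ (IsLocalization.injective D (powers_le_nonZeroDivisors_of_noZeroDivisors ha0)),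
        ← RingHom.ker_eq_comap_bot, Ideal.mk_ker])]
    show f (c.j q') = _
    rw [c.apply_j, hq'η, ← c.apply_j, hfξ]


end Groth.Agent.OpenDim
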