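import Mathlib
import Groth.Agent.OpenDim.Flatness
import Groth.Agent.OpenDim.Indep
import Groth.Agent.OpenDim.Components
import Groth.Agent.OpenDim.EquidimCrit
import Groth.Agent.GenIrredLib.UnivOpenGeomRed
import Groth.Agent.LocDimBC.Scheme
import Groth.Agent.S2560
import Groth.Agent.UnivOpenAtLib.Dvr

/-!
# Universal openness and geometrically reduced fibres: the components dominate with the fibre dimension
-/

set_option autoImplicit false
set_option linter.style.haveILetI false
set_option backward.isDefEq.respectTransparency false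
set_option backward.defeqAttrib.useBackward true
set_option maxHeartbeats 1000000

open CategoryTheory CategoryTheory.Limits AlgebraicGeometry Topology TopologicalSpace IsLocalRing

universe u

namespace Groth.Agent.OpenDim

/-- With a regular `π` having reduced hypersurface, no minimal prime cuts the hypersurface in the closed point
only, unless the hypersurface is the closed point. -/
theorem no_curve_component {R : Type u} [CommRing R] [IsLocalRing R] [IsNoetherianRing R]
    (π : R) (hreg : ∀ r, π * r = 0 → r = 0) (hπ : π ∈ maximalIdeal R)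
    (hrad : (Ideal.span {π}).radical ≤ Ideal.span {π}) (P : Ideal R) (hP : P ∈ minimalPrimes R)
    (hPπ : maximalIdeal R ≤ (P ⊔ Ideal.span {π}).radical) :
    maximalIdeal R ≤ (Ideal.span {π}).radical := by
  classical
  by_contra hne
  have hann : P ∈ (Module.annihilator R R).minimalPrimes := by
    have h0 : Module.annihilator R R = ⊥ := by
      rw [eq_bot_iff]
      intro a ha
      simpa using Module.mem_annihilator.1 ha 1
    rw [h0]
    exact hP
  obtain ⟨-, φ, hφ⟩ := (isAssociatedPrime_iff_exists_injective_linearMap _ _).1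
    (Module.associatedPrimes.minimalPrimes_annihilator_subset_associatedPrimes R R hann)
  have hr0 : φ (Ideal.Quotient.mk P 1) ≠ 0 := fun h => (hP.1.1.ne_top) (by
    rw [← φ.map_zero] at h
    exact (Ideal.eq_top_iff_one P).2 (Ideal.Quotient.eq_zero_iff_mem.1 (hφ h)))
  have hPr : ∀ p ∈ P, p * φ (Ideal.Quotient.mk P 1) = 0 := fun p hp => by
    rw [← smul_eq_mul, ← map_smul, ← Ideal.Quotient.mk_eq_mk, ← Submodule.Quotient.mk_smul, smul_eq_mul, mul_one,
      Ideal.Quotient.mk_eq_mk, Ideal.Quotient.eq_zero_iff_mem.2 hp, map_zero]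
  obtain ⟨k, r', hk, hr'⟩ : ∃ (k : ℕ) (r' : R), φ (Ideal.Quotient.mk P 1) = π ^ k * r' ∧ r' ∉ Ideal.span {π} := by
    by_contra! hno
    refine hr0 ?_
    have hall : ∀ n : ℕ, ∃ c, φ (Ideal.Quotient.mk P 1) = π ^ n * c := fun n => by
      induction n with
      | zero => exact ⟨_, by rw [pow_zero, one_mul]⟩
      | succ n ih =>
        obtain ⟨c, hc⟩ := ih
        obtain ⟨t, ht⟩ := Ideal.mem_span_singleton'.1 (hno n c hc)
        exact ⟨t, by rw [hc, ← ht]; ring⟩
    have h := Ideal.iInf_pow_eq_bot_of_isLocalRing (Ideal.span {π})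
      (ne_top_of_le_ne_top (maximalIdeal.isMaximal R).ne_top ((Ideal.span_singleton_le_iff_mem _).2 hπ))
    have hmem : φ (Ideal.Quotient.mk P 1) ∈ ⨅ i : ℕ, Ideal.span {π} ^ i := by
      rw [Ideal.mem_iInf]
      intro n
      obtain ⟨c, hc⟩ := hall n
      rw [Ideal.span_singleton_pow, hc]
      exact Ideal.mul_mem_right _ _ (Ideal.mem_span_singleton_self _)
    rw [h] at hmem
    exact hmem
  have hpow : ∀ (n : ℕ) (r : R), π ^ n * r = 0 → r = 0 := fun n => by
    induction n with
    | zero => exact fun r h => by simpa using h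
    | succ n ih => exact fun r h => hreg r (ih _ (by rw [← h]; ring))
  have hPr' : ∀ p ∈ P, p * r' = 0 := fun p hp => hpow k _ (by rw [← hPr p hp, hk]; ring)
  have hfin : (Ideal.span {π}).minimalPrimes.Finite := Ideal.finite_minimalPrimes_of_isNoetherianRing _ _
  have hsub : ¬ (maximalIdeal R : Set R) ⊆ ⋃ Q ∈ (hfin.toFinset : Set (Ideal R)), (Q : Set R) := by
    rw [Ideal.subset_union_prime ⊥ ⊥ fun Q hQ _ _ => ((hfin.mem_toFinset).1 hQ).1.1]
    rintro ⟨Q, hQ, hle⟩
    refine hne ?_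
    rw [← Ideal.sInf_minimalPrimes]
    refine le_sInf fun Q' hQ' => ?_
    have hQm : Q = maximalIdeal R :=
      le_antisymm (le_maximalIdeal ((hfin.mem_toFinset).1 hQ).1.1.ne_top) hle
    have hQ'le : Q' ≤ Q := hQm ▸ le_maximalIdeal hQ'.1.1.ne_top
    exact hle.trans (((hfin.mem_toFinset).1 hQ).2 hQ'.1 hQ'le)
  obtain ⟨a, ha, hau⟩ := Set.not_subset.1 hsub
  obtain ⟨N, hN⟩ := hPπ ha
  obtain ⟨p, hp, q, hq, hpq⟩ := Submodule.mem_sup.1 hN
  obtain ⟨c, rfl⟩ := Ideal.mem_span_singleton'.1 hq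
  refine hr' (hrad ?_)
  rw [← Ideal.sInf_minimalPrimes, Ideal.mem_sInf]
  intro Q hQ
  have hπQ : π ∈ Q := hQ.1.2 (Ideal.mem_span_singleton_self π)
  have hmem : a ^ N * r' ∈ Q := by
    rw [← hpq, add_mul, hPr' p hp, zero_add, mul_comm c π, mul_assoc]
    exact Ideal.mul_mem_right _ _ hπQ
  exact (hQ.1.1.mem_or_mem hmem).resolve_left fun h =>
    hau (Set.mem_biUnion (hfin.mem_toFinset.2 hQ) (hQ.1.1.mem_of_pow_mem N h))

/-- The uniformizer in the local ring at a point of the closed fibre. -/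
theorem exists_uniformizer {A : Type u} [CommRing A] [IsDomain A] [IsDiscreteValuationRing A]
    {Z : Scheme.{u}} (f : Z ⟶ Spec (CommRingCat.of A)) [LocallyOfFiniteType f] [Flat f] (q : Z)
    (hq : f q = closedPoint A)
    (hgr : q ∈ GenIrredLib.geomRedSet f) :
    ∃ π : Z.presheaf.stalk q, π ∈ maximalIdeal (Z.presheaf.stalk q) ∧ (∀ r, π * r = 0 → r = 0) ∧
      (Ideal.span {π}).radical ≤ Ideal.span {π} ∧
      ∀ P : PrimeSpectrum (Z.presheaf.stalk q), π ∈ P.asIdeal ↔ f (Z.fromSpecStalk q P) = closedPoint A := by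
  obtain ⟨w, hw⟩ : q ∈ Set.range (f.fiberι (f q)) := by rw [f.range_fiberι]; rfl
  obtain ⟨ϖ, hϖirr⟩ := IsDiscreteValuationRing.exists_irreducible A
  have hϖ : maximalIdeal A = Ideal.span {ϖ} := hϖirr.maximalIdeal_eq
  have hred : _root_.IsReduced ((f.fiber (f q)).presheaf.stalk w) := by
    refine GenIrredLib.isReduced_stalk_of_mem_geomRedSet (k := (Spec (CommRingCat.of A)).residueField (f q))
      (f.fiberToSpecResidueField (f q)) w ?_
    refine (GenIrredLib.mem_geomRedSet_of_isPullback f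
      (IsPullback.of_hasPullback f ((Spec (CommRingCat.of A)).fromSpecResidueField (f q))) w).1 ?_
    show f.fiberι (f q) w ∈ _
    rw [hw]
    exact hgr
  have key : ∀ z : Z, z = q → ∀ (_ : f z = closedPoint A) (I : Ideal (Z.presheaf.stalk z)),
      I = (maximalIdeal ((Spec (CommRingCat.of A)).presheaf.stalk (f z))).map (f.stalkMap z).hom →
      I.radical ≤ I → ∃ π : Z.presheaf.stalk z, π ∈ maximalIdeal (Z.presheaf.stalk z) ∧ (∀ r, π * r = 0 → r = 0) ∧
      (Ideal.span {π}).radical ≤ Ideal.span {π} ∧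
      ∀ P : PrimeSpectrum (Z.presheaf.stalk z), π ∈ P.asIdeal ↔ f (Z.fromSpecStalk z P) = closedPoint A := by
    intro z _ hfz I hI hIrad
    let S := (Spec (CommRingCat.of A)).presheaf.stalk (f z)
    let e : S ≃+* A := by
      let y := f z
      change ((Spec (CommRingCat.of A)).presheaf.stalk y) ≃+* A
      rw [show y = closedPoint A from hfz]
      exact (stalkClosedPointIso (CommRingCat.of A)).commRingCatIsoToRingEquiv
    haveI : IsDomain S := e.injective.isDomain e.toRingHom
    haveI : IsDiscreteValuationRing S :=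
      _root_.IsDiscreteValuationRing.RingEquivClass.isDiscreteValuationRing e.symm
    obtain ⟨π, hπ⟩ := IsDiscreteValuationRing.exists_irreducible S
    let σ : S →+* Z.presheaf.stalk z := (f.stalkMap z).hom
    have hspan : Ideal.span {σ π} = I := by
      rw [hI, hπ.maximalIdeal_eq, Ideal.map_span, Set.image_singleton]
    refine ⟨σ π, map_nonunit σ π (hπ.maximalIdeal_eq.ge (Ideal.mem_span_singleton_self π)), fun r hr => ?_,
      by rw [hspan]; exact hIrad, fun P => ?_⟩
    · letI : Algebra S (Z.presheaf.stalk z) := σ.toAlgebra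
      haveI : Module.Flat S (Z.presheaf.stalk z) := Flat.stalkMap f z
      exact Module.Flat.isSMulRegular_of_nonZeroDivisors (mem_nonZeroDivisors_of_ne_zero hπ.ne_zero)
        (show π • r = π • (0 : Z.presheaf.stalk z) by rw [smul_zero, Algebra.smul_def]; exact hr)
    · have hsq : f (Z.fromSpecStalk z P) =
          (Spec (CommRingCat.of A)).fromSpecStalk (f z) (PrimeSpectrum.comap σ P) := by
        rw [← Scheme.Hom.comp_apply, ← Scheme.SpecMap_stalkMap_fromSpecStalk f, Scheme.Hom.comp_apply]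
        rfl
      have h0 : (Spec (CommRingCat.of A)).fromSpecStalk (f z) (closedPoint S) = f z :=
        Scheme.fromSpecStalk_closedPoint
      rw [hsq]
      constructor
      · intro hP
        have hcp : PrimeSpectrum.comap σ P = closedPoint S := PrimeSpectrum.ext
          (le_antisymm (le_maximalIdeal (PrimeSpectrum.comap σ P).isPrime.ne_top)
            (show maximalIdeal S ≤ _ by rw [hπ.maximalIdeal_eq, Ideal.span_singleton_le_iff_mem]; exact hP))
        rw [hcp]
        exact h0.trans hfz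
      · intro hP
        have hcp : PrimeSpectrum.comap σ P = closedPoint S :=
          (Scheme.Hom.isEmbedding _).injective (hP.trans (hfz.symm.trans h0.symm))
        show π ∈ (PrimeSpectrum.comap σ P).asIdeal
        rw [hcp]
        exact hπ.maximalIdeal_eq.ge (Ideal.mem_span_singleton_self π)
  have h := key (f.fiberι (f q) w) hw (by rw [hw]; exact hq) _ rfl (by
    rw [← FlatLocus.ker_fiberι_stalkMap f (f q) w]
    rintro r ⟨n, hn⟩
    rw [RingHom.mem_ker] at hn ⊢
    rw [map_pow] at hn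
    exact IsReduced.eq_zero _ ⟨n, hn⟩)
  rwa [hw] at h

/-- Over a discrete valuation ring, a component of a flat family with reduced special fibre meets the special
fibre in components of it. -/
theorem exists_maxInFibre_between {A : Type u} [CommRing A] [IsDomain A] [IsDiscreteValuationRing A]
    {Z : Scheme.{u}} (f : Z ⟶ Spec (CommRingCat.of A)) [LocallyOfFiniteType f] [Flat f]
    (hgr : ∀ q : Z, q ∈ GenIrredLib.geomRedSet f) {ζ q₀ : Z} (hζ : IsMaxPt ζ) (hζq : ζ ⤳ q₀)
    (hq : f q₀ = closedPoint A) (hζA : f ζ ≠ closedPoint A) :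
    ∃ q : Z, ζ ⤳ q ∧ q ⤳ q₀ ∧ f q = closedPoint A ∧ MaxInFibre f q := by
  haveI : IsLocallyNoetherian Z := LocallyOfFiniteType.isLocallyNoetherian f
  obtain ⟨π₀, hπ₀m, -, -, hπ₀⟩ := exists_uniformizer f q₀ hq (hgr _)
  obtain ⟨P₀, hP₀⟩ : ζ ∈ Set.range (Z.fromSpecStalk q₀) := by rw [Scheme.range_fromSpecStalk]; exact hζq
  obtain ⟨Q₀, hQ₀, -⟩ := Ideal.exists_minimalPrimes_le
    (sup_le (le_maximalIdeal P₀.isPrime.ne_top) ((Ideal.span_singleton_le_iff_mem _).2 hπ₀m) :
      P₀.asIdeal ⊔ Ideal.span {π₀} ≤ maximalIdeal _)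
  let Q₁ : PrimeSpectrum (Z.presheaf.stalk q₀) := ⟨Q₀, hQ₀.1.1⟩
  let q := Z.fromSpecStalk q₀ Q₁
  have hq₀ : q ⤳ q₀ := by
    have : q ∈ Set.range (Z.fromSpecStalk q₀) := ⟨_, rfl⟩
    rwa [Scheme.range_fromSpecStalk] at this
  have hζq' : ζ ⤳ q := by
    rw [← hP₀]
    exact ((PrimeSpectrum.le_iff_specializes P₀ Q₁).1 (le_sup_left.trans hQ₀.1.2)).map (Z.fromSpecStalk q₀).continuous
  have hfq : f q = closedPoint A :=
    (hπ₀ Q₁).1 (hQ₀.1.2 (Ideal.mem_sup_right (Ideal.mem_span_singleton_self _)))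
  have hmin : ∀ z : Z, ζ ⤳ z → z ⤳ q → f z = closedPoint A → z = q := by
    intro z hζz hzq hfz
    obtain ⟨Pz, hPz⟩ : z ∈ Set.range (Z.fromSpecStalk q₀) := by
      rw [Scheme.range_fromSpecStalk]; exact hzq.trans hq₀
    have h1 : P₀.asIdeal ≤ Pz.asIdeal := (PrimeSpectrum.le_iff_specializes P₀ Pz).2
      ((Z.fromSpecStalk q₀).isEmbedding.isInducing.specializes_iff.1 (by rw [hP₀, hPz]; exact hζz))
    have h2 : Pz.asIdeal ≤ Q₀ := (PrimeSpectrum.le_iff_specializes Pz Q₁).2
      ((Z.fromSpecStalk q₀).isEmbedding.isInducing.specializes_iff.1 (by rw [hPz]; exact hzq))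
    have h3 : π₀ ∈ Pz.asIdeal := (hπ₀ Pz).2 (by rw [hPz]; exact hfz)
    rw [← hPz, show Pz = Q₁ from PrimeSpectrum.ext (le_antisymm h2
      (hQ₀.2 ⟨Pz.isPrime, sup_le h1 ((Ideal.span_singleton_le_iff_mem _).2 h3)⟩ h2))]
  refine ⟨q, hζq', hq₀, hfq, fun z hfz hzq => ?_⟩
  obtain ⟨π, hπm, hreg, hrad, hπ⟩ := exists_uniformizer f q hfq (hgr _)
  obtain ⟨P, hP⟩ : ζ ∈ Set.range (Z.fromSpecStalk q) := by rw [Scheme.range_fromSpecStalk]; exact hζq'
  have hspec : ∀ Q : PrimeSpectrum (Z.presheaf.stalk q), Z.fromSpecStalk q Q ⤳ q := fun Q => by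
    have : Z.fromSpecStalk q Q ∈ Set.range (Z.fromSpecStalk q) := ⟨_, rfl⟩
    rwa [Scheme.range_fromSpecStalk] at this
  have hPmin : P.asIdeal ∈ minimalPrimes (Z.presheaf.stalk q) := by
    refine ⟨⟨P.isPrime, bot_le⟩, fun Q hQ hQP => ?_⟩
    have h1 : Z.fromSpecStalk q ⟨Q, hQ.1⟩ = ζ := hζ _ (by
      rw [← hP]
      exact ((PrimeSpectrum.le_iff_specializes ⟨Q, hQ.1⟩ P).1 hQP).map (Z.fromSpecStalk q).continuous)
    have h2 : (⟨Q, hQ.1⟩ : PrimeSpectrum (Z.presheaf.stalk q)) = P :=
      (Z.fromSpecStalk q).isEmbedding.injective (h1.trans hP.symm)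
    exact (congrArg PrimeSpectrum.asIdeal h2).symm.le
  have hm : maximalIdeal (Z.presheaf.stalk q) ≤ (P.asIdeal ⊔ Ideal.span {π}).radical := by
    rw [← Ideal.sInf_minimalPrimes]
    refine le_sInf fun Q hQ => ?_
    let Q' : PrimeSpectrum (Z.presheaf.stalk q) := ⟨Q, hQ.1.1⟩
    have h1 : ζ ⤳ Z.fromSpecStalk q Q' := by
      rw [← hP]
      exact ((PrimeSpectrum.le_iff_specializes P Q').1 (le_sup_left.trans hQ.1.2)).map (Z.fromSpecStalk q).continuous
    have h2 := hmin _ h1 (hspec _) ((hπ Q').1 (hQ.1.2 (Ideal.mem_sup_right (Ideal.mem_span_singleton_self _))))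
    have h3 : Q' = closedPoint (Z.presheaf.stalk q) :=
      (Z.fromSpecStalk q).isEmbedding.injective (h2.trans Scheme.fromSpecStalk_closedPoint.symm)
    exact (congrArg PrimeSpectrum.asIdeal h3).ge
  have hmax := no_curve_component π hreg hπm hrad P.asIdeal hPmin hm
  obtain ⟨Pz, hPz⟩ : z ∈ Set.range (Z.fromSpecStalk q) := by rw [Scheme.range_fromSpecStalk]; exact hzq
  have h4 : π ∈ Pz.asIdeal := (hπ Pz).2 (by rw [hPz]; exact hfz.trans hfq)
  have h5 : Pz = closedPoint (Z.presheaf.stalk q) := PrimeSpectrum.ext (le_antisymm (le_maximalIdeal Pz.isPrime.ne_top)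
    (hmax.trans ((Pz.isPrime.radical_le_iff).2 ((Ideal.span_singleton_le_iff_mem _).2 h4))))
  rw [← hPz, h5]
  exact Scheme.fromSpecStalk_closedPoint

/-- For a universally open morphism with geometrically reduced fibres, a component through `x` has generic
fibre of dimension at least that of the components of the fibre through `x`. -/
theorem le_trd_of_isMaxPt {X Y : Scheme.{u}} [IsLocallyNoetherian Y] (g : X ⟶ Y) [LocallyOfFiniteType g]
    [UniversallyOpen g] (hgr : ∀ q : X, q ∈ GenIrredLib.geomRedSet g) {x ξ : X} (hξ : IsMaxPt ξ) (hξx : ξ ⤳ x)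
    (e : ℕ) (he : ∀ w : X, g w = g x → w ⤳ x → FlatMor.fibreDimAt g w = (e : WithBot ℕ∞)) :
    e ≤ trd g ξ := by
  have hξfib : FlatMor.fibreDimAt g ξ = (trd g ξ : WithBot ℕ∞) := fibreDimAt_eq_trd g fun z _ hz => hξ z hz
  by_cases hne : ξ = x
  · subst hne
    have h := he ξ rfl (specializes_refl _)
    rw [hξfib] at h
    exact le_of_eq (by exact_mod_cast h.symm)
  haveI : IsLocallyNoetherian X := LocallyOfFiniteType.isLocallyNoetherian g
  obtain ⟨A, _, _, _, k, hkc, hkg⟩ := UnivOpenAtLib.exists_dvr_specialization hξx hne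
  let p₁ := pullback.fst g (k ≫ g)
  let p₂ := pullback.snd g (k ≫ g)
  have sq : IsPullback p₁ p₂ g (k ≫ g) := IsPullback.of_hasPullback _ _
  have hgr' : ∀ q, q ∈ GenIrredLib.geomRedSet p₂ := fun q =>
    (GenIrredLib.mem_geomRedSet_of_isPullback g sq q).1 (hgr _)
  haveI : UniversallyOpen p₂ := MorphismProperty.pullback_snd _ _ inferInstance
  haveI : LocallyOfFiniteType p₂ := MorphismProperty.pullback_snd _ _ inferInstance
  haveI : Flat p₂ := S2560.result p₂ hgr'
  let s : Spec (CommRingCat.of A) ⟶ pullback g (k ≫ g) := pullback.lift k (𝟙 _) (by simp)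
  have hs₁ : ∀ t, p₁ (s t) = k t := fun t => by rw [← Scheme.Hom.comp_apply, pullback.lift_fst]
  have hs₂ : ∀ t, p₂ (s t) = t := fun t => by rw [← Scheme.Hom.comp_apply, pullback.lift_snd]; rfl
  let η : Spec (CommRingCat.of A) := (⟨⊥, Ideal.isPrime_bot⟩ : PrimeSpectrum A)
  have hη : η ≠ closedPoint A := fun h =>
    IsDiscreteValuationRing.not_a_field A (congrArg PrimeSpectrum.asIdeal h).symm
  let Z := irreducibleComponent (s η)
  obtain ⟨ζ, hζZ⟩ := QuasiSober.sober (isIrreducible_irreducibleComponent (x := s η)) isClosed_irreducibleComponent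
  have hζ : IsMaxPt ζ := isMaxPt_of_closure_mem (by
    rw [hζZ.def]; exact irreducibleComponent_mem_irreducibleComponents (s η))
  have hζη : ζ ⤳ s η := hζZ.specializes mem_irreducibleComponent
  have hp₁ : p₁ ζ = ξ := hξ _ (by
    have h1 := hζη.map p₁.continuous
    rwa [hs₁, show k η = ξ from hkg η hη] at h1)
  have hp₂ : p₂ ζ = η := by
    have h1 := hζη.map p₂.continuous
    rw [hs₂] at h1
    exact PrimeSpectrum.ext (le_bot_iff.1 ((PrimeSpectrum.le_iff_specializes (p₂ ζ) η).2 h1))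
  have hζq : ζ ⤳ s (closedPoint A) := hζη.trans ((IsLocalRing.specializes_closedPoint η).map s.continuous)
  obtain ⟨q, hζq', hqx, hfq, hqmax⟩ := exists_maxInFibre_between p₂ hgr' hζ hζq (hs₂ _) (by rw [hp₂]; exact hη)
  have h1 : FlatMor.fibreDimAt p₂ q = (e : WithBot ℕ∞) := by
    rw [LocDimBC.fibreDimAt_baseChange sq]
    refine he _ ?_ ?_
    · rw [← Scheme.Hom.comp_apply, sq.w, Scheme.Hom.comp_apply, hfq, Scheme.Hom.comp_apply, hkc]
    · have := hqx.map p₁.continuous
      rwa [hs₁, hkc] at this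
  have h2 : FlatMor.fibreDimAt p₂ ζ = (trd g ξ : WithBot ℕ∞) := by
    rw [LocDimBC.fibreDimAt_baseChange sq, hp₁, hξfib]
  rw [fibreDimAt_eq_trd p₂ hqmax] at h1
  rw [fibreDimAt_eq_trd p₂ fun z _ hz => hζ z hz] at h2
  have h3 := trd_le_of_valuationRing p₂ hfq hζq' hp₂
  have h1' : trd p₂ q = e := by exact_mod_cast h1
  have h2' : trd p₂ ζ = trd g ξ := by exact_mod_cast h2
  omega

end Groth.Agent.OpenDim
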