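import Mathlib
import Groth.Agent.OpenDim.ReducedEquidim
import Groth.Agent.OpenDim.DVRDomain
import Groth.Agent.OpenDim.Hypersurface

/-!
# Universally open, geometrically reduced fibres, integral at the point, unibranch base: one component
-/

set_option autoImplicit false
set_option linter.style.haveILetI false
set_option backward.isDefEq.respectTransparency false
set_option backward.defeqAttrib.useBackward true
set_option maxHeartbeats 1000000

open CategoryTheory CategoryTheory.Limits AlgebraicGeometry Topology TopologicalSpace IsLocalRing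

universe u

namespace Groth.Agent.OpenDim

/-- Generic points of fibre components go to generic points of fibre components under base change. -/
theorem maxInFibre_fst {X Y X' Y' : Scheme.{u}} {f : X ⟶ Y} {g : Y' ⟶ Y} {g' : X' ⟶ X} {f' : X' ⟶ Y'}
    (sq : IsPullback g' f' f g) {q : X'} (hq : MaxInFibre f' q) : MaxInFibre f (g' q) := by
  let y' := f' q
  let y := g y'
  have hy : f (g' q) = y := by
    rw [← Scheme.Hom.comp_apply, sq.w, Scheme.Hom.comp_apply]
  have sq₁ : IsPullback (f'.fiberι y' ≫ g') (f'.fiberToSpecResidueField y') f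
      (Y'.fromSpecResidueField y' ≫ g) :=
    (IsPullback.of_hasPullback f' (Y'.fromSpecResidueField y')).paste_horiz sq
  have sq₂ : IsPullback (f.fiberι y) (f.fiberToSpecResidueField y) f (Y.fromSpecResidueField y) :=
    IsPullback.of_hasPullback f (Y.fromSpecResidueField y)
  rw [← g.SpecMap_residueFieldMap_fromSpecResidueField y'] at sq₁
  let ρ : f'.fiber y' ⟶ f.fiber y := sq₂.lift (f'.fiberι y' ≫ g')
    (f'.fiberToSpecResidueField y' ≫ Spec.map (g.residueFieldMap y'))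
    (by rw [sq₁.w, Category.assoc])
  have sq₃ : IsPullback ρ (f'.fiberToSpecResidueField y') (f.fiberToSpecResidueField y)
      (Spec.map (g.residueFieldMap y')) :=
    IsPullback.of_right (by rw [sq₂.lift_fst]; exact sq₁) (sq₂.lift_snd _ _ _) sq₂
  haveI : Flat (Spec.map (g.residueFieldMap y')) := by
    refine (HasRingHomProperty.Spec_iff (P := @Flat)).2 ?_
    algebraize [(g.residueFieldMap y').hom]
    exact Module.Flat.of_free
  haveI : Flat ρ := MorphismProperty.of_isPullback sq₃.flip ‹_›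
  have hρ : ∀ v, f.fiberι y (ρ v) = g' (f'.fiberι y' v) := fun v => by
    rw [← Scheme.Hom.comp_apply, sq₂.lift_fst, Scheme.Hom.comp_apply]
  intro x₁ hx₁ hs
  obtain ⟨v, rfl⟩ : x₁ ∈ Set.range (f.fiberι y) := by
    rw [f.range_fiberι]
    exact hx₁.trans hy
  have h2 : v ⤳ ρ (f'.asFiber q) := (f.fiberι y).isEmbedding.isInducing.specializes_iff.1
    (by rw [hρ, f'.fiberι_asFiber]; exact hs)
  obtain ⟨v', hv', rfl⟩ := Flat.generalizingMap ρ h2
  rw [hρ]
  congr 1
  refine hq _ ?_ ?_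
  · exact (f'.fiberHomeo y' v').2
  · have := hv'.map (f'.fiberι y').continuous
    rwa [f'.fiberι_asFiber] at this

/-- With geometrically reduced fibres, universal openness and geometric unibranchness of the base at `g x`,
a point lying on one fibre component lies on one component. -/
theorem eq_of_isMaxPt_of_geomUnibranch {X Y : Scheme.{u}} [IsLocallyNoetherian Y] (g : X ⟶ Y)
    [LocallyOfFiniteType g] [UniversallyOpen g] (hgr : ∀ q : X, q ∈ GenIrredLib.geomRedSet g) {x : X}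
    (hu : CAlg2.IsGeomUnibranch (Y.presheaf.stalk (g x)))
    {w : X} (hwx : w ⤳ x) (hgw : g w = g x) (hwmax : MaxInFibre g w)
    (huniq : ∀ ζ : X, g ζ = g x → ζ ⤳ x → MaxInFibre g ζ → ζ = w)
    {ξ₁ ξ₂ : X} (h₁ : ξ₁ ⤳ x) (h₂ : ξ₂ ⤳ x) (hm₁ : IsMaxPt ξ₁) (hm₂ : IsMaxPt ξ₂) : ξ₁ = ξ₂ := by
  haveI : IsLocallyNoetherian X := LocallyOfFiniteType.isLocallyNoetherian g
  obtain ⟨η, hη, hηmax, hηgen⟩ := exists_generic_of_geomUnibranch _ hu
  have himg : ∀ ξ : X, ξ ⤳ x → IsMaxPt ξ → g ξ = η := by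
    intro ξ hξx hξ
    have hmax : IsMaxPt (g ξ) := fun y' hy' => by
      obtain ⟨z, hz, hzy⟩ := (S3404.result g ξ).1 (fun V hV => g.isOpenMap.image_mem_nhds hV) y' hy'
      rw [← hzy, hξ z hz]
    exact ((hmax η (hηgen _ (hξx.map g.continuous))).symm)
  by_cases hηy : η = g x
  · have h : ∀ ξ : X, ξ ⤳ x → IsMaxPt ξ → ξ = w := fun ξ hξx hξ =>
      huniq ξ ((himg ξ hξx hξ).trans hηy) hξx fun z _ hz => hξ z hz
    rw [h _ h₁ hm₁, h _ h₂ hm₂]
  have hξw : ∀ ξ : X, ξ ⤳ x → IsMaxPt ξ → ξ ⤳ w := by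
    intro ξ hξx hξ
    have hne : ξ ≠ x := fun h => hηy (by rw [← himg ξ hξx hξ, h])
    obtain ⟨A, _, _, _, k, hkc, hkg⟩ := UnivOpenAtLib.exists_dvr_specialization hξx hne
    let p₁ := pullback.fst g (k ≫ g)
    let p₂ := pullback.snd g (k ≫ g)
    have sq : IsPullback p₁ p₂ g (k ≫ g) := IsPullback.of_hasPullback _ _
    have hgr' : ∀ q, q ∈ GenIrredLib.geomRedSet p₂ := fun q =>
      (GenIrredLib.mem_geomRedSet_of_isPullback g sq q).1 (hgr _)
    haveI : UniversallyOpen p₂ := MorphismProperty.pullback_snd _ _ inferInstance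
    haveI : LocallyOfFiniteType p₂ := MorphismProperty.pullback_snd _ _ inferInstance
    haveI : Flat p₂ := S2560.result p₂ hgr'
    let s : Spec (CommRingCat.of A) ⟶ pullback g (k ≫ g) := pullback.lift k (𝟙 _) (by simp)
    have hs₁ : ∀ t, p₁ (s t) = k t := fun t => by rw [← Scheme.Hom.comp_apply, pullback.lift_fst]
    have hs₂ : ∀ t, p₂ (s t) = t := fun t => by rw [← Scheme.Hom.comp_apply, pullback.lift_snd]; rfl
    let η' : Spec (CommRingCat.of A) := (⟨⊥, Ideal.isPrime_bot⟩ : PrimeSpectrum A)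
    have hη' : η' ≠ closedPoint A := fun h =>
      IsDiscreteValuationRing.not_a_field A (congrArg PrimeSpectrum.asIdeal h).symm
    obtain ⟨ζ, hζZ⟩ := QuasiSober.sober (isIrreducible_irreducibleComponent (x := s η')) isClosed_irreducibleComponent
    have hζ : IsMaxPt ζ := isMaxPt_of_closure_mem (by
      rw [hζZ.def]; exact irreducibleComponent_mem_irreducibleComponents (s η'))
    have hζη : ζ ⤳ s η' := hζZ.specializes mem_irreducibleComponent
    have hp₁ : p₁ ζ = ξ := hξ _ (by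
      have h1 := hζη.map p₁.continuous
      rwa [hs₁, show k η' = ξ from hkg η' hη'] at h1)
    have hp₂ : p₂ ζ = η' := by
      have h1 := hζη.map p₂.continuous
      rw [hs₂] at h1
      exact PrimeSpectrum.ext (le_bot_iff.1 ((PrimeSpectrum.le_iff_specializes (p₂ ζ) η').2 h1))
    obtain ⟨q, hζq, hqx, hfq, hqmax⟩ := exists_maxInFibre_between p₂ hgr' hζ
      (hζη.trans ((IsLocalRing.specializes_closedPoint η').map s.continuous)) (hs₂ _) (by rw [hp₂]; exact hη')
    have hqx' : p₁ q ⤳ x := by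
      have := hqx.map p₁.continuous
      rwa [hs₁, hkc] at this
    have hgq : g (p₁ q) = g x := by
      rw [← Scheme.Hom.comp_apply, sq.w, Scheme.Hom.comp_apply, hfq, Scheme.Hom.comp_apply, hkc]
    rw [← huniq _ hgq hqx' (maxInFibre_fst sq hqmax), ← hp₁]
    exact hζq.map p₁.continuous
  have huw : CAlg2.IsGeomUnibranch (Y.presheaf.stalk (g w)) := by rw [hgw]; exact hu
  have htrd : ∀ ξ : X, ξ ⤳ x → IsMaxPt ξ → trd g ξ = trd g w := by
    intro ξ hξx hξ
    refine le_antisymm (trd_le_of_specializes_maxInFibre g hwmax (hξw ξ hξx hξ))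
      (le_trd_of_isMaxPt g hgr hξ hξx _ fun z hz hzx => ?_)
    obtain ⟨ζ, hζf, hζz, hζmax, hζ⟩ := exists_maxInFibre_fibreDimAt g z
    rw [hζ, huniq ζ (hζf.trans hz) (hζz.trans hzx) hζmax]
  -- a valuation ring at `η ⤳ g x` and a generic point of the fibre over `w`
  obtain ⟨A, _, _, _, k, hkc, hkg⟩ := UnivOpenAtLib.exists_dvr_specialization hη hηy
  let p₁ := pullback.fst g k
  let p₂ := pullback.snd g k
  have sq : IsPullback p₁ p₂ g k := IsPullback.of_hasPullback _ _
  have hgr' : ∀ q, q ∈ GenIrredLib.geomRedSet p₂ := fun q =>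
    (GenIrredLib.mem_geomRedSet_of_isPullback g sq q).1 (hgr _)
  haveI : UniversallyOpen p₂ := MorphismProperty.pullback_snd _ _ inferInstance
  haveI : LocallyOfFiniteType p₂ := MorphismProperty.pullback_snd _ _ inferInstance
  haveI : IsLocallyNoetherian (pullback g k) := LocallyOfFiniteType.isLocallyNoetherian p₂
  obtain ⟨w₀, hw₀, hw₀'⟩ := Scheme.Pullback.exists_preimage_pullback (f := g) (g := k) w (closedPoint A)
    (hgw.trans hkc.symm)
  obtain ⟨w', hfw', hw'w₀, hw'max⟩ := exists_max_in_fibre p₂ w₀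
  have hw'c : p₂ w' = closedPoint A := hfw'.trans hw₀'
  have hw'w : p₁ w' = w := by
    refine hwmax _ ?_ ?_
    · rw [← Scheme.Hom.comp_apply, sq.w, Scheme.Hom.comp_apply, hw'c, hkc, hgw]
    · have := hw'w₀.map p₁.continuous
      rwa [show p₁ w₀ = w from hw₀] at this
  have hgen : ∀ ξ : X, ξ ⤳ x → IsMaxPt ξ → ∃ z, z ⤳ w' ∧ p₁ z = ξ := by
    intro ξ hξx hξ
    let C : Closeds X := Closeds.closure {ξ}
    let Z := (Scheme.IdealSheafData.vanishingIdeal C).subscheme
    let i : Z ⟶ X := (Scheme.IdealSheafData.vanishingIdeal C).subschemeι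
    have hi : Set.range i = closure ({ξ} : Set X) := by
      rw [Scheme.IdealSheafData.range_subschemeι, Scheme.IdealSheafData.coe_support_vanishingIdeal]
      rfl
    obtain ⟨ξ', hξ'⟩ : ξ ∈ Set.range i := by rw [hi]; exact subset_closure rfl
    obtain ⟨v, hv⟩ : w ∈ Set.range i := by rw [hi]; exact specializes_iff_mem_closure.1 (hξw ξ hξx hξ)
    have hξ'v : ξ' ⤳ v := i.isEmbedding.isInducing.specializes_iff.1 (by rw [hξ', hv]; exact hξw ξ hξx hξ)
    have hgξ' : (i ≫ g) ξ' = η := by rw [Scheme.Hom.comp_apply, hξ']; exact himg ξ hξx hξ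
    have hvmax : MaxInFibre (i ≫ g) v := fun z hz hzs => i.isEmbedding.injective (by
      rw [hv]
      refine hwmax _ ?_ (hv ▸ hzs.map i.continuous)
      rw [← Scheme.Hom.comp_apply, hz, Scheme.Hom.comp_apply, hv])
    have hopen : EGA43.IsUnivOpenAt (i ≫ g) v := by
      refine univOpenAt_of_trd (i ≫ g) v hvmax (by rw [Scheme.Hom.comp_apply, hv]; exact huw) ξ' hξ'v
        (by rw [hgξ']; exact hηmax) ?_
      rw [trd_eq_iff, trd_closedImmersion, trd_closedImmersion, hξ', hv]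
      exact htrd ξ hξx hξ
    have sqZ : IsPullback (pullback.fst i p₁) (pullback.snd i p₁ ≫ p₂) (i ≫ g) k :=
      (IsPullback.of_hasPullback i p₁).paste_vert sq
    obtain ⟨v', hv'₁, hv'₂⟩ := Scheme.Pullback.exists_preimage_pullback (f := i) (g := p₁) v w'
      (hv.trans hw'w.symm)
    have hop := UnivOpenAtLib.isOpenAt_of_isPullback hopen sqZ v' hv'₁
    obtain ⟨η', hη'⟩ : ∃ η' : Spec (CommRingCat.of A), η' ≠ closedPoint A :=
      ⟨(⟨⊥, Ideal.isPrime_bot⟩ : PrimeSpectrum A),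
        fun he => IsDiscreteValuationRing.not_a_field A (congrArg PrimeSpectrum.asIdeal he).symm⟩
    obtain ⟨z, hzv, hzη⟩ := (S3404.result (pullback.snd i p₁ ≫ p₂) v').1 hop η'
      (by rw [Scheme.Hom.comp_apply, hv'₂, hw'c]; exact IsLocalRing.specializes_closedPoint η')
    obtain ⟨z₀, hz₀f, hz₀z, hz₀max⟩ := exists_max_in_fibre (pullback.snd i p₁ ≫ p₂) z
    refine ⟨pullback.snd i p₁ z₀, hv'₂ ▸ (hz₀z.trans hzv).map (pullback.snd i p₁).continuous, ?_⟩
    have h1 : pullback.fst i p₁ z₀ = ξ' := by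
      refine (maxInFibre_fst sqZ hz₀max _ ?_ ?_).symm
      · rw [hgξ', ← Scheme.Hom.comp_apply, sqZ.w, Scheme.Hom.comp_apply, hz₀f, hzη, hkg η' hη']
      · refine i.isEmbedding.isInducing.specializes_iff.1 ?_
        rw [hξ', specializes_iff_mem_closure, ← hi]
        exact ⟨_, rfl⟩
    rw [← Scheme.Hom.comp_apply, ← pullback.condition, Scheme.Hom.comp_apply, h1, hξ']
  obtain ⟨z₁, hz₁, hp₁₁⟩ := hgen ξ₁ h₁ hm₁
  obtain ⟨z₂, hz₂, hp₁₂⟩ := hgen ξ₂ h₂ hm₂
  have hsob : ∀ z : ↥(pullback g k), ∃ ζ, IsMaxPt ζ ∧ ζ ⤳ z := fun z => by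
    obtain ⟨ζ, hζZ⟩ := QuasiSober.sober (isIrreducible_irreducibleComponent (x := z)) isClosed_irreducibleComponent
    exact ⟨ζ, isMaxPt_of_closure_mem (by rw [hζZ.def]; exact irreducibleComponent_mem_irreducibleComponents z),
      hζZ.specializes mem_irreducibleComponent⟩
  obtain ⟨ζ₁, hζ₁, hζz₁⟩ := hsob z₁
  obtain ⟨ζ₂, hζ₂, hζz₂⟩ := hsob z₂
  obtain ⟨v, hv⟩ : w' ∈ Set.range (p₂.fiberι (p₂ w')) := by rw [p₂.range_fiberι]; rfl
  have hred : _root_.IsReduced ((p₂.fiber (p₂ w')).presheaf.stalk v) := by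
    refine GenIrredLib.isReduced_stalk_of_mem_geomRedSet (k := (Spec (CommRingCat.of A)).residueField (p₂ w'))
      (p₂.fiberToSpecResidueField (p₂ w')) v ?_
    refine (GenIrredLib.mem_geomRedSet_of_isPullback p₂
      (IsPullback.of_hasPullback p₂ ((Spec (CommRingCat.of A)).fromSpecResidueField (p₂ w'))) v).1 ?_
    exact hgr' _
  have heq : ζ₁ = ζ₂ := eq_of_isMaxPt_of_unique p₂ w' hw'c v hv hred w' rfl (specializes_refl _) hw'max
    (fun ζ' a b _ => hw'max ζ' a b) (fun V hV => p₂.isOpenMap.image_mem_nhds hV)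
    (hζz₁.trans hz₁) (hζz₂.trans hz₂) hζ₁ hζ₂
  have e₁ : p₁ ζ₁ = ξ₁ := hm₁ _ (hp₁₁ ▸ hζz₁.map p₁.continuous)
  have e₂ : p₁ ζ₂ = ξ₂ := hm₂ _ (hp₁₂ ▸ hζz₂.map p₁.continuous)
  rw [← e₁, ← e₂, heq]

end Groth.Agent.OpenDim
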